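import Mathlib

/-!
# Three multiples of an additive subgroup of a finite field of characteristic two
-/

set_option autoImplicit false
set_option linter.unusedSectionVars false

namespace CfsgLib.CharsMore.BinaryPSL2

variable {F : Type*} [Field F] [Finite F] [CharP F 2]

/-- Some `a ∈ A` is a sum from `s A` and `t A` but not from `A ⊓ s A` and `t A`. -/
theorem exists_additive_triple (A : AddSubgroup F) (h0 : A ≠ ⊥) (h1 : A ≠ ⊤) :
    ∃ s t : F, s ≠ 0 ∧ t ≠ 0 ∧ ∃ a ∈ A, ∃ b ∈ A, ∃ c ∈ A, a = s * b + t * c ∧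
      ∀ k ∈ A, ∀ k' ∈ A, k = s * k' → ∀ k'' ∈ A, a ≠ k + t * k'' := by
  classical
  haveI := Fintype.ofFinite F
  set Af : Finset F := Finset.univ.filter (· ∈ A) with hAf
  have mA : ∀ {x : F}, x ∈ Af ↔ x ∈ A := by simp [hAf]
  have hN : Af.card = Nat.card A := by
    rw [hAf, Nat.card_eq_fintype_card, Fintype.card_subtype]
  set N := Af.card
  obtain ⟨a₀, ha₀, ha₀0⟩ := (A.bot_or_exists_ne_zero).resolve_left h0
  have h2N : 2 ≤ N := by
    refine Finset.one_lt_card.2 ⟨0, mA.2 A.zero_mem, a₀, mA.2 ha₀, ha₀0.symm⟩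
  have half : ∀ S : AddSubgroup F, S ≠ ⊤ → 2 * Nat.card S ≤ Nat.card F := by
    intro S hS
    rw [← S.card_mul_index, mul_comm 2]
    exact Nat.mul_le_mul_left _ (AddSubgroup.one_lt_index_of_ne_top hS)
  have hNq : 2 * N ≤ Nat.card F := hN ▸ half A h1
  have cnt : ∀ x : F, x ≠ 0 → ((Finset.univ.erase (0 : F)).filter fun t => t * x ∈ A).card = N - 1 := by
    intro x hx
    rw [← Finset.card_erase_of_mem (mA.2 A.zero_mem)]
    refine Finset.card_bij (fun t _ => t * x) (fun t ht => ?_) (fun t _ t' _ h => mul_right_cancel₀ hx h) fun y hy => ?_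
    · simp only [Finset.mem_filter, Finset.mem_erase] at ht ⊢
      exact ⟨mul_ne_zero ht.1.1 hx, mA.2 ht.2⟩
    · obtain ⟨hy0, hyA⟩ := Finset.mem_erase.1 hy
      exact ⟨y / x, Finset.mem_filter.2 ⟨Finset.mem_erase.2 ⟨div_ne_zero hy0 hx, Finset.mem_univ _⟩,
        by rw [div_mul_cancel₀ _ hx]; exact mA.1 hyA⟩, div_mul_cancel₀ _ hx⟩
  let f : F → ℕ := fun s => (Af.filter fun y => s * y ∈ A).card
  let φs : F → (A × A →+ F) := fun s => A.subtype.comp (AddMonoidHom.fst A A) +
    ((AddMonoidHom.mulLeft s).comp A.subtype).comp (AddMonoidHom.snd A A)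
  have hφ : ∀ s (z : A × A), φs s z = (z.1 : F) + s * (z.2 : F) := fun s z => rfl
  have hprod : ∀ s : F, Nat.card (φs s).range * f s = N * N := by
    intro s
    have hk : Nat.card (φs s).ker = f s := by
      refine (Nat.card_congr ?_).trans (Nat.card_eq_finsetCard (Af.filter fun y => s * y ∈ A))
      exact
        { toFun := fun z => ⟨(z.1.2 : F), Finset.mem_filter.2 ⟨mA.2 z.1.2.2, by
            have h := z.2
            rw [AddMonoidHom.mem_ker, hφ] at h
            rw [← CharTwo.add_eq_zero.1 h]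
            exact z.1.1.2⟩⟩
          invFun := fun y => ⟨(⟨s * y.1, (Finset.mem_filter.1 y.2).2⟩, ⟨y.1, mA.1 (Finset.mem_filter.1 y.2).1⟩), by
            rw [AddMonoidHom.mem_ker, hφ]; exact CharTwo.add_self_eq_zero _⟩
          left_inv := fun z => by
            have h := z.2
            rw [AddMonoidHom.mem_ker, hφ] at h
            exact Subtype.ext (Prod.ext (Subtype.ext (CharTwo.add_eq_zero.1 h).symm) rfl)
          right_inv := fun y => rfl }
    rw [← hk, ← AddSubgroup.index_ker, mul_comm, AddSubgroup.card_mul_index, Nat.card_prod, ← hN]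
  obtain ⟨s, hs0, hcase⟩ : ∃ s : F, s ≠ 0 ∧ (f s = 1 ∨ (φs s).range = ⊤) := by
    by_contra! hcon
    have h2 : ∀ s ∈ Finset.univ.erase (0 : F), 2 ≤ f s ∧ 2 * (N * N) ≤ Nat.card F * f s := by
      intro s hs
      obtain ⟨hne1, hne⟩ := hcon s (Finset.mem_erase.1 hs).1
      have hpos : 0 < f s := Finset.card_pos.2 ⟨0, Finset.mem_filter.2 ⟨mA.2 A.zero_mem, by simp⟩⟩
      refine ⟨by omega, ?_⟩
      calc 2 * (N * N) = 2 * Nat.card (φs s).range * f s := by rw [← hprod s]; ring
        _ ≤ Nat.card F * f s := Nat.mul_le_mul_right _ (half _ hne)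
    have hq : (Finset.univ.erase (0 : F)).card = Nat.card F - 1 := by
      rw [Finset.card_erase_of_mem (Finset.mem_univ _), Finset.card_univ, Nat.card_eq_fintype_card]
    have hsum : ∑ s ∈ Finset.univ.erase (0 : F), f s = (Nat.card F - 1) + (N - 1) * (N - 1) := by
      simp only [f, Finset.card_filter]
      rw [Finset.sum_comm, ← Finset.add_sum_erase _ _ (mA.2 A.zero_mem)]
      congr 1
      · simp [A.zero_mem, hq]
      · rw [Finset.sum_congr rfl (g := fun _ => N - 1) (fun y hy => ?_), Finset.sum_const,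
          Finset.card_erase_of_mem (mA.2 A.zero_mem), smul_eq_mul]
        rw [← Finset.card_filter]
        exact cnt y (Finset.mem_erase.1 hy).1
    have e1 := Finset.card_nsmul_le_sum _ f 2 (fun s hs => (h2 s hs).1)
    have e2 := Finset.card_nsmul_le_sum _ (fun s => Nat.card F * f s) (2 * (N * N)) (fun s hs => (h2 s hs).2)
    rw [← Finset.mul_sum, hsum, hq, smul_eq_mul] at e2
    rw [hsum, hq, smul_eq_mul] at e1
    obtain ⟨n, hn⟩ : ∃ n, N = n + 1 := ⟨N - 1, by omega⟩
    obtain ⟨m, hm⟩ : ∃ m, Nat.card F = m + 1 := ⟨Nat.card F - 1, by omega⟩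
    rw [hm, Nat.add_sub_cancel, hn, Nat.add_sub_cancel] at e1 e2
    rw [hm, hn] at hNq
    have e3 : m ≤ n * n := by omega
    nlinarith [Nat.mul_le_mul_left (m + 1) e3, Nat.mul_le_mul hNq (le_refl (n + 1)), Nat.mul_le_mul_left m hNq]
  rcases hcase with hf | hsur
  · -- the multiple meets `A` trivially
    have htriv : ∀ y ∈ A, s * y ∈ A → y = 0 := fun y hy hsy =>
      Finset.card_le_one.1 hf.le y (Finset.mem_filter.2 ⟨mA.2 hy, hsy⟩) 0
        (Finset.mem_filter.2 ⟨mA.2 A.zero_mem, by simp⟩)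
    set d := a₀ + s * a₀ with hd
    have hd0 : d ≠ 0 := fun h => ha₀0 (htriv a₀ ha₀ ((CharTwo.add_eq_zero.1 (hd ▸ h :)) ▸ ha₀))
    obtain ⟨t, ht, htd, hta⟩ : ∃ t : F, t ≠ 0 ∧ t * d ∈ A ∧ t * a₀ ∉ A := by
      by_contra! hsub
      have heq : ((Finset.univ.erase (0 : F)).filter fun t => t * d ∈ A) =
          (Finset.univ.erase (0 : F)).filter fun t => t * a₀ ∈ A := by
        refine Finset.eq_of_subset_of_card_le (fun t ht => ?_) (by rw [cnt d hd0, cnt a₀ ha₀0])
        simp only [Finset.mem_filter, Finset.mem_erase] at ht ⊢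
        exact ⟨ht.1, hsub t ht.1.1 ht.2⟩
      have h1' : (1 : F) ∈ (Finset.univ.erase (0 : F)).filter fun t => t * d ∈ A := by
        rw [heq]; simp [ha₀]
      have hdA : d ∈ A := by simpa using (Finset.mem_filter.1 h1').2
      exact ha₀0 (htriv a₀ ha₀ (by
        have := A.sub_mem hdA ha₀
        rwa [hd, add_sub_cancel_left] at this))
    refine ⟨s, t⁻¹, hs0, inv_ne_zero ht, a₀, ha₀, a₀, ha₀, t * d, htd, ?_, fun k hk k' hk' hkk k'' hk'' e => ?_⟩
    · rw [inv_mul_cancel_left₀ ht, hd, add_comm a₀, ← add_assoc, CharTwo.add_self_eq_zero, zero_add]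
    · rw [hkk] at hk
      rw [hkk, htriv k' hk' hk, mul_zero, zero_add] at e
      exact hta (by rwa [e, mul_inv_cancel_left₀ ht])
  · -- `A + s A` is everything
    letI : Algebra (ZMod 2) F := ZMod.algebra F 2
    haveI : FiniteDimensional (ZMod 2) F := Module.Finite.of_finite
    set As := AddSubgroup.toZModSubmodule 2 A with hAs
    have mAs : ∀ {x : F}, x ∈ As ↔ x ∈ A := Iff.rfl
    obtain ⟨φ₁, hφ₁, hker⟩ := Submodule.exists_le_ker_of_lt_top As (lt_top_iff_ne_top.2 fun e => h1 (by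
      ext x; exact ⟨fun _ => trivial, fun _ => mAs.1 (e ▸ trivial)⟩))
    have k1 : ∀ x ∈ A, φ₁ x = 0 := fun x hx => hker (mAs.2 hx)
    let M : F → (F →ₗ[ZMod 2] ZMod 2) := fun y => φ₁.comp (LinearMap.mulLeft (ZMod 2) y)
    have hMval : ∀ y x, M y x = φ₁ (y * x) := fun y x => rfl
    have hMinj : ∀ y, M y = 0 → y = 0 := by
      intro y hy
      by_contra hne
      refine hφ₁ (LinearMap.ext fun x => ?_)
      have := LinearMap.congr_fun hy (y⁻¹ * x)
      rwa [hMval, mul_inv_cancel_left₀ hne] at this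
    let Ml : F →ₗ[ZMod 2] (F →ₗ[ZMod 2] ZMod 2) :=
      { toFun := M
        map_add' := fun y y' => LinearMap.ext fun x => by simp [hMval, add_mul]
        map_smul' := fun c y => LinearMap.ext fun x => by simp [hMval] }
    have hMsur : Function.Surjective Ml := (LinearMap.injective_iff_surjective_of_finrank_eq_finrank
      Subspace.dual_finrank_eq.symm).1 ((injective_iff_map_eq_zero Ml).2 hMinj)
    set φ₂ : F →ₗ[ZMod 2] ZMod 2 := M s⁻¹ with hφ₂
    have k2 : ∀ x ∈ A, φ₂ (s * x) = 0 := fun x hx => by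
      rw [hφ₂, hMval, inv_mul_cancel_left₀ hs0]; exact k1 x hx
    have hall : ∀ φ : F →ₗ[ZMod 2] ZMod 2, (∀ x ∈ A, φ x = 0) → (∀ x ∈ A, φ (s * x) = 0) → φ = 0 := by
      intro φ ha hb
      refine LinearMap.ext fun x => ?_
      obtain ⟨z, hz⟩ : x ∈ (φs s).range := hsur ▸ trivial
      rw [← hz, hφ, map_add, ha _ z.1.2, hb _ z.2.2, add_zero, LinearMap.zero_apply]
    have hφ₂0 : φ₂ ≠ 0 := fun h => inv_ne_zero hs0 (hMinj _ h)
    have h2two : ∀ a b : ZMod 2, a + b = 0 → a = b := by decide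
    set φ := φ₁ + φ₂ with hφdef
    have hφ0 : φ ≠ 0 := by
      intro h
      refine hφ₂0 (hall φ₂ (fun x hx => ?_) k2)
      have := LinearMap.congr_fun h x
      rwa [hφdef, LinearMap.add_apply, k1 x hx, zero_add] at this
    obtain ⟨t, ht, hTφ, c, hc, hc1⟩ : ∃ t : F, t ≠ 0 ∧ (∀ x ∈ A, φ (t * x) = 0) ∧ ∃ c ∈ A, φ₁ (t * c) ≠ 0 := by
      obtain ⟨y, hy⟩ := hMsur φ
      have hy0 : y ≠ 0 := fun h => hφ0 (by rw [← hy, h, map_zero])
      by_contra! hsub
      let T : (F →ₗ[ZMod 2] ZMod 2) → Finset F := fun ψ =>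
        (Finset.univ.erase (0 : F)).filter fun t => ∀ x ∈ A, ψ (t * x) = 0
      have hcard : (T φ).card = (T φ₁).card := by
        refine Finset.card_bij (fun t _ => y * t) (fun t ht => ?_) (fun t _ t' _ h => mul_left_cancel₀ hy0 h)
          fun t ht => ?_
        · simp only [T, Finset.mem_filter, Finset.mem_erase] at ht ⊢
          refine ⟨⟨mul_ne_zero hy0 ht.1.1, Finset.mem_univ _⟩, fun x hx => ?_⟩
          rw [mul_assoc, ← hMval]
          exact (LinearMap.congr_fun hy (t * x)).trans (ht.2 x hx)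
        · simp only [T, Finset.mem_filter, Finset.mem_erase] at ht
          refine ⟨y⁻¹ * t, ?_, mul_inv_cancel_left₀ hy0 t⟩
          simp only [T, Finset.mem_filter, Finset.mem_erase]
          refine ⟨⟨mul_ne_zero (inv_ne_zero hy0) ht.1.1, Finset.mem_univ _⟩, fun x hx => ?_⟩
          refine (LinearMap.congr_fun hy _).symm.trans ?_
          show φ₁ (y * (y⁻¹ * t * x)) = 0
          rw [← mul_assoc, mul_inv_cancel_left₀ hy0]
          exact ht.2 x hx
      have heq : T φ = T φ₁ := by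
        refine Finset.eq_of_subset_of_card_le (fun t ht => ?_) hcard.ge
        simp only [T, Finset.mem_filter, Finset.mem_erase] at ht ⊢
        exact ⟨ht.1, fun x hx => hsub t ht.1.1 ht.2 x hx⟩
      have h1T : (1 : F) ∈ T φ₁ := by simpa [T] using k1
      rw [← heq] at h1T
      refine hφ₂0 (hall φ₂ (fun x hx => ?_) k2)
      have := (Finset.mem_filter.1 h1T).2 x hx
      rwa [one_mul, hφdef, LinearMap.add_apply, k1 x hx, zero_add] at this
    obtain ⟨z, hz⟩ : t * c ∈ (φs s).range := hsur ▸ trivial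
    rw [hφ] at hz
    refine ⟨s, t, hs0, ht, z.1, z.1.2, z.2, z.2.2, c, hc, ?_, fun k hk k' hk' hkk k'' hk'' e => hc1 ?_⟩
    · rw [← hz, add_comm (z.1 : F), ← add_assoc, CharTwo.add_self_eq_zero, zero_add]
    · have e1 : φ (z.1 : F) = 0 := by
        have hk0 : φ k = 0 := by rw [hφdef, LinearMap.add_apply, k1 k hk, zero_add, hkk, k2 k' hk']
        rw [e, map_add, hk0, hTφ k'' hk'', add_zero]
      have e2 : φ (s * (z.2 : F)) = 0 := by
        have := hTφ c hc
        rwa [← hz, map_add, e1, zero_add] at this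
      rw [← hz, map_add, k1 _ z.1.2, zero_add]
      rw [hφdef, LinearMap.add_apply, k2 _ z.2.2, add_zero] at e2
      exact e2

end CfsgLib.CharsMore.BinaryPSL2
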