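import Cfsg.Agent.Lib.CharsMore.BinaryPSL2.Criterion

/-!
# Non-binary witnesses for groups preserving a pair of points
-/

set_option autoImplicit false
set_option linter.unusedSectionVars false

namespace CfsgLib.CharsMore.BinaryPSL2

open MulAction CfsgLib.PSL2

variable {p : ℕ} {G X : Type*} [Group G] [MulAction G X] (hP : P1Like p G X)

/-- The two pairs are equal. -/
def SamePair (a b c d : X) : Prop := (c = a ∧ d = b) ∨ (c = b ∧ d = a)

theorem mem_pairStab {a b : X} {g : G} :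
    g ∈ pairStab a b ↔ (g • a = a ∧ g • b = b) ∨ (g • a = b ∧ g • b = a) := Iff.rfl

theorem pairStab_conj {a b : X} {x g : G} : x⁻¹ * g * x ∈ pairStab a b ↔ g ∈ pairStab (x • a) (x • b) := by
  simp only [mem_pairStab, mul_smul, inv_smul_eq_iff]

theorem fix_conj {a : X} {x g : G} (h : (x⁻¹ * g * x) • a = a) : g • x • a = x • a := by
  simpa only [mul_smul, inv_smul_eq_iff] using h

theorem SamePair.pairStab_le {a b c d : X} (h : SamePair a b c d) {g : G} (hg : g ∈ pairStab a b) :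
    g ∈ pairStab c d := by
  rcases h with ⟨rfl, rfl⟩ | ⟨rfl, rfl⟩
  · exact hg
  · rcases hg with ⟨h1, h2⟩ | ⟨h1, h2⟩
    · exact .inl ⟨h2, h1⟩
    · exact .inr ⟨h2, h1⟩

theorem SamePair.symm {a b c d : X} (h : SamePair a b c d) : SamePair c d a b := by
  rcases h with ⟨rfl, rfl⟩ | ⟨rfl, rfl⟩
  · exact .inl ⟨rfl, rfl⟩
  · exact .inr ⟨rfl, rfl⟩

include hP

/-- An element fixing two different pairs pointwise is trivial. -/
theorem eq_one_of_fix_fix {a b c d : X} (hab : a ≠ b) (hcd : c ≠ d) (hne : ¬ SamePair a b c d) {g : G}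
    (ha : g • a = a) (hb : g • b = b) (hc : g • c = c) (hd : g • d = d) : g = 1 := by
  by_cases h1 : c = a
  · subst h1
    exact hP.sharp hab hcd (fun e => hne (.inl ⟨rfl, e.symm⟩)) ha hb hd
  by_cases h2 : c = b
  · subst h2
    exact hP.sharp hab (fun e => hne (.inr ⟨rfl, e.symm⟩)) hcd ha hb hd
  exact hP.sharp hab (Ne.symm h1) (Ne.symm h2) ha hb hc

/-- An element preserving two different pairs is an involution or trivial. -/
theorem mul_self_of_pairs {a b c d : X} (hab : a ≠ b) (hcd : c ≠ d) (hne : ¬ SamePair a b c d) {g : G}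
    (h : g ∈ pairStab a b) (h' : g ∈ pairStab c d) : g * g = 1 := by
  refine eq_one_of_fix_fix hP hab hcd hne ?_ ?_ ?_ ?_ <;> rw [mul_smul]
  all_goals
    rcases h with ⟨h1, h2⟩ | ⟨h1, h2⟩ <;> rcases h' with ⟨h3, h4⟩ | ⟨h3, h4⟩ <;> simp [h1, h2, h3, h4]

theorem commute_of_fix {a b : X} (hab : a ≠ b) {g h : G} (ga : g • a = a) (gb : g • b = b) (ha : h • a = a)
    (hb : h • b = b) : Commute g h := by
  haveI := hP.two_cyclic (G := G) hab
  exact congrArg Subtype.val (mul_comm' (G := ↥(stabilizer G a ⊓ stabilizer G b)) ⟨g, ga, gb⟩ ⟨h, ha, hb⟩)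
where
  mul_comm' {G : Type _} [Group G] [IsCyclic G] (x y : G) : x * y = y * x := IsCyclic.commutative.is_comm.comm x y

theorem commute_of_swap_fix {a b : X} (hab : a ≠ b) {g h : G} (ga : g • a = b) (gb : g • b = a) (ha : h • a = a)
    (hb : h • b = b) (hh : h * h = 1) : Commute g h := by
  have h1 := hP.swap_sq (g := g) hab ga gb
  have h2 := hP.swap_sq (g := g * h) hab (by rw [mul_smul, ha, ga]) (by rw [mul_smul, hb, gb])
  calc g * h = g * h * (g * h) * (h⁻¹ * g⁻¹) := by group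
    _ = h * g := by rw [h2, one_mul, inv_eq_of_mul_eq_one_right hh, inv_eq_of_mul_eq_one_right h1]

theorem invol_eq {a b : X} (hab : a ≠ b) {g h : G} (ga : g • a = a) (gb : g • b = b) (ha : h • a = a)
    (hb : h • b = b) (hg : g * g = 1) (hh : h * h = 1) (hg1 : g ≠ 1) (hh1 : h ≠ 1) [Finite G] : g = h := by
  classical
  set S := stabilizer G a ⊓ stabilizer G b
  haveI : IsCyclic S := hP.two_cyclic hab
  haveI := Fintype.ofFinite S
  by_contra hne
  have h2 := IsCyclic.card_pow_eq_one_le (α := S) (n := 2) two_pos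
  have hsub : ({1, ⟨g, ga, gb⟩, ⟨h, ha, hb⟩} : Finset S) ⊆ Finset.univ.filter (fun u : S => u ^ 2 = 1) := by
    intro u hu
    rw [Finset.mem_filter]
    simp only [Finset.mem_insert, Finset.mem_singleton] at hu
    refine ⟨Finset.mem_univ _, ?_⟩
    rcases hu with rfl | rfl | rfl
    · exact one_pow 2
    · exact Subtype.ext (by simpa [pow_two] using hg)
    · exact Subtype.ext (by simpa [pow_two] using hh)
  have h3 : ({1, ⟨g, ga, gb⟩, ⟨h, ha, hb⟩} : Finset S).card = 3 :=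
    Finset.card_eq_three.2 ⟨_, _, _, fun e => hg1 (congrArg Subtype.val e).symm,
      fun e => hh1 (congrArg Subtype.val e).symm, fun e => hne (congrArg Subtype.val e), rfl⟩
  have := Finset.card_le_card hsub
  omega

/-- Three rotations `r = b c` with different axes; `X` contains no element reversing the first two. -/
theorem tri_rotations {L H : Subgroup G} {a b : X} (hab : a ≠ b) (hH : H ≤ pairStab a b) {r s t y z : G}
    (hy : y ∈ L) (hz : z ∈ L) (hr : r ∈ H) (hs : s ∈ H) (ht : t ∈ H) (ra : r • a = a) (rb : r • b = b)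
    (sa : s • a = a) (sb : s • b = b) (ta : t • a = a) (tb : t • b = b) (r2 : r * r ≠ 1) (s2 : s * s ≠ 1)
    (e : r = y * s * y⁻¹ * (z * t * z⁻¹)) (hnc : ¬ Commute r (y * s * y⁻¹))
    (hw : ∀ k ∈ H, k • a = b → k • b = a → k • y • a = y • b → k • y • b = y • a → False) : Tri L H := by
  set b₁ := y * s * y⁻¹ with hb₁
  set c₁ := z * t * z⁻¹ with hc₁
  have bfa : b₁ • y • a = y • a := by rw [hb₁, mul_smul, inv_smul_smul, mul_smul, sa]
  have bfb : b₁ • y • b = y • b := by rw [hb₁, mul_smul, inv_smul_smul, mul_smul, sb]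
  have cfa : c₁ • z • a = z • a := by rw [hc₁, mul_smul, inv_smul_smul, mul_smul, ta]
  have cfb : c₁ • z • b = z • b := by rw [hc₁, mul_smul, inv_smul_smul, mul_smul, tb]
  have yab : y • a ≠ y • b := fun h => hab (smul_left_cancel y h)
  have zab : z • a ≠ z • b := fun h => hab (smul_left_cancel z h)
  have nQ : ¬ SamePair a b (y • a) (y • b) := fun h => by
    rcases h with ⟨h1, h2⟩ | ⟨h1, h2⟩ <;> rw [h1] at bfa <;> rw [h2] at bfb
    · exact hnc (commute_of_fix hP hab ra rb bfa bfb)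
    · exact hnc (commute_of_fix hP hab ra rb bfb bfa)
  have nR : ¬ SamePair a b (z • a) (z • b) := fun h => by
    obtain ⟨ca, cb⟩ : c₁ • a = a ∧ c₁ • b = b := by
      rcases h with ⟨h1, h2⟩ | ⟨h1, h2⟩ <;> rw [h1] at cfa <;> rw [h2] at cfb
      · exact ⟨cfa, cfb⟩
      · exact ⟨cfb, cfa⟩
    refine hnc (commute_of_fix hP hab ra rb ?_ ?_)
    · have := ra; rw [e, mul_smul, ca] at this; exact this
    · have := rb; rw [e, mul_smul, cb] at this; exact this
  have nQR : ¬ SamePair (y • a) (y • b) (z • a) (z • b) := fun h => by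
    obtain ⟨ca, cb⟩ : c₁ • y • a = y • a ∧ c₁ • y • b = y • b := by
      rcases h with ⟨h1, h2⟩ | ⟨h1, h2⟩ <;> rw [h1] at cfa <;> rw [h2] at cfb
      · exact ⟨cfa, cfb⟩
      · exact ⟨cfb, cfa⟩
    refine hnc (commute_of_fix hP yab ?_ ?_ bfa bfb) <;> rw [e, mul_smul]
    · rw [ca, bfa]
    · rw [cb, bfb]
  refine Tri.mk' (x := 1) (one_mem L) hy hz e (by simpa using hr) (by rw [hb₁]; simpa [mul_assoc] using hs)
    (by rw [hc₁]; simpa [mul_assoc] using ht) (fun k hk h1 h2 => ?_)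
  rw [inv_one, one_mul, mul_one] at hk
  have hkQ : k ∈ pairStab (y • a) (y • b) := pairStab_conj.1 (hH h1)
  have hlR : k⁻¹ * r ∈ pairStab (z • a) (z • b) := pairStab_conj.1 (hH h2)
  have hk2 : k * k = 1 := mul_self_of_pairs hP hab yab nQ (hH hk) hkQ
  rcases hH hk with ⟨ka, kb⟩ | ⟨ka, kb⟩
  · have hl2 : k⁻¹ * r * (k⁻¹ * r) = 1 :=
      mul_self_of_pairs hP hab zab nR (hH (H.mul_mem (H.inv_mem hk) hr)) hlR
    have hc := commute_of_fix hP hab ka kb ra rb
    refine r2 ?_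
    calc r * r = k * k * (k⁻¹ * r * (k⁻¹ * r)) := by rw [mul_assoc k⁻¹, ← mul_assoc r, ← hc.inv_left.eq]; group
      _ = 1 := by rw [hk2, hl2, one_mul]
  · rcases hkQ with ⟨k1, k2⟩ | ⟨k1, k2⟩
    · have hm : b₁⁻¹ * k ∈ pairStab (z • a) (z • b) := by
        have hcR : c₁ ∈ pairStab (z • a) (z • b) := .inl ⟨cfa, cfb⟩
        have := mul_mem hcR (inv_mem hlR)
        rwa [show b₁⁻¹ * k = c₁ * (k⁻¹ * r)⁻¹ by rw [e]; group]
      have bia : b₁⁻¹ • y • a = y • a := by rw [inv_smul_eq_iff, bfa]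
      have bib : b₁⁻¹ • y • b = y • b := by rw [inv_smul_eq_iff, bfb]
      have hm2 : b₁⁻¹ * k * (b₁⁻¹ * k) = 1 := mul_self_of_pairs hP yab zab nQR
        (.inl ⟨by rw [mul_smul, k1, bia], by rw [mul_smul, k2, bib]⟩) hm
      have hc : Commute k b₁⁻¹ := commute_of_fix hP yab k1 k2 bia bib
      refine s2 ?_
      have h5 : b₁⁻¹ * b₁⁻¹ * (k * k) = 1 := by
        rw [← hm2, mul_assoc b₁⁻¹ k, ← mul_assoc k b₁⁻¹, hc.eq]; group
      rw [hk2, mul_one, ← _root_.mul_inv_rev, inv_eq_one, hb₁] at h5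
      rw [show y * s * y⁻¹ * (y * s * y⁻¹) = y * (s * s) * y⁻¹ by group, conj_eq_one_iff] at h5
      exact h5
    · exact hw k hk ka kb k1 k2

/-- Three commuting involutions in groups whose rotation part has odd order. -/
theorem tri_involutions {L H : Subgroup G} {a b : X} (hab : a ≠ b) (hH : H ≤ pairStab a b)
    (hodd : ∀ r ∈ H, r • a = a → r • b = b → r * r = 1 → r = 1) {x y z a₁ b₁ c₁ : G}
    (hx : x ∈ L) (hy : y ∈ L) (hz : z ∈ L) (e : a₁ = b₁ * c₁) (hA : x⁻¹ * a₁ * x ∈ H) (hB : y⁻¹ * b₁ * y ∈ H)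
    (hC : z⁻¹ * c₁ * z ∈ H) (a2 : a₁ * a₁ = 1) (b2 : b₁ * b₁ = 1) (c2 : c₁ * c₁ = 1) (hc : Commute b₁ c₁)
    (a1 : a₁ ≠ 1) (b1 : b₁ ≠ 1) (c1 : c₁ ≠ 1) : Tri L H := by
  -- two commuting involutions in one conjugate agree
  have key : ∀ {x g h : G}, x⁻¹ * g * x ∈ H → x⁻¹ * h * x ∈ H → g * g = 1 → h * h = 1 → Commute g h →
      g ≠ 1 → h ≠ 1 → g = h := by
    intro x g h hg hh g2 h2 hgh g1 h1
    have sw : ∀ {u : G}, x⁻¹ * u * x ∈ H → u * u = 1 → u ≠ 1 →
        (x⁻¹ * u * x) • a = b ∧ (x⁻¹ * u * x) • b = a := by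
      intro u hu u2 u1
      rcases hH hu with ⟨h1, h2⟩ | h
      · refine absurd (hodd _ hu h1 h2 (by rw [show x⁻¹ * u * x * (x⁻¹ * u * x) = x⁻¹ * (u * u) * x by group, u2,
          mul_one, inv_mul_cancel])) (fun h => u1 ?_)
        calc u = x * (x⁻¹ * u * x) * x⁻¹ := by group
          _ = 1 := by rw [h]; group
      · exact h
    obtain ⟨ga, gb⟩ := sw hg g2 g1
    obtain ⟨ha, hb⟩ := sw hh h2 h1
    have := hodd _ (H.mul_mem hg hh) (by rw [mul_smul, ha, gb]) (by rw [mul_smul, hb, ga]) (by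
      rw [show x⁻¹ * g * x * (x⁻¹ * h * x) * (x⁻¹ * g * x * (x⁻¹ * h * x)) = x⁻¹ * (g * (h * g) * h) * x by group,
        ← hgh.eq, ← mul_assoc g g, g2, one_mul, h2, mul_one, inv_mul_cancel])
    have e1 : g * h = 1 := by
      calc g * h = x * (x⁻¹ * g * x * (x⁻¹ * h * x)) * x⁻¹ := by group
        _ = 1 := by rw [this]; group
    rw [← inv_eq_of_mul_eq_one_right g2]
    exact inv_eq_of_mul_eq_one_right e1
  have inB : ¬ y⁻¹ * a₁ * y ∈ H := fun h => c1 (by
    have hab' := key h hB a2 b2 (by rw [e]; exact (Commute.refl b₁).mul_left hc.symm) a1 b1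
    rw [e] at hab'
    exact mul_eq_left.1 hab')
  have inC : ¬ z⁻¹ * a₁ * z ∈ H := fun h => b1 (by
    have hab' := key h hC a2 c2 (by rw [e]; exact hc.mul_left (Commute.refl c₁)) a1 c1
    rw [e] at hab'
    exact mul_eq_right.1 hab')
  have xab : x • a ≠ x • b := fun h => hab (smul_left_cancel x h)
  have yab : y • a ≠ y • b := fun h => hab (smul_left_cancel y h)
  have zab : z • a ≠ z • b := fun h => hab (smul_left_cancel z h)
  have st : ∀ {w u : G}, w⁻¹ * u * w ∈ H → u * u = 1 → u ≠ 1 →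
      u • w • a = w • b ∧ u • w • b = w • a := by
    intro w u hu u2 u1
    rcases hH hu with ⟨h1, h2⟩ | ⟨h1, h2⟩
    · refine absurd (hodd _ hu h1 h2 (by rw [show w⁻¹ * u * w * (w⁻¹ * u * w) = w⁻¹ * (u * u) * w by group, u2,
        mul_one, inv_mul_cancel])) (fun h => u1 ?_)
      calc u = w * (w⁻¹ * u * w) * w⁻¹ := by group
        _ = 1 := by rw [h]; group
    · simp only [mul_smul, inv_smul_eq_iff] at h1 h2
      exact ⟨h1, h2⟩
  refine Tri.mk' hx hy hz e hA hB hC (fun k hkA hkB hlC => ?_)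
  have hlA : x⁻¹ * (k⁻¹ * a₁) * x ∈ H := by
    have := H.mul_mem (H.inv_mem hkA) hA
    simpa [mul_assoc] using this
  have hkP : k ∈ pairStab (x • a) (x • b) := pairStab_conj.1 (hH hkA)
  have hlP : k⁻¹ * a₁ ∈ pairStab (x • a) (x • b) := pairStab_conj.1 (hH hlA)
  have hkQ : k ∈ pairStab (y • a) (y • b) := pairStab_conj.1 (hH hkB)
  have hlR : k⁻¹ * a₁ ∈ pairStab (z • a) (z • b) := pairStab_conj.1 (hH hlC)
  have k1 : k ≠ 1 := fun h => inC (by rwa [h, inv_one, one_mul] at hlC)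
  have l1 : k⁻¹ * a₁ ≠ 1 := fun h => inB (by rwa [inv_mul_eq_one.1 h] at hkB)
  obtain ⟨aP, aP'⟩ := st hA a2 a1
  by_cases hPQ : SamePair (x • a) (x • b) (y • a) (y • b)
  · -- the second factor is a rotation about the first axis
    obtain ⟨bP, bP'⟩ := st hB b2 b1
    obtain ⟨cP, cP'⟩ : c₁ • x • a = x • a ∧ c₁ • x • b = x • b := by
      have hb' : b₁ • x • a = x • b ∧ b₁ • x • b = x • a := by
        rcases hPQ with ⟨h1, h2⟩ | ⟨h1, h2⟩
        · rw [h1, h2] at bP bP'; exact ⟨bP, bP'⟩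
        · rw [h1, h2] at bP bP'; exact ⟨bP', bP⟩
      have hc' : c₁ = b₁⁻¹ * a₁ := by rw [e]; group
      constructor <;> rw [hc', mul_smul, inv_smul_eq_iff]
      · rw [aP, hb'.1]
      · rw [aP', hb'.2]
    obtain ⟨cR, cR'⟩ := st hC c2 c1
    have nPR : ¬ SamePair (x • a) (x • b) (z • a) (z • b) := by
      rintro (⟨h1, h2⟩ | ⟨h1, h2⟩)
      · rw [h1, h2, cP] at cR; exact xab cR
      · rw [h1, h2, cP'] at cR; exact xab cR.symm
    have l2 := mul_self_of_pairs hP xab zab nPR hlP hlR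
    obtain ⟨lP, lP'⟩ := st hlA l2 l1
    have := key hlC hC l2 c2 (commute_of_swap_fix hP xab lP lP' cP cP' c2) l1 c1
    rw [this, cP] at lP
    exact xab lP
  by_cases hPR : SamePair (x • a) (x • b) (z • a) (z • b)
  · obtain ⟨cR, cR'⟩ := st hC c2 c1
    obtain ⟨bP, bP'⟩ : b₁ • x • a = x • a ∧ b₁ • x • b = x • b := by
      have hc' : c₁ • x • a = x • b ∧ c₁ • x • b = x • a := by
        rcases hPR with ⟨h1, h2⟩ | ⟨h1, h2⟩
        · rw [h1, h2] at cR cR'; exact ⟨cR, cR'⟩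
        · rw [h1, h2] at cR cR'; exact ⟨cR', cR⟩
      rw [e, mul_smul] at aP aP'
      rw [hc'.1] at aP
      rw [hc'.2] at aP'
      exact ⟨aP', aP⟩
    obtain ⟨bQ, bQ'⟩ := st hB b2 b1
    have k2 := mul_self_of_pairs hP xab yab hPQ hkP hkQ
    obtain ⟨kP, kP'⟩ := st hkA k2 k1
    have := key hkB hB k2 b2 (commute_of_swap_fix hP xab kP kP' bP bP' b2) k1 b1
    rw [this, bP] at kP
    exact xab kP
  have k2 := mul_self_of_pairs hP xab yab hPQ hkP hkQ
  have l2 := mul_self_of_pairs hP xab zab hPR hlP hlR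
  have hcom : Commute k (k⁻¹ * a₁) := by
    show k * (k⁻¹ * a₁) = k⁻¹ * a₁ * k
    have hki : k⁻¹ = k := inv_eq_of_mul_eq_one_right k2
    rw [hki] at l2
    rw [mul_inv_cancel_left, hki]
    calc a₁ = k * a₁ * (k * a₁) * a₁ := by rw [l2, one_mul]
      _ = k * a₁ * k * (a₁ * a₁) := by group
      _ = k * a₁ * k := by rw [a2, mul_one]
  have h5 : k = k⁻¹ * a₁ := key hkA hlA k2 l2 hcom k1 l1
  exact a1 (by rw [← k2]; nth_rw 2 [h5]; group)

/-- An involution as a product of two rotations, in full normalisers of tori of even order. -/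
theorem tri_normalizer [Finite G] {L H : Subgroup G} {a b : X} (hab : a ≠ b) (hH : H = pairStab a b ⊓ L)
    {z₀ s t y z x a₁ : G} (hx : x ∈ L) (hy : y ∈ L) (hz : z ∈ L) (z2 : z₀ * z₀ = 1) (z1 : z₀ ≠ 1)
    (z0a : z₀ • a = a) (z0b : z₀ • b = b)
    (sa : s • a = a) (sb : s • b = b) (ta : t • a = a) (tb : t • b = b) (hs : s ∈ H) (ht : t ∈ H)
    (s2 : s * s ≠ 1) (t2 : t * t ≠ 1) (a2 : a₁ * a₁ = 1) (a1 : a₁ ≠ 1)
    (e : a₁ = y * s * y⁻¹ * (z * t * z⁻¹)) (hnb : ¬ Commute a₁ (y * s * y⁻¹))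
    (hnc : ¬ Commute a₁ (z * t * z⁻¹)) (hcom : Commute a₁ (x * z₀ * x⁻¹)) (hne : a₁ ≠ x * z₀ * x⁻¹)
    (hzB : x * z₀ * x⁻¹ ∉ pairStab (y • a) (y • b)) (hzC : x * z₀ * x⁻¹ ∉ pairStab (z • a) (z • b)) :
    Tri L H := by
  subst hH
  set b₁ := y * s * y⁻¹ with hb₁
  set c₁ := z * t * z⁻¹ with hc₁
  set w := x * z₀ * x⁻¹ with hw
  have bfa : b₁ • y • a = y • a := by rw [hb₁, mul_smul, inv_smul_smul, mul_smul, sa]
  have bfb : b₁ • y • b = y • b := by rw [hb₁, mul_smul, inv_smul_smul, mul_smul, sb]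
  have cfa : c₁ • z • a = z • a := by rw [hc₁, mul_smul, inv_smul_smul, mul_smul, ta]
  have cfb : c₁ • z • b = z • b := by rw [hc₁, mul_smul, inv_smul_smul, mul_smul, tb]
  have wfa : w • x • a = x • a := by rw [hw, mul_smul, inv_smul_smul, mul_smul, z0a]
  have wfb : w • x • b = x • b := by rw [hw, mul_smul, inv_smul_smul, mul_smul, z0b]
  have w2 : w * w = 1 := by
    rw [hw, show x * z₀ * x⁻¹ * (x * z₀ * x⁻¹) = x * (z₀ * z₀) * x⁻¹ by group, z2, mul_one, mul_inv_cancel]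
  have w1 : w ≠ 1 := fun h => z1 (conj_eq_one_iff.1 h)
  have xab : x • a ≠ x • b := fun h => hab (smul_left_cancel x h)
  have yab : y • a ≠ y • b := fun h => hab (smul_left_cancel y h)
  have zab : z • a ≠ z • b := fun h => hab (smul_left_cancel z h)
  have bL : b₁ ∈ L := L.mul_mem (L.mul_mem hy hs.2) (L.inv_mem hy)
  have cL : c₁ ∈ L := L.mul_mem (L.mul_mem hz ht.2) (L.inv_mem hz)
  have aL : a₁ ∈ L := e ▸ L.mul_mem bL cL
  have hfix : ∀ q : X, w • q = q → q = x • a ∨ q = x • b := fun q hq => by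
    by_contra hh
    push Not at hh
    exact w1 (hP.sharp xab (Ne.symm hh.1) (Ne.symm hh.2) wfa wfb hq)
  have haP : a₁ • x • a = x • b ∧ a₁ • x • b = x • a := by
    have ca : ∀ q : X, w • q = q → w • a₁ • q = a₁ • q := fun q hq => by
      rw [← mul_smul, ← hcom.eq, mul_smul, hq]
    rcases hfix _ (ca _ wfa) with h | h <;> rcases hfix _ (ca _ wfb) with h' | h'
    · exact absurd (smul_left_cancel a₁ (h.trans h'.symm)) xab
    · exact absurd (invol_eq hP xab h h' wfa wfb a2 w2 a1 w1) hne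
    · exact ⟨h, h'⟩
    · exact absurd (smul_left_cancel a₁ (h.trans h'.symm)) xab
  have naQ : a₁ ∉ pairStab (y • a) (y • b) := by
    rintro (⟨h1, h2⟩ | ⟨h1, h2⟩)
    · exact hnb (commute_of_fix hP yab h1 h2 bfa bfb)
    · have h3 := hP.swap_sq (g := b₁⁻¹ * a₁) yab
        (by rw [mul_smul, h1, inv_smul_eq_iff, bfb]) (by rw [mul_smul, h2, inv_smul_eq_iff, bfa])
      rw [show b₁⁻¹ * a₁ = z * t * z⁻¹ by rw [e, inv_mul_cancel_left],
        show z * t * z⁻¹ * (z * t * z⁻¹) = z * (t * t) * z⁻¹ by group, conj_eq_one_iff] at h3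
      exact t2 h3
  have naR : a₁ ∉ pairStab (z • a) (z • b) := by
    rintro (⟨h1, h2⟩ | ⟨h1, h2⟩)
    · exact hnc (commute_of_fix hP zab h1 h2 cfa cfb)
    · have h3 := hP.swap_sq (g := a₁ * c₁⁻¹) zab
        (by rw [mul_smul, show c₁⁻¹ • z • a = z • a by rw [inv_smul_eq_iff, cfa], h1])
        (by rw [mul_smul, show c₁⁻¹ • z • b = z • b by rw [inv_smul_eq_iff, cfb], h2])
      rw [show a₁ * c₁⁻¹ = y * s * y⁻¹ by rw [e, mul_inv_cancel_right],
        show y * s * y⁻¹ * (y * s * y⁻¹) = y * (s * s) * y⁻¹ by group, conj_eq_one_iff] at h3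
      exact s2 h3
  have nPQ : ¬ SamePair (x • a) (x • b) (y • a) (y • b) := fun h => naQ (h.pairStab_le (.inr haP))
  have nPR : ¬ SamePair (x • a) (x • b) (z • a) (z • b) := fun h => naR (h.pairStab_le (.inr haP))
  refine Tri.mk' hx hy hz e ⟨pairStab_conj.2 (.inr haP), L.mul_mem (L.mul_mem (L.inv_mem hx) aL) hx⟩
    ?_ ?_ (fun k hkA hkB hlC => ?_)
  · simpa [hb₁, mul_assoc] using hs
  · simpa [hc₁, mul_assoc] using ht
  have hkP : k ∈ pairStab (x • a) (x • b) := pairStab_conj.1 hkA.1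
  have hlP : k⁻¹ * a₁ ∈ pairStab (x • a) (x • b) := mul_mem (inv_mem hkP) (.inr haP)
  have hkQ : k ∈ pairStab (y • a) (y • b) := pairStab_conj.1 hkB.1
  have hlR : k⁻¹ * a₁ ∈ pairStab (z • a) (z • b) := pairStab_conj.1 hlC.1
  have k2 := mul_self_of_pairs hP xab yab nPQ hkP hkQ
  have l2 := mul_self_of_pairs hP xab zab nPR hlP hlR
  have k1 : k ≠ 1 := fun h => naR (by rwa [h, inv_one, one_mul] at hlR)
  have l1 : k⁻¹ * a₁ ≠ 1 := fun h => naQ (by rwa [inv_mul_eq_one.1 h] at hkQ)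
  rcases hkP with ⟨h1, h2⟩ | ⟨h1, h2⟩
  · exact hzB (by rwa [← invol_eq hP xab h1 h2 wfa wfb k2 w2 k1 w1])
  · have h3 : (k⁻¹ * a₁) • x • a = x • a := by rw [mul_smul, haP.1, inv_smul_eq_iff, h1]
    have h4 : (k⁻¹ * a₁) • x • b = x • b := by rw [mul_smul, haP.2, inv_smul_eq_iff, h2]
    exact hzC (by rwa [← invol_eq hP xab h3 h4 wfa wfb l2 w2 l1 w1])

/-- At most one involution commuting with `a₁` preserves a pair not preserved by `a₁`. -/
theorem eq_of_commute_pair [Finite G] {a b c d : X} (hab : a ≠ b) (hcd : c ≠ d) {a₁ z z' : G}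
    (a2 : a₁ * a₁ = 1) (a1 : a₁ ≠ 1) (aa : a₁ • a = a) (ab : a₁ • b = b) (hna : a₁ ∉ pairStab c d)
    (za : z • a = b) (zb : z • b = a) (za' : z' • a = b) (zb' : z' • b = a) (h : z ∈ pairStab c d)
    (h' : z' ∈ pairStab c d) : z = z' := by
  have hne : ¬ SamePair a b c d := fun hh => hna (hh.pairStab_le (.inl ⟨aa, ab⟩))
  by_contra hzz
  have f1 : (z⁻¹ * z') • a = a := by rw [mul_smul, za', inv_smul_eq_iff, za]
  have f2 : (z⁻¹ * z') • b = b := by rw [mul_smul, zb', inv_smul_eq_iff, zb]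
  have hm : z⁻¹ * z' ∈ pairStab c d := mul_mem (inv_mem h) h'
  have h2 := mul_self_of_pairs hP hab hcd hne (.inl ⟨f1, f2⟩) hm
  refine hna ?_
  rwa [← invol_eq hP hab f1 f2 aa ab h2 a2 (fun e => hzz (inv_mul_eq_one.1 e)) a1]

omit hP in
/-- A central involution inside a four-group with an element permuting its involutions cyclically. -/
theorem tri_four {L H : Subgroup G} {z y n : G} (hn : n ∈ L) (hcz : ∀ k ∈ H, Commute k z)
    (hzH : z ∈ H) (hyH : y ∉ H) (hcy : Commute z y) (z2 : z * z = 1)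
    (hfour : ∀ k ∈ H, Commute k z → Commute k y → k = 1 ∨ k = z ∨ k = y ∨ k = z * y)
    (e1 : n * z * n⁻¹ = y) (e2 : n * y * n⁻¹ = z * y) (e3 : n * (z * y) * n⁻¹ = z) : Tri L H := by
  have zy : z * y ∉ H := fun h => hyH (by simpa [← mul_assoc] using H.mul_mem (H.inv_mem hzH) h)
  have back : ∀ {u v : G}, n * u * n⁻¹ = v → n⁻¹ * v * n = u := fun h => by rw [← h]; group
  have f1 : n⁻¹ * z * n = z * y := back e3
  have f2 : n⁻¹ * (z * y) * n = y := back e2
  have f3 : n⁻¹ * y * n = z := back e1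
  refine Tri.mk' (x := 1) (y := n) (z := n * n) (a := z) (b := y) (c := z * y) (one_mem L) hn (L.mul_mem hn hn)
    (by
      have y2 : y * y = 1 := by
        rw [← e1, show n * z * n⁻¹ * (n * z * n⁻¹) = n * (z * z) * n⁻¹ by group, z2, mul_one, mul_inv_cancel]
      rw [hcy.eq, ← mul_assoc, y2, one_mul])
    (by simpa using hzH) (by rwa [f3]) ?_ (fun k hk h1 h2 => ?_)
  · rw [show (n * n)⁻¹ * (z * y) * (n * n) = n⁻¹ * (n⁻¹ * (z * y) * n) * n by group, f2, f3]
    exact hzH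
  rw [inv_one, one_mul, mul_one] at hk
  have hky : Commute k y := by
    have h := hcz _ h1
    have : Commute (n * (n⁻¹ * k * n) * n⁻¹) (n * z * n⁻¹) := h.map (MulAut.conj n).toMonoidHom
    rwa [e1, show n * (n⁻¹ * k * n) * n⁻¹ = k by group] at this
  rcases hfour k hk (hcz k hk) hky with rfl | rfl | rfl | rfl
  · rw [inv_one, one_mul, show (n * n)⁻¹ * z * (n * n) = n⁻¹ * (n⁻¹ * z * n) * n by group, f1, f2] at h2
    exact hyH h2
  · rw [f1] at h1; exact zy h1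
  · exact hyH hk
  · exact zy hk

end CfsgLib.CharsMore.BinaryPSL2
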