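import Cfsg.Agent.Lib.CharsMore.BinaryPSL2.PairTools

/-!
# Subgroups of the stabiliser of infinity: affine description and the large unipotent part
-/

set_option autoImplicit false
set_option linter.unusedSectionVars false

namespace CfsgLib.CharsMore.BinaryPSL2

open Matrix MulAction CfsgLib.PSL2 CfsgLib.Classical
open scoped LinearAlgebra.Projectivization

section Quad

variable {G : Type*} [Group G]

/-- Two quadruples of cosets differing in the last entry, pairwise but not globally equivalent. -/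
def Quad (L X : Subgroup G) : Prop :=
  ∃ y z w v : G, y ∈ L ∧ z ∈ L ∧ w ∈ L ∧ v ∈ L ∧
    (∃ g ∈ L, g ∈ X ∧ v⁻¹ * g * w ∈ X) ∧
    (∃ g ∈ L, y⁻¹ * g * y ∈ X ∧ v⁻¹ * g * w ∈ X) ∧
    (∃ g ∈ L, z⁻¹ * g * z ∈ X ∧ v⁻¹ * g * w ∈ X) ∧
    ∀ g ∈ X, y⁻¹ * g * y ∈ X → z⁻¹ * g * z ∈ X → v⁻¹ * g * w ∈ X → False

theorem not_binary_of_quad_top {H : Subgroup G} (h : Quad ⊤ H) : ¬ IsBinary G H := by
  obtain ⟨y, z, w, v, -, -, -, -, ⟨g₁, -, a1, a2⟩, ⟨g₂, -, b1, b2⟩, ⟨g₃, -, c1, c2⟩, hk⟩ := h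
  intro hbin
  obtain ⟨g, hg⟩ := hbin 4 (fun i => (((![1, y, z, w] : Fin 4 → G) i : G) : G ⧸ H))
    (fun i => (((![1, y, z, v] : Fin 4 → G) i : G) : G ⧸ H)) (by norm_num) (by
      intro i j hij
      have e0 : ∀ i : Fin 4, i ≠ 3 → (1 : G) • (((![1, y, z, w] : Fin 4 → G) i : G) : G ⧸ H) =
          (((![1, y, z, v] : Fin 4 → G) i : G) : G ⧸ H) := by
        intro i hi
        rw [one_smul]
        fin_cases i
        · rfl
        · rfl
        · rfl
        · exact absurd rfl hi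
      by_cases h3 : i ≠ 3 ∧ j ≠ 3
      · exact ⟨_, e0 i h3.1, e0 j h3.2⟩
      have e1 : ∀ i : Fin 4, i = 0 ∨ i = 3 → g₁ • (((![1, y, z, w] : Fin 4 → G) i : G) : G ⧸ H) =
          (((![1, y, z, v] : Fin 4 → G) i : G) : G ⧸ H) := by
        rintro i (rfl | rfl) <;> rw [smul_mk_eq]
        · simpa using a1
        · exact a2
      have e2 : ∀ i : Fin 4, i = 1 ∨ i = 3 → g₂ • (((![1, y, z, w] : Fin 4 → G) i : G) : G ⧸ H) =
          (((![1, y, z, v] : Fin 4 → G) i : G) : G ⧸ H) := by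
        rintro i (rfl | rfl) <;> rw [smul_mk_eq]
        · exact b1
        · exact b2
      have e3 : ∀ i : Fin 4, i = 2 ∨ i = 3 → g₃ • (((![1, y, z, w] : Fin 4 → G) i : G) : G ⧸ H) =
          (((![1, y, z, v] : Fin 4 → G) i : G) : G ⧸ H) := by
        rintro i (rfl | rfl) <;> rw [smul_mk_eq]
        · exact c1
        · exact c2
      by_cases h0 : (i = 0 ∨ i = 3) ∧ (j = 0 ∨ j = 3)
      · exact ⟨_, e1 i h0.1, e1 j h0.2⟩
      by_cases h1 : (i = 1 ∨ i = 3) ∧ (j = 1 ∨ j = 3)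
      · exact ⟨_, e2 i h1.1, e2 j h1.2⟩
      refine ⟨_, e3 i ?_, e3 j ?_⟩ <;> omega)
  refine hk g (by simpa using (smul_mk_eq g 1 1).1 (hg 0)) ((smul_mk_eq _ _ _).1 (hg 1)) ((smul_mk_eq _ _ _).1 (hg 2))
    ((smul_mk_eq _ _ _).1 (hg 3))

theorem Quad.of_map {G' : Type*} [Group G'] {ι : G →* G'} (hι : Function.Injective ι) {H : Subgroup G}
    (h : Quad ι.range (H.map ι)) : Quad ⊤ H := by
  obtain ⟨_, _, _, _, ⟨y, rfl⟩, ⟨z, rfl⟩, ⟨w, rfl⟩, ⟨v, rfl⟩, ⟨_, ⟨g₁, rfl⟩, a1, a2⟩, ⟨_, ⟨g₂, rfl⟩, b1, b2⟩,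
    ⟨_, ⟨g₃, rfl⟩, c1, c2⟩, hk⟩ := h
  simp only [← map_mul, ← map_inv, Subgroup.mem_map_iff_mem hι] at a1 a2 b1 b2 c1 c2
  refine ⟨y, z, w, v, trivial, trivial, trivial, trivial, ⟨g₁, trivial, a1, a2⟩, ⟨g₂, trivial, b1, b2⟩,
    ⟨g₃, trivial, c1, c2⟩, fun g h0 h1 h2 h3 => hk (ι g) (Subgroup.mem_map_of_mem ι h0) ?_ ?_ ?_⟩
  · simpa only [map_mul, map_inv] using Subgroup.mem_map_of_mem ι h1
  · simpa only [map_mul, map_inv] using Subgroup.mem_map_of_mem ι h2
  · simpa only [map_mul, map_inv] using Subgroup.mem_map_of_mem ι h3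

theorem Quad.of_conj {L X : Subgroup G} [L.Normal] (k : G) (h : Quad L (X.map (MulAut.conj k).toMonoidHom)) :
    Quad L X := by
  obtain ⟨y, z, w, v, hy, hz, hw, hv, ⟨g₁, l1, a1, a2⟩, ⟨g₂, l2, b1, b2⟩, ⟨g₃, l3, c1, c2⟩, hk⟩ := h
  have mem : ∀ u, u ∈ X.map (MulAut.conj k).toMonoidHom ↔ k⁻¹ * u * k ∈ X := by
    intro u
    rw [Subgroup.mem_map_equiv]
    simp [MulAut.conj_symm_apply]
  have nm : ∀ u ∈ L, k⁻¹ * u * k ∈ L := fun u hu => by
    simpa using (inferInstance : L.Normal).conj_mem u hu k⁻¹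
  rw [mem] at a1 a2 b1 b2 c1 c2
  refine ⟨k⁻¹ * y * k, k⁻¹ * z * k, k⁻¹ * w * k, k⁻¹ * v * k, nm y hy, nm z hz, nm w hw, nm v hv,
    ⟨k⁻¹ * g₁ * k, nm _ l1, a1, by simpa [mul_assoc] using a2⟩,
    ⟨k⁻¹ * g₂ * k, nm _ l2, by simpa [mul_assoc] using b1, by simpa [mul_assoc] using b2⟩,
    ⟨k⁻¹ * g₃ * k, nm _ l3, by simpa [mul_assoc] using c1, by simpa [mul_assoc] using c2⟩,
    fun g h0 h1 h2 h3 => hk (k * g * k⁻¹) ?_ ?_ ?_ ?_⟩
  · rw [mem]; simpa [mul_assoc] using h0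
  · rw [mem]; simpa [mul_assoc] using h1
  · rw [mem]; simpa [mul_assoc] using h2
  · rw [mem]; simpa [mul_assoc] using h3

end Quad

variable {F : Type*} [Field F] [Finite F]

local notation "SL2F" => Matrix.SpecialLinearGroup (Fin 2) F
local notation "M2" => Matrix (Fin 2) (Fin 2) F
local notation "PG" => Matrix.ProjGenLinGroup (Fin 2) F
local notation "P1" => ℙ F (Fin 2 → F)
local notation "L" => pslRange F

theorem affP_mem_iff (c : Fˣ) (t : F) : affP c t ∈ L ↔ IsSquare (c : F) := by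
  rw [affP, mk_mem_pslRange_iff, affMat_val, Matrix.det_fin_two_of]
  simp

theorem trans_mem (t : F) : affP (1 : Fˣ) t ∈ L := (affP_mem_iff 1 t).2 IsSquare.one

theorem exists_affine {X : Subgroup PG} (hfix : ∀ g : PG, g ∈ X → g • pInf F = pInf F) {g : PG} (hg : g ∈ X) : ∃ (c : Fˣ) (t : F), g = affP c t := exists_affP_of_fix (hfix g hg)

/-- Multipliers act on the translations. -/
theorem trans_stable {X : Subgroup PG} (hfix : ∀ g : PG, g ∈ X → g • pInf F = pInf F) {c : Fˣ} {t u : F} (hc : affP c t ∈ X) (hu : affP 1 u ∈ X) : affP 1 ((c : F) * u) ∈ X := by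
  have := X.mul_mem (X.mul_mem hc hu) (X.inv_mem hc)
  rwa [affP_inv, affP_mul, affP_mul, mul_one, mul_inv_cancel,
    show (c : F) * (-↑c⁻¹ * t) + ((c : F) * u + t) = (c : F) * u by
      rw [← mul_assoc, mul_neg, Units.mul_inv]; ring] at this

/-- Translations are closed under division by a nontrivial difference of a multiplier and one. -/
theorem trans_div {X : Subgroup PG} (hfix : ∀ g : PG, g ∈ X → g • pInf F = pInf F) {c : Fˣ} {t : F} (hc : affP c t ∈ X) (hc1 : (c : F) ≠ 1) {u : F}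
    (hu : affP 1 (((c : F) - 1) * u) ∈ X) : affP 1 u ∈ X := by
  classical
  set U : Set F := {x | affP 1 x ∈ X}
  have hmap : Set.MapsTo (fun x => ((c : F) - 1) * x) U U := by
    intro x hx
    have h := X.mul_mem (trans_stable hfix hc hx) (X.inv_mem hx)
    rw [affP_inv, affP_mul, inv_one, mul_one] at h
    show affP 1 (((c : F) - 1) * x) ∈ X
    convert h using 2
    simp; ring
  have hinj : Set.InjOn (fun x => ((c : F) - 1) * x) U := fun x _ y _ h =>
    mul_left_cancel₀ (sub_ne_zero.2 hc1) h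
  have heq : (fun x => ((c : F) - 1) * x) '' U = U :=
    Set.eq_of_subset_of_ncard_le hmap.image_subset (by rw [Set.ncard_image_of_injOn hinj]) (Set.toFinite _)
  obtain ⟨x, hx, hxe⟩ := heq.ge hu
  rwa [mul_left_cancel₀ (sub_ne_zero.2 hc1) hxe] at hx

theorem affP_entries {s : SL2F} (h : slToPG s • pInf F = pInf F) : s.1 1 0 = 0 := by
  rw [slToPG_apply, fix_pInf_iff] at h
  simpa using h

/-- The full unipotent group with a non-trivial multiplier. -/
theorem quad_case {X : Subgroup PG} (hfix : ∀ g ∈ X, g • pInf F = pInf F) (hX : X ≤ L)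
    (hU : ∀ t : F, affP 1 t ∈ X) {c₀ : Fˣ} {t₀ : F} (hc₀ : affP c₀ t₀ ∈ X) (hc1 : (c₀ : F) ≠ 1) : Quad L X := by
  obtain ⟨l, hl⟩ := (affP_mem_iff c₀ t₀).1 (hX hc₀)
  have hl0 : l ≠ 0 := fun h => c₀.ne_zero (by rw [hl, h, zero_mul])
  -- membership by first column
  have key : ∀ (s : SL2F) (c : Fˣ), s.1 1 0 = 0 → affP c 0 ∈ X → (s.1 0 0) ^ 2 = (c : F) → slToPG s ∈ X := by
    intro s c h10 hc hsq
    have h11 : s.1 1 1 * s.1 0 0 = 1 := by
      have := s.2
      rw [Matrix.det_fin_two, h10, mul_zero, sub_zero] at this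
      rwa [mul_comm]
    have e : slToPG s = affP 1 (s.1 0 1 * s.1 0 0) * affP c 0 := by
      rw [affP_mul, slToPG_apply, affP, ProjGenLinGroup.mk_eq_mk_iff]
      refine ⟨Units.mk0 (s.1 0 0) (left_ne_zero_of_mul_eq_one (by rwa [mul_comm])), ?_⟩
      refine Units.ext ?_
      ext i j
      fin_cases i <;> fin_cases j <;>
        simp [affMat_val, GeneralLinearGroup.mkOfDetNeZero, Matrix.mul_apply, Fin.sum_univ_two, h10]
      · rw [← hsq]; ring
      · linear_combination h11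
    rw [e]
    exact X.mul_mem (hU _) hc
  have hc00 : affP c₀ 0 ∈ X := by
    have := X.mul_mem (hU (-t₀)) hc₀
    rwa [affP_mul, one_mul, Units.val_one, one_mul, add_neg_cancel] at this
  have hl2 : affP (c₀ * c₀) 0 ∈ X := by
    have := X.mul_mem hc00 hc00
    rwa [affP_mul, mul_zero, add_zero] at this
  have hli : affP c₀⁻¹ 0 ∈ X := by
    have := X.inv_mem hc00
    rwa [affP_inv, mul_zero] at this
  have hl2i : affP (c₀ * c₀)⁻¹ 0 ∈ X := by
    have := X.inv_mem hl2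
    rwa [affP_inv, mul_zero] at this
  have h1c : affP (1 : Fˣ) 0 ∈ X := hU 0
  obtain ⟨y, hy⟩ : ∃ s : SL2F, s.1 = !![0, -1; 1, 0] := by
      refine ⟨⟨_, ?_⟩, rfl⟩
      simp [Matrix.det_fin_two]
  obtain ⟨z, hz⟩ : ∃ s : SL2F, s.1 = !![1, 0; 1, 1] := by
      refine ⟨⟨_, ?_⟩, rfl⟩
      simp [Matrix.det_fin_two]
  obtain ⟨w, hw⟩ : ∃ s : SL2F, s.1 = !![1, 0; -l, 1] := by
      refine ⟨⟨_, ?_⟩, rfl⟩
      simp [Matrix.det_fin_two]
  obtain ⟨v, hv⟩ : ∃ s : SL2F, s.1 = !![l * l, 0; -l, (l * l)⁻¹] := by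
      refine ⟨⟨_, ?_⟩, rfl⟩
      simp [Matrix.det_fin_two]; field_simp
  refine ⟨slToPG y, slToPG z, slToPG w, slToPG v, slToPG_mem _, slToPG_mem _, slToPG_mem _, slToPG_mem _, ?_, ?_,
    ?_, ?_⟩
  · obtain ⟨a, ha⟩ : ∃ s : SL2F, s.1 = !![1, (1 - l * l) / l; 0, 1] := by
      refine ⟨⟨_, ?_⟩, rfl⟩
      simp [Matrix.det_fin_two]
    refine ⟨slToPG a, slToPG_mem _, key a 1 (by simp [ha]) h1c (by simp [ha]), ?_⟩
    rw [← map_inv, ← map_mul, ← map_mul]
    refine key _ 1 ?_ h1c ?_ <;>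
      · simp [ha, hv, hw, Matrix.SpecialLinearGroup.coe_mul, Matrix.SpecialLinearGroup.coe_inv,
          Matrix.adjugate_fin_two, Matrix.mul_apply, Fin.sum_univ_two, Matrix.vecMul, dotProduct]
        field_simp
        try ring_nf
        try tauto
  · obtain ⟨b, hb⟩ : ∃ s : SL2F, s.1 = !![l * l, 0; l⁻¹ - l, (l * l)⁻¹] := by
      refine ⟨⟨_, ?_⟩, rfl⟩
      simp [Matrix.det_fin_two]; field_simp
    refine ⟨slToPG b, slToPG_mem _, ?_, ?_⟩ <;> rw [← map_inv, ← map_mul, ← map_mul]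
    · refine key _ (c₀ * c₀)⁻¹ ?_ hl2i ?_ <;>
        simp [hb, hy, Matrix.SpecialLinearGroup.coe_mul, Matrix.SpecialLinearGroup.coe_inv,
          Matrix.adjugate_fin_two, Matrix.mul_apply, Fin.sum_univ_two, Matrix.vecMul, dotProduct]
      rw [hl]
      field_simp
    · refine key _ 1 ?_ h1c ?_ <;>
      · simp [hb, hv, hw, Matrix.SpecialLinearGroup.coe_mul, Matrix.SpecialLinearGroup.coe_inv,
          Matrix.adjugate_fin_two, Matrix.mul_apply, Fin.sum_univ_two, Matrix.vecMul, dotProduct]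
        field_simp
        try ring_nf
        try tauto
  · by_cases hl1 : l + 1 = 0
    · exact absurd (by rw [hl, eq_neg_of_add_eq_zero_left hl1]; ring) hc1
    obtain ⟨b, hb⟩ : ∃ s : SL2F, s.1 = !![l⁻¹ - (l⁻¹ - l * l) / (1 + l), (l⁻¹ - l * l) / (1 + l);
        l⁻¹ - (l⁻¹ + l) / (1 + l), (l⁻¹ + l) / (1 + l)] := by
      refine ⟨⟨_, ?_⟩, rfl⟩
      have : (1 : F) + l ≠ 0 := by rwa [add_comm]
      simp [Matrix.det_fin_two]
      field_simp
      ring
    have h1l : (1 : F) + l ≠ 0 := by rwa [add_comm]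
    refine ⟨slToPG b, slToPG_mem _, ?_, ?_⟩ <;> rw [← map_inv, ← map_mul, ← map_mul]
    · refine key _ c₀⁻¹ ?_ hli ?_ <;>
        simp [hb, hz, Matrix.SpecialLinearGroup.coe_mul, Matrix.SpecialLinearGroup.coe_inv,
          Matrix.adjugate_fin_two, Matrix.mul_apply, Fin.sum_univ_two, Matrix.vecMul, dotProduct]
      rw [hl]
      field_simp
    · refine key _ 1 ?_ h1c ?_ <;>
      · simp [hb, hv, hw, Matrix.SpecialLinearGroup.coe_mul, Matrix.SpecialLinearGroup.coe_inv,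
          Matrix.adjugate_fin_two, Matrix.mul_apply, Fin.sum_univ_two, Matrix.vecMul, dotProduct]
        field_simp
        try ring_nf
        try tauto
  · intro g hg h1 h2 h3
    obtain ⟨s, rfl⟩ := exists_lift (hX hg)
    rw [← map_inv, ← map_mul, ← map_mul] at h1 h2 h3
    have e0 := affP_entries (hfix _ hg)
    have e1 := affP_entries (hfix _ h1)
    have e2 := affP_entries (hfix _ h2)
    have e3 := affP_entries (hfix _ h3)
    simp [hy, hz, hw, hv, Matrix.SpecialLinearGroup.coe_mul, Matrix.SpecialLinearGroup.coe_inv,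
      Matrix.adjugate_fin_two, Matrix.mul_apply, Fin.sum_univ_two, Matrix.vecMul, dotProduct] at e1 e2 e3
    have hd := s.2
    rw [Matrix.det_fin_two, e0, mul_zero, sub_zero] at hd
    have h00 : s.1 0 0 ≠ 0 := left_ne_zero_of_mul_eq_one hd
    have e01 : s.1 0 1 = 0 := by linear_combination e1
    have e11 : s.1 1 1 = s.1 0 0 := by linear_combination e2 + e01 - e0
    rw [e0, e01, e11] at e3
    have hl21 : l * l ≠ 1 := fun h => hc1 (by rw [hl, h])
    refine hl21 ?_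
    have : s.1 0 0 * l * (1 - l * l) = 0 := by linear_combination e3
    rcases mul_eq_zero.1 this with h | h
    · exact absurd h (mul_ne_zero h00 hl0)
    · linear_combination -h

end CfsgLib.CharsMore.BinaryPSL2
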