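import Cfsg.Agent.Lib.CharsMore.BinaryPSL2.Borel
import Cfsg.Agent.Lib.CharsMore.BinaryPSL2.Additive

/-!
# Non-binary witnesses for subgroups of a Borel subgroup
-/

set_option autoImplicit false
set_option linter.unusedSectionVars false

namespace CfsgLib.CharsMore.BinaryPSL2

open Matrix MulAction CfsgLib.PSL2 CfsgLib.Classical
open scoped LinearAlgebra.Projectivization

variable {F : Type*} [Field F] [Finite F]

local notation "SL2F" => Matrix.SpecialLinearGroup (Fin 2) F
local notation "PG" => Matrix.ProjGenLinGroup (Fin 2) F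
local notation "P1" => ℙ F (Fin 2 → F)
local notation "L" => pslRange F

/-- Odd order: three conjugates with fixed points `∞`, `0` and `-u / 2`. -/
theorem borel_odd_case (h2 : (2 : F) ≠ 0) {X : Subgroup PG} (hfix : ∀ g ∈ X, g • pInf F = pInf F) {u : F}
    (hu : u ≠ 0) (huX : affP 1 u ∈ X)
    (hprop : (∃ t : F, affP 1 t ∉ X) ∨ ∀ (c : Fˣ) (t : F), affP c t ∈ X → c = 1) : Tri L X := by
  obtain ⟨v, hv⟩ : ∃ v : F, ∀ c : Fˣ, (c : F) ≠ 1 → affP c (((c : F) - 1) * v) ∉ X := by
    by_cases hC : ∀ (c : Fˣ) (t : F), affP c t ∈ X → c = 1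
    · exact ⟨0, fun c hc h => hc (by rw [hC c _ h, Units.val_one])⟩
    obtain ⟨t₀, ht₀⟩ := hprop.resolve_right hC
    push Not at hC
    obtain ⟨c₀, s₀, hcs, hc₀⟩ := hC
    have hc₀' : (c₀ : F) - 1 ≠ 0 := sub_ne_zero.2 fun h => hc₀ (Units.ext h)
    refine ⟨s₀ / ((c₀ : F) - 1) + t₀, fun c hc h => ht₀ ?_⟩
    set f₀ := s₀ / ((c₀ : F) - 1) with hf₀
    have hs₀ : s₀ = ((c₀ : F) - 1) * f₀ := by rw [hf₀, mul_div_cancel₀ _ hc₀']
    -- the commutator of the two elements is a translation
    have hw := X.mul_mem (X.mul_mem hcs h) (X.inv_mem (X.mul_mem h hcs))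
    rw [affP_mul, affP_mul, affP_inv, affP_mul, mul_comm c c₀, mul_inv_cancel] at hw
    refine trans_div hfix hcs (fun h1 => hc₀ (Units.ext h1)) (trans_div hfix h hc ?_)
    convert hw using 2
    rw [hs₀]
    field_simp
    simp
    field_simp
    ring
  obtain ⟨g, hg⟩ : ∃ s : SL2F, s.1 = !![0, -(u / 2); 2 / u, 0] := by
    refine ⟨⟨_, ?_⟩, rfl⟩
    simp [Matrix.det_fin_two]
    field_simp
  obtain ⟨g', hg'⟩ : ∃ s : SL2F, s.1 = !![1, 0; -(2 / u), 1] := by
    refine ⟨⟨_, ?_⟩, rfl⟩
    simp [Matrix.det_fin_two]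
  obtain ⟨T, hT⟩ : ∃ s : SL2F, s.1 = !![1, u; 0, 1] := by
    refine ⟨⟨_, ?_⟩, rfl⟩
    simp [Matrix.det_fin_two]
  obtain ⟨b, hb⟩ : ∃ s : SL2F, s.1 = !![1, 0; 4 / u, 1] := by
    refine ⟨⟨_, ?_⟩, rfl⟩
    simp [Matrix.det_fin_two]
  have hTe : slToPG T = affP 1 u := by
    rw [slToPG_apply, affP]
    refine congrArg _ (Units.ext ?_)
    rw [affMat_val, Units.val_one, ← hT]
    rfl
  have hTi : (T⁻¹).1 = !![1, -u; 0, 1] := by
    rw [Matrix.SpecialLinearGroup.coe_inv, hT]
    simp [Matrix.adjugate_fin_two]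
  have hgb : g * T⁻¹ * g⁻¹ = b := by
    refine Subtype.ext ?_
    rw [Matrix.SpecialLinearGroup.coe_mul, Matrix.SpecialLinearGroup.coe_mul, hTi, Matrix.SpecialLinearGroup.coe_inv,
      hg, hb]
    ext i j
    fin_cases i <;> fin_cases j <;>
      simp [Matrix.mul_apply, Fin.sum_univ_two, Matrix.adjugate_fin_two, Matrix.vecMul, dotProduct] <;>
      field_simp
    ring
  have hgc : slToPG (b⁻¹ * T) = slToPG (g' * T⁻¹ * g'⁻¹) := by
    rw [slToPG_eq_iff]
    refine .inr (Subtype.ext ?_)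
    rw [Matrix.SpecialLinearGroup.coe_neg, Matrix.SpecialLinearGroup.coe_mul, Matrix.SpecialLinearGroup.coe_mul,
      Matrix.SpecialLinearGroup.coe_mul, hTi, Matrix.SpecialLinearGroup.coe_inv, Matrix.SpecialLinearGroup.coe_inv,
      hg', hb, hT]
    ext i j
    fin_cases i <;> fin_cases j <;>
      simp [Matrix.mul_apply, Fin.sum_univ_two, Matrix.adjugate_fin_two, Matrix.vecMul, dotProduct] <;>
      field_simp <;> ring
  have hui : affP (1 : Fˣ) (-u) ∈ X := by
    have := X.inv_mem huX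
    rwa [affP_inv, inv_one, Units.val_one, neg_one_mul] at this
  have hTi' : slToPG T⁻¹ ∈ X := by rw [map_inv, hTe]; exact X.inv_mem huX
  refine Tri.mk' (x := affP 1 v) (y := slToPG g) (z := slToPG g') (a := affP 1 u) (b := slToPG b)
    (c := slToPG (b⁻¹ * T)) (trans_mem v) (slToPG_mem g) (slToPG_mem g')
    (by rw [map_mul, map_inv, mul_inv_cancel_left, hTe]) ?_ ?_ ?_ (fun k hA hB hC => ?_)
  · rw [affP_inv, affP_mul, affP_mul]
    convert huX using 2 <;> simp
  · rw [← hgb, map_mul, map_mul, map_inv slToPG g]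
    simpa [mul_assoc] using hTi'
  · rw [hgc, map_mul, map_mul, map_inv slToPG g']
    simpa [mul_assoc] using hTi'
  have fixA := fix_conj (hfix _ hA)
  rw [affP_smul_inf] at fixA
  have g0 : slToPG g • pInf F = pZero F := by
    rw [slToPG_apply, pInf, pZero, gl_smul_mk, Projectivization.mk_eq_mk_iff']
    exact ⟨2 / u, by ext i; fin_cases i <;> simp [hg, mulVec, dotProduct]⟩
  have gu : slToPG g' • pInf F = ptP (-(u / 2)) := by
    rw [slToPG_apply, pInf, ptP, gl_smul_mk, Projectivization.mk_eq_mk_iff']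
    exact ⟨-(2 / u), by ext i; fin_cases i <;> simp [hg', mulVec, dotProduct]; field_simp⟩
  have fixB := fix_conj (hfix _ hB)
  rw [g0] at fixB
  obtain ⟨c, t, rfl⟩ := exists_affP_of_fix fixA
  rw [← ptP_zero, affP_smul_pt, mul_zero, zero_add] at fixB
  obtain rfl := ptP_injective fixB
  have hc : (c : F) = 1 := by
    by_contra hc
    refine hv c hc ?_
    rw [affP_inv, affP_mul, affP_mul] at hA
    convert hA using 2 <;> simp
    ring
  obtain rfl : c = 1 := Units.ext hc
  have fixC := fix_conj (hfix _ hC)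
  rw [gu, affP_one, inv_one, one_mul, affP_smul_pt] at fixC
  have := ptP_injective fixC
  exact hu (by simpa using this)

/-- Even order with a multiplier: three conjugates fixing `∞`. -/
theorem borel_mult_case {X : Subgroup PG} (hfix : ∀ g ∈ X, g • pInf F = pInf F) {v : F} (hv : affP 1 v ∉ X)
    {s t : Fˣ} (hs : affP s 0 ∈ X) (ht : affP t 0 ∈ X) (hs1 : (s : F) ≠ 1) (ht1 : (t : F) ≠ 1) (hst : t ≠ s) :
    Tri L X := by
  have hts : (t : F) - s ≠ 0 := sub_ne_zero.2 fun h => hst (Units.ext h)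
  set w : F := v * (1 - s) / ((t : F) - s) with hw
  have hw' : w * ((t : F) - s) = v * (1 - s) := by rw [hw, div_mul_cancel₀ _ hts]
  set s' : Fˣ := s⁻¹ * t with hs'
  have hs'X : affP s' 0 ∈ X := by
    have := X.mul_mem (X.inv_mem hs) ht
    rwa [affP_inv, affP_mul, mul_zero, mul_zero, add_zero] at this
  refine Tri.mk' (x := 1) (y := affP 1 v) (z := affP 1 w) (a := affP t 0) (b := affP s (v * (1 - s)))
    (c := affP s' (w * (1 - s'))) (one_mem L) (trans_mem v) (trans_mem w) ?_ (by simpa using ht) ?_ ?_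
    (fun k hA hB hC => ?_)
  · rw [affP_mul]
    congr 1
    · rw [hs', mul_inv_cancel_left]
    · rw [hs', Units.val_mul, Units.val_inv_eq_inv_val]
      field_simp
      linear_combination hw'
  · rw [affP_inv, affP_mul, affP_mul]
    convert hs using 2 <;> simp
    ring
  · rw [affP_inv, affP_mul, affP_mul]
    convert hs'X using 2 <;> simp
    ring
  rw [inv_one, one_mul, mul_one] at hA
  obtain ⟨c, r, rfl⟩ := exists_affine hfix hA
  by_cases hc : (c : F) = 1
  · obtain rfl : c = 1 := Units.ext hc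
    simp only [affP_inv, affP_mul] at hC
    have h1 := X.mul_mem (X.mul_mem hA hC) (X.inv_mem ht)
    rw [affP_mul, affP_inv, affP_mul] at h1
    have h2 : affP 1 (((t : F) - 1) * w) ∈ X := by
      convert h1 using 2 <;> simp
      ring
    have h3 : affP 1 w ∈ X := trans_div hfix ht ht1 h2
    refine hv (trans_div hfix hs hs1 ?_)
    have h4 := trans_stable hfix hs (show affP 1 (((s' : F) - 1) * w) ∈ X by
      have := X.mul_mem (trans_stable hfix hs'X h3) (X.inv_mem h3)
      rw [affP_inv, affP_mul, inv_one, mul_one] at this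
      convert this using 2
      simp; ring)
    have := X.inv_mem h4
    rw [affP_inv, inv_one] at this
    convert this using 2
    rw [hs', Units.val_mul, Units.val_inv_eq_inv_val, Units.val_one]
    field_simp
    linear_combination hw'
  · refine hv (trans_div hfix hA hc ?_)
    rw [affP_inv, affP_mul, affP_mul] at hB
    have h1 := X.mul_mem hB (X.inv_mem hA)
    rw [affP_inv, affP_mul] at h1
    convert h1 using 2 <;> simp
    field_simp
    ring

/-- Even order without multipliers. -/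
theorem borel_additive_case (he : Even (Nat.card F)) {X : Subgroup PG}
    (honly : ∀ g ∈ X, ∃ t : F, g = affP 1 t) (h0 : ∃ t : F, t ≠ 0 ∧ affP 1 t ∈ X) (h1 : ∃ t : F, affP 1 t ∉ X) :
    Tri L X := by
  obtain ⟨p, hp⟩ := CharP.exists F
  haveI : Fact p.Prime := ⟨CharP.char_is_prime F p⟩
  have := (p_eq_two_iff (F := F) p).2 he
  subst this
  let A : AddSubgroup F :=
    { carrier := {t | affP 1 t ∈ X}
      zero_mem' := by show affP 1 0 ∈ X; rw [affP_one]; exact X.one_mem
      add_mem' := fun {x y} hx hy => by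
        have := X.mul_mem hy hx
        rw [affP_mul, mul_one, Units.val_one, one_mul] at this
        exact this
      neg_mem' := fun {x} hx => by
        have := X.inv_mem hx
        rw [affP_inv, inv_one, Units.val_one, neg_one_mul] at this
        exact this }
  obtain ⟨s, t, hs, ht, a, ha, b, hb, c, hc, e, hk⟩ := exists_additive_triple A
    (fun h => by obtain ⟨x, hx0, hx⟩ := h0; exact hx0 (by simpa [h] using (show x ∈ A from hx)))
    (fun h => by obtain ⟨x, hx⟩ := h1; exact hx (show x ∈ A from h ▸ trivial))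
  have hL : ∀ g : PG, g ∈ L := fun g => by rw [pslRange_eq_top_of_even he]; trivial
  have cj : ∀ (r x : F) (hr : r ≠ 0), (affP (Units.mk0 r hr) 0)⁻¹ * affP 1 x * affP (Units.mk0 r hr) 0 =
      affP 1 (r⁻¹ * x) := fun r x hr => by
    rw [affP_inv, affP_mul, affP_mul]
    congr 1 <;> simp
  refine Tri.mk' (x := 1) (y := affP (Units.mk0 s hs) 0) (z := affP (Units.mk0 t ht) 0) (a := affP 1 a)
    (b := affP 1 (s * b)) (c := affP 1 (t * c)) (one_mem L) (hL _) (hL _) ?_ ?_ ?_ ?_ (fun k hA hB hC => ?_)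
  · rw [affP_mul, mul_one, Units.val_one, one_mul, e, add_comm]
  · have ha' : affP 1 a ∈ X := ha
    simpa using ha'
  · rw [cj, inv_mul_cancel_left₀ hs]; exact hb
  · rw [cj, inv_mul_cancel_left₀ ht]; exact hc
  rw [inv_one, one_mul, mul_one] at hA
  obtain ⟨k, rfl⟩ := honly k hA
  rw [cj] at hB
  rw [show (affP (1 : Fˣ) k)⁻¹ * affP 1 a = affP 1 (a - k) by
    rw [affP_inv, affP_mul]; congr 1 <;> simp; ring, cj] at hC
  refine hk k hA _ hB (by rw [mul_inv_cancel_left₀ hs]) _ hC ?_
  rw [mul_inv_cancel_left₀ ht]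
  ring

variable {p : ℕ} [Fact p.Prime] [CharP F p]

/-- The groups fixing infinity. -/
theorem borel_inf_case {X : Subgroup PG} (hX : X ≤ L) (hfix : ∀ g ∈ X, g • pInf F = pInf F)
    (hp : p ∣ Nat.card X) (hexc : ¬ (Even (Nat.card F) ∧ Nat.card X = Nat.card F)) : Tri L X ∨ Quad L X := by
  classical
  haveI : Finite X := Subtype.finite
  obtain ⟨u, hu, huX⟩ : ∃ u : F, u ≠ 0 ∧ affP 1 u ∈ X := by
    obtain ⟨g, hg⟩ := exists_prime_orderOf_dvd_card' p hp
    obtain ⟨c, t, hct⟩ := exists_affine hfix g.2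
    have hgp : affP c t ^ p = 1 := by
      rw [← hct, ← SubgroupClass.coe_pow, ← hg, pow_orderOf_eq_one, OneMemClass.coe_one]
    obtain rfl := (affP_pow_eq_one_iff p c t).1 hgp
    refine ⟨t, fun h => ?_, hct ▸ g.2⟩
    rw [h, affP_one] at hct
    rw [show g = 1 from Subtype.ext hct, orderOf_one] at hg
    exact (Fact.out : p.Prime).ne_one hg.symm
  by_cases hC : ∀ (c : Fˣ) (t : F), affP c t ∈ X → c = 1
  · rcases Nat.even_or_odd (Nat.card F) with he | ho
    · have honly : ∀ g ∈ X, ∃ t : F, g = affP 1 t := fun g hg => by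
        obtain ⟨c, t, rfl⟩ := exists_affine hfix hg
        exact ⟨t, by rw [hC c t hg]⟩
      refine .inl (borel_additive_case he honly ⟨u, hu, huX⟩ ?_)
      by_contra! hall
      refine hexc ⟨he, (Nat.card_congr (Equiv.ofBijective (fun t : F => (⟨affP 1 t, hall t⟩ : X))
        ⟨fun s t h => (affP_injective (congrArg Subtype.val h)).2, fun g => ?_⟩)).symm⟩
      obtain ⟨t, ht⟩ := honly g.1 g.2
      exact ⟨t, Subtype.ext ht.symm⟩
    · exact .inl (borel_odd_case (two_ne_zero_of_odd ho) hfix hu huX (.inr hC))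
  push Not at hC
  obtain ⟨c, t₀, hc, hc1⟩ := hC
  have hc1' : (c : F) ≠ 1 := fun h => hc1 (Units.ext h)
  by_cases hU : ∀ t : F, affP 1 t ∈ X
  · exact .inr (quad_case hfix hX hU hc hc1')
  push Not at hU
  rcases Nat.even_or_odd (Nat.card F) with he | ho
  swap
  · exact .inl (borel_odd_case (two_ne_zero_of_odd ho) hfix hu huX (.inl hU))
  left
  -- move the fixed point of the multiplier to zero
  have h2 := two_eq_zero_of_even he
  set f : F := t₀ / (1 - c) with hf
  have h1c : 1 - (c : F) ≠ 0 := sub_ne_zero.2 fun h => hc1' h.symm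
  refine Tri.of_conj (affP 1 (-f)) ?_
  set Y := X.map (MulAut.conj (affP (1 : Fˣ) (-f))).toMonoidHom with hY
  have hmem : ∀ (d : Fˣ) (x : F), affP d x ∈ Y ↔ affP d (x + (1 - (d : F)) * f) ∈ X := by
    intro d x
    rw [hY, Subgroup.mem_map_equiv, MulAut.conj_symm_apply, affP_inv, affP_mul, affP_mul]
    congr! 2 <;> simp
    ring
  have hfix' : ∀ g ∈ Y, g • pInf F = pInf F := by
    rintro _ ⟨g, hg, rfl⟩
    show (affP 1 (-f) * g * (affP 1 (-f))⁻¹) • pInf F = pInf F
    rw [affP_inv, mul_smul, mul_smul, affP_smul_inf, hfix g hg, affP_smul_inf]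
  obtain ⟨v, hv⟩ := hU
  have hcY : affP c 0 ∈ Y := by
    rw [hmem, zero_add, hf]
    convert hc using 2
    field_simp
  refine borel_mult_case hfix' (v := v) (fun h => hv ?_) hcY (t := c * c) ?_ hc1' ?_ ?_
  · rw [hmem] at h
    simpa using h
  · have := Y.mul_mem hcY hcY
    rwa [affP_mul, mul_zero, add_zero] at this
  · intro h
    rw [Units.val_mul] at h
    exact hc1' (by
      have : ((c : F) - 1) ^ 2 = 0 := by linear_combination h + (1 - (c : F)) * h2
      exact sub_eq_zero.1 (pow_eq_zero_iff two_ne_zero |>.1 this))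
  · exact fun h => hc1 (mul_eq_left.1 h)

/-- The groups with a rational fixed point. -/
theorem borel_case {X : Subgroup PG} (hX : X ≤ L) {x : P1} (hfix : ∀ g ∈ X, g • x = x)
    (hp : p ∣ Nat.card X) (hexc : ¬ (Even (Nat.card F) ∧ Nat.card X = Nat.card F)) : Tri L X ∨ Quad L X := by
  obtain ⟨k, hk⟩ := exists_to_inf x
  set Y := X.map (MulAut.conj k⁻¹).toMonoidHom with hY
  have hcard : Nat.card Y = Nat.card X := Subgroup.card_map_of_injective (MulAut.conj k⁻¹).injective
  have hYL : Y ≤ L := by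
    rintro _ ⟨g, hg, rfl⟩
    exact normal_pslRange.conj_mem g (hX hg) k⁻¹
  have hYfix : ∀ g ∈ Y, g • pInf F = pInf F := by
    rintro _ ⟨g, hg, rfl⟩
    show (k⁻¹ * g * k⁻¹⁻¹) • pInf F = pInf F
    rw [inv_inv]
    exact conj_smul_eq hk (hfix g hg)
  exact (borel_inf_case hYL hYfix (hcard ▸ hp) (hcard ▸ hexc)).imp (Tri.of_conj _) (Quad.of_conj _)

end CfsgLib.CharsMore.BinaryPSL2
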