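import Cfsg.Agent.Lib.CharsMore.BinaryPSL2.Criterion
import Cfsg.Agent.Lib.Classical.Order
import Mathlib.GroupTheory.Sylow

/-!
# The binary actions of `PSL₂` in characteristic two
-/

set_option autoImplicit false
set_option linter.unusedSectionVars false

namespace CfsgLib.CharsMore.BinaryPSL2

open Matrix CfsgLib.Classical

section General

variable {G : Type*} [Group G]

theorem isBinary_bot : IsBinary G (⊥ : Subgroup G) := by
  intro n I J hn hp
  obtain ⟨g, hg, -⟩ := hp ⟨0, by omega⟩ ⟨1, by omega⟩ (by simp [Fin.ext_iff])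
  refine ⟨g, fun i => ?_⟩
  by_cases hi : i = ⟨0, by omega⟩
  · rw [hi, hg]
  obtain ⟨g', h0, h1⟩ := hp _ i (Ne.symm hi)
  suffices g' = g by rw [← this, h1]
  obtain ⟨x, hx⟩ := QuotientGroup.mk_surjective (I ⟨0, by omega⟩)
  have h := h0.trans hg.symm
  rw [← hx, MulAction.Quotient.smul_coe, MulAction.Quotient.smul_coe, QuotientGroup.eq, Subgroup.mem_bot,
    inv_mul_eq_one] at h
  exact mul_right_cancel h

/-- Binary actions pass to quotient groups. -/
theorem IsBinary.of_surjective {S : Type*} [Group S] {π : S →* G} (hπ : Function.Surjective π) {H : Subgroup G}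
    (h : IsBinary S (H.comap π)) : IsBinary G H := by
  intro n I J hn hp
  choose x hx using fun i => QuotientGroup.mk_surjective (I i)
  choose y hy using fun i => QuotientGroup.mk_surjective (J i)
  choose x' hx' using fun i => hπ (x i)
  choose y' hy' using fun i => hπ (y i)
  have key : ∀ (s : S) (i : Fin n), s • ((x' i : S) : S ⧸ H.comap π) = ((y' i : S) : S ⧸ H.comap π) ↔
      π s • I i = J i := by
    intro s i
    rw [← hx, ← hy, smul_mk_eq, smul_mk_eq, Subgroup.mem_comap, map_mul, map_mul, map_inv, hx', hy']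
  obtain ⟨s, hs⟩ := h n (fun i => ((x' i : S) : S ⧸ H.comap π)) (fun i => ((y' i : S) : S ⧸ H.comap π)) hn (by
    intro i j hij
    obtain ⟨g, h1, h2⟩ := hp i j hij
    obtain ⟨s, rfl⟩ := hπ g
    exact ⟨s, (key s i).2 h1, (key s j).2 h2⟩)
  exact ⟨π s, fun i => (key s i).1 (hs i)⟩

end General

variable {F : Type*} [Field F] [Finite F]

local notation "SL2F" => Matrix.SpecialLinearGroup (Fin 2) F
local notation "M2" => Matrix (Fin 2) (Fin 2) F

/-- The stabiliser of a vector in `SL₂`. -/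
def vecStab (v : Fin 2 → F) : Subgroup SL2F where
  carrier := {S | S.1 *ᵥ v = v}
  one_mem' := Matrix.one_mulVec v
  mul_mem' := fun {a b} ha hb => by
    show (a.1 * b.1) *ᵥ v = v
    rw [← Matrix.mulVec_mulVec, hb, ha]
  inv_mem' := fun {a} ha => by
    show (a⁻¹ : SL2F).1 *ᵥ v = v
    conv_lhs => rw [← (show a.1 *ᵥ v = v from ha), Matrix.mulVec_mulVec, ← Matrix.SpecialLinearGroup.coe_mul,
      inv_mul_cancel, Matrix.SpecialLinearGroup.coe_one, Matrix.one_mulVec]

theorem mem_vecStab {v : Fin 2 → F} {S : SL2F} : S ∈ vecStab v ↔ S.1 *ᵥ v = v := Iff.rfl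

theorem inv_mulVec_eq_iff {S : SL2F} {v w : Fin 2 → F} : (S⁻¹ : SL2F).1 *ᵥ v = w ↔ v = S.1 *ᵥ w := by
  constructor
  · rintro rfl
    rw [Matrix.mulVec_mulVec, ← Matrix.SpecialLinearGroup.coe_mul, mul_inv_cancel,
      Matrix.SpecialLinearGroup.coe_one, Matrix.one_mulVec]
  · rintro rfl
    rw [Matrix.mulVec_mulVec, ← Matrix.SpecialLinearGroup.coe_mul, inv_mul_cancel,
      Matrix.SpecialLinearGroup.coe_one, Matrix.one_mulVec]

theorem mulVec_ne_zero {S : SL2F} {v : Fin 2 → F} (hv : v ≠ 0) : S.1 *ᵥ v ≠ 0 := fun h => hv (by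
  have := inv_mulVec_eq_iff (S := S) (v := 0) (w := v) |>.2 h.symm
  rw [Matrix.mulVec_zero] at this
  exact this.symm)

/-- The area of two vectors. -/
def area (v w : Fin 2 → F) : F := v 0 * w 1 - v 1 * w 0

theorem area_mulVec (S : SL2F) (v w : Fin 2 → F) : area (S.1 *ᵥ v) (S.1 *ᵥ w) = area v w := by
  have := S.2
  rw [Matrix.det_fin_two] at this
  simp only [area, Matrix.mulVec, dotProduct, Fin.sum_univ_two]
  linear_combination (v 0 * w 1 - v 1 * w 0) * this

theorem exists_smul_of_area_eq_zero {v w : Fin 2 → F} (hv : v ≠ 0) (h : area v w = 0) : ∃ c : F, w = c • v := by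
  rw [area] at h
  by_cases h0 : v 0 = 0
  · have h1 : v 1 ≠ 0 := fun h1 => hv (funext fun i => by fin_cases i <;> assumption)
    refine ⟨w 1 / v 1, funext fun i => ?_⟩
    rw [h0, zero_mul, zero_sub, neg_eq_zero, mul_eq_zero] at h
    fin_cases i
    · show w 0 = w 1 / v 1 * v 0
      rw [h0, mul_zero]; exact h.resolve_left h1
    · show w 1 = w 1 / v 1 * v 1
      field_simp
  · refine ⟨w 0 / v 0, funext fun i => ?_⟩
    fin_cases i
    · show w 0 = w 0 / v 0 * v 0
      field_simp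
    · show w 1 = w 0 / v 0 * v 1
      field_simp
      linear_combination h

theorem eq_of_area_eq {a b u w : Fin 2 → F} (hab : area a b ≠ 0) (ha : area a u = area a w)
    (hb : area b u = area b w) : u = w := by
  simp only [area] at *
  funext i
  fin_cases i
  · refine mul_left_cancel₀ hab ?_
    show _ * u 0 = _ * w 0
    linear_combination b 0 * ha - a 0 * hb
  · refine mul_left_cancel₀ hab ?_
    show _ * u 1 = _ * w 1
    linear_combination b 1 * ha - a 1 * hb

/-- The action on the orbit of a vector is binary. -/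
theorem isBinary_vecStab {v : Fin 2 → F} (hv : v ≠ 0) : IsBinary SL2F (vecStab v) := by
  intro n I J hn hp
  choose x hx using fun i => QuotientGroup.mk_surjective (I i)
  choose y hy using fun i => QuotientGroup.mk_surjective (J i)
  set p := fun i => (x i).1 *ᵥ v with hpd
  set r := fun i => (y i).1 *ᵥ v with hrd
  have key : ∀ (g : SL2F) (i : Fin n), g • I i = J i ↔ g.1 *ᵥ p i = r i := by
    intro g i
    rw [← hx, ← hy, smul_mk_eq, mem_vecStab, Matrix.SpecialLinearGroup.coe_mul, Matrix.SpecialLinearGroup.coe_mul,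
      ← Matrix.mulVec_mulVec, ← Matrix.mulVec_mulVec]
    exact inv_mulVec_eq_iff
  simp only [key] at hp ⊢
  by_cases hind : ∃ a b, area (p a) (p b) ≠ 0
  · obtain ⟨a, b, hab⟩ := hind
    have hne : a ≠ b := fun h => hab (by rw [h, area]; ring)
    obtain ⟨g, ga, gb⟩ := hp a b hne
    refine ⟨g, fun c => ?_⟩
    by_cases hca : c = a
    · rw [hca, ga]
    by_cases hcb : c = b
    · rw [hcb, gb]
    obtain ⟨g1, h1a, h1c⟩ := hp a c (Ne.symm hca)
    obtain ⟨g2, h2b, h2c⟩ := hp b c (Ne.symm hcb)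
    refine eq_of_area_eq (a := r a) (b := r b) ?_ ?_ ?_
    · rwa [← ga, ← gb, area_mulVec]
    · conv_rhs => rw [← h1a, ← h1c, area_mulVec]
      rw [← ga, area_mulVec]
    · conv_rhs => rw [← h2b, ← h2c, area_mulVec]
      rw [← gb, area_mulVec]
  · push Not at hind
    obtain ⟨g, g0, -⟩ := hp ⟨0, by omega⟩ ⟨1, by omega⟩ (by simp [Fin.ext_iff])
    refine ⟨g, fun c => ?_⟩
    by_cases hc : c = ⟨0, by omega⟩
    · rw [hc, g0]
    obtain ⟨g', h0, hcc⟩ := hp _ c (Ne.symm hc)
    have hp0 : p ⟨0, by omega⟩ ≠ 0 := mulVec_ne_zero hv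
    obtain ⟨l, hl⟩ := exists_smul_of_area_eq_zero hp0 (hind ⟨0, by omega⟩ c)
    rw [← hcc, hl, Matrix.mulVec_smul, Matrix.mulVec_smul, g0, h0]

/-- Elements of order three have trace one. -/
theorem sq_of_cube [CharP F 2] {a : SL2F} (ha : a ^ 3 = 1) (ha1 : a ≠ 1) :
    a.1 * a.1 = a.1 + 1 ∧ a.1 0 0 + a.1 1 1 = 1 := by
  have h2 : (2 : F) = 0 := CharP.cast_eq_zero F 2
  have hdet := a.2
  rw [Matrix.det_fin_two] at hdet
  set t := a.1 0 0 + a.1 1 1 with ht
  have hCH : a.1 * a.1 = t • a.1 + 1 := by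
    ext i j
    fin_cases i <;> fin_cases j <;> simp [Matrix.mul_apply, Fin.sum_univ_two, ht]
    · linear_combination -hdet - h2
    · ring
    · ring
    · linear_combination -hdet - h2
  suffices t = 1 by exact ⟨by rw [hCH, this, one_smul], this⟩
  by_contra hne
  have h3 : a.1 * a.1 * a.1 = 1 := by
    have := congrArg Subtype.val ha
    rwa [pow_succ, pow_two] at this
  rw [hCH, add_mul, smul_mul_assoc, one_mul, hCH] at h3
  have ht1 : t * t + 1 ≠ 0 := by
    intro h
    exact hne (sub_eq_zero.1 (pow_eq_zero_iff two_ne_zero |>.1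
      (show (t - 1) ^ 2 = 0 by linear_combination h - t * h2)))
  have e : ∀ i j : Fin 2, t * (t * a.1 i j + (1 : M2) i j) + a.1 i j = (1 : M2) i j := fun i j => by
    have := congrFun (congrFun h3 i) j
    simp at this
    linear_combination this
  have e01 := e 0 1
  have e10 := e 1 0
  have e00 := e 0 0
  have e11 := e 1 1
  simp at e01 e10 e00 e11
  have z01 : a.1 0 1 = 0 := by
    refine (mul_eq_zero.1 (show (t * t + 1) * a.1 0 1 = 0 by linear_combination e01)).resolve_left ht1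
  have z10 : a.1 1 0 = 0 := by
    refine (mul_eq_zero.1 (show (t * t + 1) * a.1 1 0 = 0 by linear_combination e10)).resolve_left ht1
  have heq : a.1 0 0 = a.1 1 1 :=
    mul_left_cancel₀ ht1 (show (t * t + 1) * a.1 0 0 = (t * t + 1) * a.1 1 1 by linear_combination e00 - e11)
  have hone : a.1 0 0 = 1 := by
    refine sub_eq_zero.1 (pow_eq_zero_iff two_ne_zero |>.1
      (show (a.1 0 0 - 1) ^ 2 = 0 by
        rw [z01, z10, ← heq] at hdet
        linear_combination hdet + (1 - a.1 0 0) * h2))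
  exact ha1 (Subtype.ext (by
    ext i j
    fin_cases i <;> fin_cases j <;> simp [z01, z10, hone, ← heq]))

/-- Two elements of order three with product of order three coincide. -/
theorem eq_of_cube [CharP F 2] (hroot : ∀ x : F, x * x ≠ x + 1) {a b : SL2F} (ha : a ^ 3 = 1) (ha1 : a ≠ 1)
    (hb : b ^ 3 = 1) (hb1 : b ≠ 1) (hab : (a * b) ^ 3 = 1) (hab1 : a * b ≠ 1) : a = b := by
  have h2 : (2 : F) = 0 := CharP.cast_eq_zero F 2
  obtain ⟨hA, ta⟩ := sq_of_cube ha ha1
  obtain ⟨hB, tb⟩ := sq_of_cube hb hb1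
  obtain ⟨-, tab⟩ := sq_of_cube hab hab1
  simp only [Matrix.SpecialLinearGroup.coe_mul, Matrix.mul_apply, Fin.sum_univ_two] at tab
  have hanti : a.1 * b.1 + b.1 * a.1 = a.1 + b.1 := by
    ext i j
    fin_cases i <;> fin_cases j <;> simp [Matrix.mul_apply, Fin.sum_univ_two]
    · linear_combination tab - (b.1 1 1) * ta + (a.1 0 0 - 1) * tb
    · linear_combination (a.1 0 1) * tb + (b.1 0 1) * ta
    · linear_combination (a.1 1 0) * tb + (b.1 1 0) * ta
    · linear_combination tab - (b.1 0 0) * ta + (a.1 1 1 - 1) * tb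
  set d : M2 := a.1 + b.1 with hd
  have hM2 : ∀ M : M2, M + M = 0 := fun M => by
    ext i j; simp; linear_combination (M i j) * h2
  have hdd : d * d = 0 := by
    rw [hd, add_mul, mul_add, mul_add, hA, hB,
      show a.1 + 1 + a.1 * b.1 + (b.1 * a.1 + (b.1 + 1)) = (a.1 * b.1 + b.1 * a.1) + (a.1 + b.1) + (1 + 1) by abel,
      hanti, hM2, hM2, add_zero]
  have had : a.1 * d + d * a.1 = d := by
    rw [hd, mul_add, add_mul,
      show a.1 * a.1 + a.1 * b.1 + (a.1 * a.1 + b.1 * a.1) = (a.1 * b.1 + b.1 * a.1) + (a.1 * a.1 + a.1 * a.1) by abel,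
      hanti, hM2, add_zero]
  suffices hd0 : d = 0 by
    refine Subtype.ext ?_
    calc a.1 = a.1 + (b.1 + b.1) := by rw [hM2, add_zero]
      _ = d + b.1 := by rw [hd]; abel
      _ = b.1 := by rw [hd0, zero_add]
  by_contra hne
  obtain ⟨i, j, hij⟩ : ∃ i j, d i j ≠ 0 := by
    by_contra h; push Not at h; exact hne (Matrix.ext h)
  set v : Fin 2 → F := d *ᵥ Pi.single j 1 with hv
  have hv0 : v ≠ 0 := fun h => hij (by simpa [hv] using congrFun h i)
  have hdv : d *ᵥ v = 0 := by rw [hv, Matrix.mulVec_mulVec, hdd, Matrix.zero_mulVec]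
  have hdw : d *ᵥ (a.1 *ᵥ v) = 0 := by
    have := congrArg (· *ᵥ v) had
    simp only [Matrix.add_mulVec, ← Matrix.mulVec_mulVec, hdv, Matrix.mulVec_zero, zero_add] at this
    exact this
  by_cases har : area v (a.1 *ᵥ v) = 0
  · obtain ⟨l, hl⟩ := exists_smul_of_area_eq_zero hv0 har
    have h := congrArg (· *ᵥ v) hA
    simp only [Matrix.add_mulVec, ← Matrix.mulVec_mulVec, Matrix.one_mulVec, hl, Matrix.mulVec_smul] at h
    obtain ⟨k, hk⟩ := Function.ne_iff.1 hv0
    have hk' := congrFun h k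
    simp only [Pi.smul_apply, Pi.add_apply, smul_eq_mul] at hk'
    exact hroot l (mul_right_cancel₀ hk (by linear_combination hk'))
  · refine hij ?_
    have h1 := congrFun hdv i
    have h2' := congrFun hdw i
    simp only [Matrix.mulVec, dotProduct, Fin.sum_univ_two, Pi.zero_apply] at h1 h2'
    set w := a.1 *ᵥ v
    have e0 : d i 0 = 0 := (mul_eq_zero.1 (show area v w * d i 0 = 0 by
      rw [area]; simp only [w, Matrix.mulVec, dotProduct, Fin.sum_univ_two] at h2' ⊢
      linear_combination (a.1 1 0 * v 0 + a.1 1 1 * v 1) * h1 - v 1 * h2')).resolve_left har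
    have e1 : d i 1 = 0 := (mul_eq_zero.1 (show area v w * d i 1 = 0 by
      rw [area]; simp only [w, Matrix.mulVec, dotProduct, Fin.sum_univ_two] at h2' ⊢
      linear_combination v 0 * h2' - (a.1 0 0 * v 0 + a.1 0 1 * v 1) * h1)).resolve_left har
    fin_cases j <;> assumption

/-- In characteristic two without cube roots of unity the groups of order three give binary actions. -/
theorem isBinary_card_three [CharP F 2] (hroot : ∀ x : F, x * x ≠ x + 1) {H : Subgroup SL2F}
    (h3 : Nat.card H = 3) : IsBinary SL2F H := by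
  intro n I J hn hp
  have i0 : Fin n := ⟨0, by omega⟩
  -- stabilisers
  have cube : ∀ (s : SL2F) (P : SL2F ⧸ H), s • P = P → s ^ 3 = 1 := by
    intro s P hs
    obtain ⟨x, rfl⟩ := QuotientGroup.mk_surjective P
    rw [smul_mk_eq] at hs
    have h := orderOf_dvd_natCard (⟨_, hs⟩ : H)
    rw [h3, Subgroup.orderOf_mk] at h
    have h' := orderOf_dvd_iff_pow_eq_one.1 h
    rw [show x⁻¹ * s * x = MulAut.conj x⁻¹ s by simp, ← map_pow] at h'
    exact (MulEquiv.map_eq_one_iff _).1 h'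
  have gen : ∀ (s : SL2F) (P Q : SL2F ⧸ H), s • P = P → s • Q = Q → s ≠ 1 →
      ∀ t : SL2F, t • P = P → t • Q = Q := by
    intro s P Q hP hQ hs t ht
    obtain ⟨x, rfl⟩ := QuotientGroup.mk_surjective P
    haveI : Fact (Nat.Prime 3) := ⟨Nat.prime_three⟩
    have hmem : t ∈ Subgroup.zpowers s := by
      rw [smul_mk_eq] at hP ht
      have := mem_zpowers_of_prime_card h3 (g := (⟨_, hP⟩ : H)) (g' := ⟨_, ht⟩) (by
        intro h
        have := congrArg Subtype.val h
        refine hs (conj_eq_one_iff (a := x⁻¹).1 ?_)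
        simpa using this)
      obtain ⟨k, hk⟩ := this
      refine ⟨k, ?_⟩
      have hk' := congrArg Subtype.val hk
      rw [SubgroupClass.coe_zpow] at hk'
      simp only at hk'
      rw [show x⁻¹ * s * x = MulAut.conj x⁻¹ s by simp, ← map_zpow,
        show x⁻¹ * t * x = MulAut.conj x⁻¹ t by simp] at hk'
      exact (MulAut.conj x⁻¹).injective hk'
    exact (Subgroup.zpowers_le.2 (show s ∈ MulAction.stabilizer SL2F Q from hQ)) hmem
  set o : Fin n := ⟨0, by omega⟩ with ho
  obtain ⟨g0, hg0, -⟩ := hp o ⟨1, by omega⟩ (by simp [ho, Fin.ext_iff])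
  -- normalise the first entry
  suffices key : ∀ J' : Fin n → SL2F ⧸ H, J' o = I o →
      (∀ i j : Fin n, i ≠ j → ∃ g : SL2F, g • I i = J' i ∧ g • I j = J' j) → ∃ g : SL2F, ∀ i, g • I i = J' i by
    obtain ⟨g, hg⟩ := key (fun i => g0⁻¹ • J i) (by rw [inv_smul_eq_iff, hg0]) (fun i j hij => by
      obtain ⟨g, h1, h2⟩ := hp i j hij
      exact ⟨g0⁻¹ * g, by rw [mul_smul, h1], by rw [mul_smul, h2]⟩)
    exact ⟨g0 * g, fun i => by rw [mul_smul, hg, smul_inv_smul]⟩
  clear hp hg0 g0 J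
  intro J h0 hp
  by_cases hall : ∀ (i : Fin n) (s : SL2F), s • I o = I o → s • I i = I i
  · refine ⟨1, fun i => ?_⟩
    by_cases hi : i = o
    · rw [hi, one_smul, h0]
    obtain ⟨g, hg1, hg2⟩ := hp o i (Ne.symm hi)
    rw [one_smul, ← hg2, hall i g (hg1.trans h0)]
  push Not at hall
  obtain ⟨j, s₀, hs₀, hs₀j⟩ := hall
  have hjo : j ≠ o := fun h => hs₀j (h ▸ hs₀)
  have triv : ∀ s : SL2F, s • I o = I o → s • I j = I j → s = 1 := by
    intro s hs hsj
    by_contra h
    exact hs₀j (gen s (I o) (I j) hs hsj h s₀ hs₀)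
  obtain ⟨f, hf0, hfj⟩ := hp o j (Ne.symm hjo)
  rw [h0] at hf0
  refine ⟨f, fun k => ?_⟩
  by_cases hko : k = o
  · rw [hko, hf0, h0]
  by_cases hkj : k = j
  · rw [hkj, hfj]
  obtain ⟨g1, g10, g1k⟩ := hp o k (Ne.symm hko)
  obtain ⟨g2, g2j, g2k⟩ := hp j k (Ne.symm hkj)
  rw [h0] at g10
  set a0 := f⁻¹ * g1 with ha0
  set a1 := f⁻¹ * g2 with ha1
  have a0o : a0 • I o = I o := by rw [ha0, mul_smul, g10, inv_smul_eq_iff, hf0]
  have a1j : a1 • I j = I j := by rw [ha1, mul_smul, g2j, inv_smul_eq_iff, hfj]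
  have a01 : a0 • I k = a1 • I k := by rw [ha0, ha1, mul_smul, mul_smul, g1k, g2k]
  suffices h : a0 • I k = I k by
    rw [ha0, mul_smul, g1k, inv_smul_eq_iff] at h
    exact h.symm
  by_cases hz0 : a0 = 1
  · rw [hz0, one_smul]
  by_cases hz1 : a1 = 1
  · rw [a01, hz1, one_smul]
  exfalso
  have hs : (a1⁻¹ * a0) • I k = I k := by rw [mul_smul, a01, inv_smul_smul]
  have hne : a1⁻¹ * a0 ≠ 1 := fun h => hz0 (by
    rw [inv_mul_eq_one] at h
    exact triv a0 a0o (h ▸ a1j))
  have := eq_of_cube hroot (a := a1⁻¹) (b := a0) (by rw [inv_pow, cube _ _ a1j, inv_one]) (inv_ne_one.2 hz1)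
    (cube _ _ a0o) hz0 (cube _ _ hs) hne
  exact hz0 (triv a0 a0o (this ▸ inv_smul_eq_iff.2 a1j.symm))

/-- The unipotent upper triangular matrices. -/
theorem card_vecStab_std : Nat.card (vecStab (![1, 0] : Fin 2 → F)) = Nat.card F := by
  refine Nat.card_eq_of_bijective (fun S : vecStab (![1, 0] : Fin 2 → F) => S.1.1 0 1) ⟨?_, ?_⟩
  · intro S T h
    obtain ⟨S, hS⟩ := S
    obtain ⟨T, hT⟩ := T
    have dS := S.2
    have dT := T.2
    rw [Matrix.det_fin_two] at dS dT
    rw [mem_vecStab] at hS hT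
    have s0 := congrFun hS 0
    have s1 := congrFun hS 1
    have t0 := congrFun hT 0
    have t1 := congrFun hT 1
    simp [Matrix.mulVec, dotProduct, Fin.sum_univ_two] at s0 s1 t0 t1
    simp only at h
    refine Subtype.ext (Subtype.ext ?_)
    ext i j
    fin_cases i <;> fin_cases j <;> simp [s0, s1, t0, t1, h]
    rw [s0, s1] at dS
    rw [t0, t1] at dT
    linear_combination dS - dT
  · intro x
    exact ⟨⟨⟨!![1, x; 0, 1], by simp [Matrix.det_fin_two]⟩, by
      show !![1, x; 0, 1] *ᵥ ![1, 0] = ![1, 0]; funext i; fin_cases i <;> simp [Matrix.mulVec, dotProduct, Fin.sum_univ_two]⟩, rfl⟩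

/-- A Sylow 2-subgroup in characteristic two fixes a vector. -/
theorem sylow_two_eq_vecStab {k : ℕ} (hq : Nat.card F = 2 ^ k) (P : Sylow 2 SL2F) :
    ∃ v : Fin 2 → F, v ≠ 0 ∧ (P : Subgroup SL2F) = vecStab v := by
  haveI : Fact (Nat.Prime 2) := ⟨Nat.prime_two⟩
  set U := vecStab (![1, 0] : Fin 2 → F) with hU
  have hcard : Nat.card U = 2 ^ k := by rw [hU, card_vecStab_std, hq]
  have hk : 1 ≤ k := by
    rcases Nat.eq_zero_or_pos k with rfl | h
    · exact absurd hq (ne_of_gt (by simpa using Finite.one_lt_card (α := F)))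
    · exact h
  have hidx : ¬ 2 ∣ U.index := by
    have h := U.card_mul_index
    rw [card_SL_two, hcard, hq] at h
    rw [Nat.eq_of_mul_eq_mul_left (pow_pos two_pos k) h]
    intro hd
    have : 2 ∣ (2 ^ k) ^ 2 := dvd_pow (dvd_pow_self 2 (by omega)) two_ne_zero
    have : 1 ≤ (2 ^ k) ^ 2 := Nat.one_le_pow _ _ (pow_pos two_pos k)
    omega
  let Q : Sylow 2 SL2F := (IsPGroup.of_card hcard).toSylow hidx
  obtain ⟨g, hg⟩ := MulAction.exists_smul_eq SL2F Q P
  refine ⟨g.1 *ᵥ ![1, 0], mulVec_ne_zero fun h => by simpa using congrFun h 0, ?_⟩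
  rw [← hg]
  ext S
  rw [Sylow.coe_subgroup_smul, Subgroup.mem_pointwise_smul_iff_inv_smul_mem, mem_vecStab]
  simp only [Q, IsPGroup.toSylow_coe, hU, mem_vecStab, MulAut.inv_apply, MulAut.smul_def, MulAut.conj_symm_apply,
    Matrix.SpecialLinearGroup.coe_mul, ← Matrix.mulVec_mulVec]
  exact inv_mulVec_eq_iff

end CfsgLib.CharsMore.BinaryPSL2
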