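import Cfsg.Agent.Lib.PSL2.Tori

/-!
# Criteria for non-binary coset actions

`Tri L X`: there are conjugates (by elements of `L`) of `X` and elements of them showing that the
action on the cosets of `X` has two triples which are pairwise but not globally equivalent.
`Sub4 L X`: the same for four points, the first being fixed.
-/

set_option autoImplicit false

namespace CfsgLib.CharsMore.BinaryPSL2

variable {G : Type*} [Group G]

/-- The action on the cosets of `H` is binary. -/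
def IsBinary (G : Type*) [Group G] (H : Subgroup G) : Prop :=
  ∀ (n : ℕ) (I J : Fin n → G ⧸ H), 2 ≤ n →
    (∀ i j : Fin n, i ≠ j → ∃ g : G, g • I i = J i ∧ g • I j = J j) → ∃ g : G, ∀ i, g • I i = J i

/-- With `A = X`, `B = y X y⁻¹`, `C = z X z⁻¹`: `a ∈ A`, `c ∈ C`, `a c⁻¹ ∈ B`, `a ∉ (A ⊓ B) C`. -/
def Tri (L X : Subgroup G) : Prop :=
  ∃ y z a c : G, y ∈ L ∧ z ∈ L ∧ a ∈ X ∧ z⁻¹ * c * z ∈ X ∧ y⁻¹ * (a * c⁻¹) * y ∈ X ∧
    ∀ k ∈ X, y⁻¹ * k * y ∈ X → z⁻¹ * (k⁻¹ * a) * z ∈ X → False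

/-- A triple in `X` for its two-point stabiliser `X ⊓ g X g⁻¹`. -/
def Sub4 (L X : Subgroup G) : Prop :=
  ∃ g ∈ L, ∃ y ∈ X, ∃ z ∈ X, ∃ a c : G, a ∈ X ∧ c ∈ X ∧ g⁻¹ * a * g ∈ X ∧ g⁻¹ * (z⁻¹ * c * z) * g ∈ X ∧
    g⁻¹ * (y⁻¹ * (a * c⁻¹) * y) * g ∈ X ∧
    ∀ k ∈ X, g⁻¹ * k * g ∈ X → g⁻¹ * (y⁻¹ * k * y) * g ∈ X → g⁻¹ * (z⁻¹ * (k⁻¹ * a) * z) * g ∈ X → False

theorem smul_mk_eq {H : Subgroup G} (g u v : G) :
    g • (u : G ⧸ H) = (v : G ⧸ H) ↔ v⁻¹ * g * u ∈ H := by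
  rw [MulAction.Quotient.smul_coe, smul_eq_mul, eq_comm, QuotientGroup.eq, mul_assoc]

theorem not_binary_of_tri_top {H : Subgroup G} (h : Tri ⊤ H) : ¬ IsBinary G H := by
  obtain ⟨y, z, a, c, -, -, ha, hc, hb, hk⟩ := h
  intro hbin
  obtain ⟨g, hg⟩ := hbin 3 (fun i => (((![1, y, z] : Fin 3 → G) i : G) : G ⧸ H))
    (fun i => (((![1, y, a * z] : Fin 3 → G) i : G) : G ⧸ H)) (by norm_num) (by
      intro i j hij
      have e02 : ∀ i : Fin 3, i ≠ 1 → a • (((![1, y, z] : Fin 3 → G) i : G) : G ⧸ H) =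
          (((![1, y, a * z] : Fin 3 → G) i : G) : G ⧸ H) := by
        intro i hi
        rw [smul_mk_eq]
        fin_cases i
        · simpa using ha
        · exact absurd rfl hi
        · simp [mul_assoc]
      have e01 : ∀ i : Fin 3, i ≠ 2 → (1 : G) • (((![1, y, z] : Fin 3 → G) i : G) : G ⧸ H) =
          (((![1, y, a * z] : Fin 3 → G) i : G) : G ⧸ H) := by
        intro i hi
        rw [one_smul]
        fin_cases i
        · rfl
        · rfl
        · exact absurd rfl hi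
      have e12 : ∀ i : Fin 3, i ≠ 0 → (a * c⁻¹) • (((![1, y, z] : Fin 3 → G) i : G) : G ⧸ H) =
          (((![1, y, a * z] : Fin 3 → G) i : G) : G ⧸ H) := by
        intro i hi
        rw [smul_mk_eq]
        fin_cases i
        · exact absurd rfl hi
        · exact hb
        · show (a * z)⁻¹ * (a * c⁻¹) * z ∈ H
          have := H.inv_mem hc
          simpa [mul_assoc] using this
      by_cases h0 : i ≠ 0 ∧ j ≠ 0
      · exact ⟨_, e12 i h0.1, e12 j h0.2⟩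
      by_cases h1 : i ≠ 1 ∧ j ≠ 1
      · exact ⟨_, e02 i h1.1, e02 j h1.2⟩
      refine ⟨1, e01 i ?_, e01 j ?_⟩ <;> omega)
  have g0 : g ∈ H := by simpa using (smul_mk_eq g 1 1).1 (hg 0)
  have g1 : y⁻¹ * g * y ∈ H := (smul_mk_eq _ _ _).1 (hg 1)
  have g2 : (a * z)⁻¹ * g * z ∈ H := (smul_mk_eq _ _ _).1 (hg 2)
  refine hk g g0 g1 ?_
  have := H.inv_mem g2
  simpa [mul_assoc] using this

theorem not_binary_of_sub4_top {H : Subgroup G} (h : Sub4 ⊤ H) : ¬ IsBinary G H := by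
  obtain ⟨g, -, y, hy, z, hz, a, c, ha, hc, hag, hcg, hbg, hk⟩ := h
  intro hbin
  obtain ⟨f, hf⟩ := hbin 4 (fun i => (((![1, g, y * g, z * g] : Fin 4 → G) i : G) : G ⧸ H))
    (fun i => (((![1, g, y * g, a * z * g] : Fin 4 → G) i : G) : G ⧸ H)) (by norm_num) (by
      intro i j hij
      have e1 : ∀ i : Fin 4, i ≠ 2 → a • (((![1, g, y * g, z * g] : Fin 4 → G) i : G) : G ⧸ H) =
          (((![1, g, y * g, a * z * g] : Fin 4 → G) i : G) : G ⧸ H) := by
        intro i hi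
        rw [smul_mk_eq]
        fin_cases i
        · simpa using ha
        · exact hag
        · exact absurd rfl hi
        · simp [mul_assoc]
      have e2 : ∀ i : Fin 4, i ≠ 3 → (1 : G) • (((![1, g, y * g, z * g] : Fin 4 → G) i : G) : G ⧸ H) =
          (((![1, g, y * g, a * z * g] : Fin 4 → G) i : G) : G ⧸ H) := by
        intro i hi
        rw [one_smul]
        fin_cases i
        · rfl
        · rfl
        · rfl
        · exact absurd rfl hi
      have e3 : ∀ i : Fin 4, i ≠ 1 → (a * c⁻¹) • (((![1, g, y * g, z * g] : Fin 4 → G) i : G) : G ⧸ H) =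
          (((![1, g, y * g, a * z * g] : Fin 4 → G) i : G) : G ⧸ H) := by
        intro i hi
        rw [smul_mk_eq]
        fin_cases i
        · simpa using H.mul_mem ha (H.inv_mem hc)
        · exact absurd rfl hi
        · show (y * g)⁻¹ * (a * c⁻¹) * (y * g) ∈ H
          simpa [mul_assoc] using hbg
        · show (a * z * g)⁻¹ * (a * c⁻¹) * (z * g) ∈ H
          have := H.inv_mem hcg
          simpa [mul_assoc] using this
      by_cases h0 : i ≠ 2 ∧ j ≠ 2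
      · exact ⟨_, e1 i h0.1, e1 j h0.2⟩
      by_cases h1 : i ≠ 3 ∧ j ≠ 3
      · exact ⟨_, e2 i h1.1, e2 j h1.2⟩
      refine ⟨_, e3 i ?_, e3 j ?_⟩ <;> omega)
  have f0 : f ∈ H := by simpa using (smul_mk_eq f 1 1).1 (hf 0)
  have f1 : g⁻¹ * f * g ∈ H := (smul_mk_eq _ _ _).1 (hf 1)
  have f2 : (y * g)⁻¹ * f * (y * g) ∈ H := (smul_mk_eq _ _ _).1 (hf 2)
  have f3 : (a * z * g)⁻¹ * f * (z * g) ∈ H := (smul_mk_eq _ _ _).1 (hf 3)
  refine hk f f0 f1 (by simpa [mul_assoc] using f2) ?_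
  have := H.inv_mem f3
  simpa [mul_assoc] using this

theorem Tri.of_map {G' : Type*} [Group G'] {ι : G →* G'} (hι : Function.Injective ι) {H : Subgroup G}
    (h : Tri ι.range (H.map ι)) : Tri ⊤ H := by
  obtain ⟨_, _, a, c, ⟨y, rfl⟩, ⟨z, rfl⟩, ha, hc, hb, hk⟩ := h
  obtain ⟨a, ha', rfl⟩ := ha
  obtain ⟨w, hw, hwe⟩ := hc
  obtain rfl : c = ι (z * w * z⁻¹) := by
    rw [map_mul, map_mul, map_inv, hwe]; group
  refine ⟨y, z, a, z * w * z⁻¹, trivial, trivial, ha', by simpa [mul_assoc] using hw, ?_, fun k hk0 h1 h2 => ?_⟩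
  · rw [← Subgroup.mem_map_iff_mem hι]; simpa only [map_mul, map_inv] using hb
  · refine hk (ι k) (Subgroup.mem_map_of_mem ι hk0) ?_ ?_
    · simpa only [map_mul, map_inv] using Subgroup.mem_map_of_mem ι h1
    · simpa only [map_mul, map_inv] using Subgroup.mem_map_of_mem ι h2

theorem Sub4.of_map {G' : Type*} [Group G'] {ι : G →* G'} (hι : Function.Injective ι) {H : Subgroup G}
    (h : Sub4 ι.range (H.map ι)) : Sub4 ⊤ H := by
  obtain ⟨_, ⟨g, rfl⟩, _, ⟨y, hy, rfl⟩, _, ⟨z, hz, rfl⟩, _, _, ⟨a, ha, rfl⟩, ⟨c, hc, rfl⟩, hag, hcg, hbg, hk⟩ := h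
  simp only [← map_mul, ← map_inv, Subgroup.mem_map_iff_mem hι] at hag hcg hbg
  refine ⟨g, trivial, y, hy, z, hz, a, c, ha, hc, hag, hcg, hbg, fun k hk0 h1 h2 h3 => ?_⟩
  refine hk (ι k) (Subgroup.mem_map_of_mem ι hk0) ?_ ?_ ?_
  · simpa only [map_mul, map_inv] using Subgroup.mem_map_of_mem ι h1
  · simpa only [map_mul, map_inv] using Subgroup.mem_map_of_mem ι h2
  · simpa only [map_mul, map_inv] using Subgroup.mem_map_of_mem ι h3

/-- Invariance under conjugation by a normalising element. -/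
theorem Tri.of_conj {L X : Subgroup G} [L.Normal] (g : G) (h : Tri L (X.map (MulAut.conj g).toMonoidHom)) :
    Tri L X := by
  obtain ⟨y, z, a, c, hy, hz, ha, hc, hb, hk⟩ := h
  have mem : ∀ u, u ∈ X.map (MulAut.conj g).toMonoidHom ↔ g⁻¹ * u * g ∈ X := by
    intro u
    rw [Subgroup.mem_map_equiv]
    simp [MulAut.conj_symm_apply]
  have nm : ∀ u ∈ L, g⁻¹ * u * g ∈ L := fun u hu => by
    simpa using (inferInstance : L.Normal).conj_mem u hu g⁻¹
  rw [mem] at ha hc hb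
  refine ⟨g⁻¹ * y * g, g⁻¹ * z * g, g⁻¹ * a * g, g⁻¹ * c * g, nm y hy, nm z hz, ha,
    by simpa [mul_assoc] using hc, by simpa [mul_assoc] using hb, fun k hk0 h1 h2 => hk (g * k * g⁻¹) ?_ ?_ ?_⟩
  · rw [mem]; simpa [mul_assoc] using hk0
  · rw [mem]; simpa [mul_assoc] using h1
  · rw [mem]; simpa [mul_assoc] using h2

/-- A triple in an abstract copy `W` of `X`, for the two-point stabiliser. -/
theorem Sub4.of_equiv {W : Type*} [Group W] {L X : Subgroup G} (e : W ≃* X) {g : G} (hg : g ∈ L)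
    (D : Subgroup W) (hD : ∀ w, w ∈ D ↔ g⁻¹ * (e w : G) * g ∈ X) (h : Tri ⊤ D) : Sub4 L X := by
  obtain ⟨y, z, a, c, -, -, ha, hc, hb, hk⟩ := h
  rw [hD] at ha hc hb
  simp only [map_mul, map_inv, Subgroup.coe_mul, Subgroup.coe_inv] at ha hc hb
  refine ⟨g, hg, e y, (e y).2, e z, (e z).2, e a, e c, (e a).2, (e c).2, ha, hc, hb, fun k hk0 h1 h2 h3 => ?_⟩
  obtain ⟨k, rfl⟩ : ∃ k', (e k' : G) = k := ⟨e.symm ⟨k, hk0⟩, by rw [MulEquiv.apply_symm_apply]⟩
  refine hk k ((hD _).2 h1) ((hD _).2 ?_) ((hD _).2 ?_) <;>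
    simp only [map_mul, map_inv, Subgroup.coe_mul, Subgroup.coe_inv] <;> assumption

/-- Transport of a triple by an automorphism. -/
theorem Tri.of_equiv {W : Type*} [Group W] (e : G ≃* W) {D : Subgroup G}
    (h : Tri ⊤ (D.map e.toMonoidHom)) : Tri ⊤ D :=
  Tri.of_map (ι := e.toMonoidHom) e.injective (by
    rwa [MonoidHom.range_eq_top.2 e.surjective])

/-- A generic triple: elements with `a = b * c` in conjugates of a subgroup with trivial intersection. -/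
theorem Tri.mk' {L X : Subgroup G} {x y z a b c : G} (hx : x ∈ L) (hy : y ∈ L) (hz : z ∈ L)
    (habc : a = b * c) (ha : x⁻¹ * a * x ∈ X) (hb : y⁻¹ * b * y ∈ X) (hc : z⁻¹ * c * z ∈ X)
    (h : ∀ k, x⁻¹ * k * x ∈ X → y⁻¹ * k * y ∈ X → z⁻¹ * (k⁻¹ * a) * z ∈ X → False) : Tri L X := by
  subst habc
  refine ⟨x⁻¹ * y, x⁻¹ * z, x⁻¹ * (b * c) * x, x⁻¹ * c * x, L.mul_mem (L.inv_mem hx) hy,
    L.mul_mem (L.inv_mem hx) hz, ha, by simpa [mul_assoc] using hc, by simpa [mul_assoc] using hb,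
    fun k hk h1 h2 => h (x * k * x⁻¹) ?_ ?_ ?_⟩
  · simpa [mul_assoc] using hk
  · simpa [mul_assoc] using h1
  · simpa [mul_assoc] using h2

end CfsgLib.CharsMore.BinaryPSL2
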