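import Cfsg.Agent.Lib.CharsMore.BinaryPSL2.Small

/-!
# Finite facts about `A₅`
-/

set_option autoImplicit false
set_option maxRecDepth 20000
set_option maxHeartbeats 1000000
set_option synthInstance.maxSize 2000
set_option synthInstance.maxHeartbeats 200000

namespace CfsgLib.CharsMore.BinaryPSL2

open Equiv

namespace Small

def b012 : alternatingGroup (Fin 5) := ev (c[0, 1, 2]) (by decide)
def b021 : alternatingGroup (Fin 5) := ev (c[0, 2, 1]) (by decide)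
def b023 : alternatingGroup (Fin 5) := ev (c[0, 2, 3]) (by decide)
def b123 : alternatingGroup (Fin 5) := ev (c[1, 2, 3]) (by decide)
def b234 : alternatingGroup (Fin 5) := ev (c[2, 3, 4]) (by decide)
def b243 : alternatingGroup (Fin 5) := ev (c[2, 4, 3]) (by decide)
def b01234 : alternatingGroup (Fin 5) := ev (c[0, 1, 2, 3, 4]) (by decide)
def b03241 : alternatingGroup (Fin 5) := ev (c[0, 3, 2, 4, 1]) (by decide)
def b12x34 : alternatingGroup (Fin 5) := ev (c[1, 2] * c[3, 4]) (by decide)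
def b14x23 : alternatingGroup (Fin 5) := ev (c[1, 4] * c[2, 3]) (by decide)

theorem conj_A5 : ∀ a : alternatingGroup (Fin 5), a * a * a = 1 → a ≠ 1 → ∃ h, a = h * b012 * h⁻¹ := by
  decide +kernel

theorem wit_A5 : InThree b012 b021 ∧ InThree b012 (b123⁻¹ * b023 * b123) ∧
    InThree b012 (b234⁻¹ * (b021 * b023⁻¹) * b234) ∧
    ∀ k, InThree b012 k → InThree b012 (b234⁻¹ * k * b234) → InThree b012 (b123⁻¹ * (k⁻¹ * b021) * b123) →
      False := by decide +kernel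

theorem tri_A5 {a : alternatingGroup (Fin 5)} (ha : a * a * a = 1) (h1 : a ≠ 1) : Tri ⊤ (Subgroup.zpowers a) := by
  obtain ⟨h, he⟩ := conj_A5 a ha h1
  exact tri_of_pred (P := InThree) (fun w => (inThree_iff ha).symm) (inThree_conj (.inl he) (by decide +kernel)) _ _ _ _ wit_A5

theorem wit_A5_norm : InNormThree b012 b12x34 ∧ InNormThree b012 (b243⁻¹ * b14x23 * b243) ∧
    InNormThree b012 (b234⁻¹ * (b12x34 * b14x23⁻¹) * b234) ∧
    ∀ k, InNormThree b012 k → InNormThree b012 (b234⁻¹ * k * b234) →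
      InNormThree b012 (b243⁻¹ * (k⁻¹ * b12x34) * b243) → False := by decide +kernel

theorem normThree_conj {W : Type*} [Group W] {a a₀ h : W} (ha : a₀ * a₀ * a₀ = 1)
    (he : a = h * a₀ * h⁻¹ ∨ a = h * (a₀ * a₀) * h⁻¹) (w : W) :
    InNormThree a w ↔ InNormThree a₀ (h⁻¹ * w * h) := by
  have key : ∀ u v : W, h⁻¹ * w * h * u * (h⁻¹ * w * h)⁻¹ = v ↔ w * (h * u * h⁻¹) * w⁻¹ = h * v * h⁻¹ := by
    intro u v
    rw [← (MulAut.conj h).injective.eq_iff]
    simp [mul_assoc]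
  rcases he with rfl | rfl
  · rw [InNormThree, InNormThree, key, key]; simp [mul_assoc]
  · have e : a₀ * a₀ = a₀⁻¹ := eq_inv_of_mul_eq_one_left ha
    rw [InNormThree, InNormThree, key, key, e]
    have e2 : h * a₀ * h⁻¹ = (h * a₀⁻¹ * h⁻¹)⁻¹ := by group
    rw [e2]
    set A := h * a₀⁻¹ * h⁻¹
    rw [show w * A⁻¹ * w⁻¹ = (w * A * w⁻¹)⁻¹ by group, inv_inj, inv_eq_iff_eq_inv]

theorem tri_A5_norm {a : alternatingGroup (Fin 5)} (ha : a * a * a = 1) (h1 : a ≠ 1)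
    {D : Subgroup (alternatingGroup (Fin 5))} (hD : ∀ w, w ∈ D ↔ InNormThree a w) : Tri ⊤ D := by
  obtain ⟨h, he⟩ := conj_A5 a ha h1
  exact tri_of_pred (P := InNormThree) hD (normThree_conj (by decide +kernel) (.inl he)) _ _ _ _ wit_A5_norm

theorem conj_A5_five : ∀ a : alternatingGroup (Fin 5), a * a * a * a * a = 1 → a ≠ 1 →
    ∃ h, InFive b01234 (h⁻¹ * a * h) := by decide +kernel

theorem wit_A5_five : InFive b01234 b01234 ∧ InFive b01234 (b243⁻¹ * b03241 * b243) ∧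
    InFive b01234 (b234⁻¹ * (b01234 * b03241⁻¹) * b234) ∧
    ∀ k, InFive b01234 k → InFive b01234 (b234⁻¹ * k * b234) → InFive b01234 (b243⁻¹ * (k⁻¹ * b01234) * b243) →
      False := by decide +kernel

theorem tri_A5_five {a : alternatingGroup (Fin 5)} (ha : a * a * a * a * a = 1) (h1 : a ≠ 1) :
    Tri ⊤ (Subgroup.zpowers a) := by
  obtain ⟨h, he⟩ := conj_A5_five a ha h1
  have hb : b01234 * b01234 * b01234 * b01234 * b01234 = 1 := by decide +kernel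
  rw [inFive_iff hb] at he
  haveI : Fact (Nat.Prime 5) := ⟨by norm_num⟩
  have hz : Subgroup.zpowers a = (Subgroup.zpowers b01234).map (MulAut.conj h).toMonoidHom := by
    refine Subgroup.eq_of_le_of_card_ge (Subgroup.zpowers_le.2 ?_) ?_
    · rw [Subgroup.mem_map_equiv, MulAut.conj_symm_apply]; exact he
    · rw [Subgroup.card_map_of_injective (MulAut.conj h).injective, Nat.card_zpowers, Nat.card_zpowers,
        orderOf_eq_prime (p := 5) (by rw [pow_succ, pow_succ, pow_succ, pow_two]; exact ha) h1,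
        orderOf_eq_prime (p := 5) (by rw [pow_succ, pow_succ, pow_succ, pow_two]; exact hb) (by decide +kernel)]
  exact tri_of_pred (P := InFive) (fun w => (inFive_iff ha).symm) (inFive_conj hz ha hb) _ _ _ _ wit_A5_five

theorem isV_conj {W : Type*} [Group W] (h a v : W) :
    IsV (h * a * h⁻¹) (h * v * h⁻¹) ↔ IsV a v := by
  have hf := (MulAut.conj h).injective
  have e : ∀ u w : W, h * u * h⁻¹ = h * w * h⁻¹ ↔ u = w := fun u w => hf.eq_iff
  rw [IsV, IsV]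
  rw [show h * v * h⁻¹ * (h * v * h⁻¹) = h * (v * v) * h⁻¹ by group,
    show h * a * h⁻¹ * (h * v * h⁻¹) * (h * a * h⁻¹)⁻¹ = h * (a * v * a⁻¹) * h⁻¹ by group,
    show h * (a * v * a⁻¹) * h⁻¹ * (h * v * h⁻¹) = h * (a * v * a⁻¹ * v) * h⁻¹ by group,
    show h * v * h⁻¹ * (h * (a * v * a⁻¹) * h⁻¹) = h * (v * (a * v * a⁻¹)) * h⁻¹ by group,
    conj_eq_one_iff]
  simp only [ne_eq, conj_eq_one_iff, e]

theorem inverts_conj {W : Type*} [Group W] (h a v : W) :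
    Inverts (h * a * h⁻¹) (h * v * h⁻¹) ↔ Inverts a v := by
  rw [Inverts, Inverts, show h * v * h⁻¹ * (h * a * h⁻¹) * (h * v * h⁻¹)⁻¹ = h * (v * a * v⁻¹) * h⁻¹ by group,
    show (h * a * h⁻¹)⁻¹ = h * a⁻¹ * h⁻¹ by group]
  exact (MulAut.conj h).injective.eq_iff

theorem word_A5_std : ∀ d : alternatingGroup (Fin 5), ¬ InNormThree b012 d →
    IsV b012 (b012 * d * b012 * d⁻¹ * b012⁻¹ * d * b012⁻¹ * d⁻¹) ∨
      IsV b012 (b012 * d * b012 * d⁻¹ * b012 * d * b012⁻¹ * d⁻¹) := by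
  decide +kernel

theorem word_A5 (a d : alternatingGroup (Fin 5)) (ha : a * a * a = 1) (h1 : a ≠ 1) (hd : ¬ InNormThree a d) :
    IsV a (a * d * a * d⁻¹ * a⁻¹ * d * a⁻¹ * d⁻¹) ∨ IsV a (a * d * a * d⁻¹ * a * d * a⁻¹ * d⁻¹) := by
  obtain ⟨h, rfl⟩ := conj_A5 a ha h1
  rw [normThree_conj (by decide +kernel) (.inl rfl)] at hd
  obtain ⟨d, rfl⟩ : ∃ d', d = h * d' * h⁻¹ := ⟨h⁻¹ * d * h, by group⟩
  rw [show h⁻¹ * (h * d * h⁻¹) * h = d by group] at hd
  refine (word_A5_std d hd).imp ?_ ?_ <;> intro hv <;> rw [← isV_conj h] at hv <;> convert hv using 1 <;> group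

theorem word_A5_five_std : ∀ a ∈ [b01234, b01234 * b01234], ∀ d : alternatingGroup (Fin 5), ¬ InFive a d →
    Inverts a (d * a * d * a⁻¹ * d⁻¹ * a * d * d) ∨ Inverts a (d * a * a * d⁻¹ * a⁻¹ * a⁻¹ * d) := by
  decide +kernel

theorem conj_A5_five' : ∀ a : alternatingGroup (Fin 5), a * a * a * a * a = 1 → a ≠ 1 →
    ∃ h, ∃ a₀ ∈ [b01234, b01234 * b01234], a = h * a₀ * h⁻¹ := by decide +kernel

theorem word_A5_five (a d : alternatingGroup (Fin 5)) (ha : a * a * a * a * a = 1) (h1 : a ≠ 1)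
    (hd : ¬ InFive a d) :
    Inverts a (d * a * d * a⁻¹ * d⁻¹ * a * d * d) ∨ Inverts a (d * a * a * d⁻¹ * a⁻¹ * a⁻¹ * d) := by
  obtain ⟨h, a₀, ha₀, rfl⟩ := conj_A5_five' a ha h1
  have ha5 : a₀ * a₀ * a₀ * a₀ * a₀ = 1 := by
    rw [← conj_eq_one_iff (a := h), ← ha]; group
  obtain ⟨d, rfl⟩ : ∃ d', d = h * d' * h⁻¹ := ⟨h⁻¹ * d * h, by group⟩
  rw [inFive_conj (show Subgroup.zpowers (h * a₀ * h⁻¹) = (Subgroup.zpowers a₀).map (MulAut.conj h).toMonoidHom from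
      (MonoidHom.map_zpowers (MulAut.conj h).toMonoidHom a₀).symm) ha ha5,
    show h⁻¹ * (h * d * h⁻¹) * h = d by group] at hd
  refine (word_A5_five_std a₀ ha₀ d hd).imp ?_ ?_ <;> intro hv <;> rw [← inverts_conj h] at hv <;>
    convert hv using 1 <;> group

theorem transit_A5_std : ∀ x y : alternatingGroup (Fin 5), IsV b012 x → IsV b012 y →
    ∃ h, h * x * h⁻¹ = y ∧ (h * (b012 * x * b012⁻¹) * h⁻¹ = b012 * y * b012⁻¹ ∨
      h * (b012 * x * b012⁻¹) * h⁻¹ = y * (b012 * y * b012⁻¹)) := by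
  decide +kernel

theorem transit_A5 (a x y : alternatingGroup (Fin 5)) (ha : a * a * a = 1) (h1 : a ≠ 1) (hx : IsV a x)
    (hy : IsV a y) :
    ∃ h, h * x * h⁻¹ = y ∧ (h * (a * x * a⁻¹) * h⁻¹ = a * y * a⁻¹ ∨ h * (a * x * a⁻¹) * h⁻¹ = y * (a * y * a⁻¹)) := by
  obtain ⟨g, rfl⟩ := conj_A5 a ha h1
  obtain ⟨x, rfl⟩ : ∃ x', x = g * x' * g⁻¹ := ⟨g⁻¹ * x * g, by group⟩
  obtain ⟨y, rfl⟩ : ∃ y', y = g * y' * g⁻¹ := ⟨g⁻¹ * y * g, by group⟩
  obtain ⟨h, h2, h3⟩ := transit_A5_std x y ((isV_conj g _ _).1 hx) ((isV_conj g _ _).1 hy)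
  refine ⟨g * h * g⁻¹, by rw [← h2]; group, ?_⟩
  rcases h3 with h3 | h3
  · refine .inl ?_
    rw [show g * h * g⁻¹ * (g * b012 * g⁻¹ * (g * x * g⁻¹) * (g * b012 * g⁻¹)⁻¹) * (g * h * g⁻¹)⁻¹ =
      g * (h * (b012 * x * b012⁻¹) * h⁻¹) * g⁻¹ by group, h3]
    group
  · refine .inr ?_
    rw [show g * h * g⁻¹ * (g * b012 * g⁻¹ * (g * x * g⁻¹) * (g * b012 * g⁻¹)⁻¹) * (g * h * g⁻¹)⁻¹ =
      g * (h * (b012 * x * b012⁻¹) * h⁻¹) * g⁻¹ by group, h3]
    group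

theorem exists_A5 : ∃ a x : alternatingGroup (Fin 5), a * a * a = 1 ∧ a ≠ 1 ∧ IsV a x :=
  ⟨b012, ev (c[0, 1] * c[2, 3]) (by decide), by decide +kernel⟩

theorem exists_A5_five : ∃ a x : alternatingGroup (Fin 5), a * a * a * a * a = 1 ∧ a ≠ 1 ∧ x * x = 1 ∧ x ≠ 1 ∧
    Inverts a x := ⟨b01234, b14x23, by decide +kernel⟩

end Small

end CfsgLib.CharsMore.BinaryPSL2

namespace CfsgLib.CharsMore.BinaryPSL2.Small

theorem cent_A5_std : ∀ d : alternatingGroup (Fin 5), b012 * d = d * b012 → InThree b012 d := by decide +kernel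

theorem cent_A5 (a d : alternatingGroup (Fin 5)) (ha : a * a * a = 1) (h1 : a ≠ 1) (hd : a * d = d * a) :
    InThree a d := by
  obtain ⟨h, rfl⟩ := conj_A5 a ha h1
  rw [inThree_conj (.inl rfl) (by decide +kernel)]
  refine cent_A5_std _ ?_
  calc b012 * (h⁻¹ * d * h) = h⁻¹ * (h * b012 * h⁻¹ * d) * h := by group
    _ = h⁻¹ * (d * (h * b012 * h⁻¹)) * h := by rw [hd]
    _ = h⁻¹ * d * h * b012 := by group

theorem norm_A5_std : ∀ d w : alternatingGroup (Fin 5), InNormThree b012 d → ¬ InThree b012 d →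
    InNormThree b012 w → InThree b012 w ∨ InThree b012 (d * w) := by decide +kernel

theorem norm_A5 (a d w : alternatingGroup (Fin 5)) (ha : a * a * a = 1) (h1 : a ≠ 1) (hd : InNormThree a d)
    (hd' : ¬ InThree a d) (hw : InNormThree a w) : InThree a w ∨ InThree a (d * w) := by
  obtain ⟨h, rfl⟩ := conj_A5 a ha h1
  rw [normThree_conj (by decide +kernel) (.inl rfl)] at hd hw
  simp only [inThree_conj (.inl rfl) (show b012 * b012 * b012 = 1 by decide +kernel)] at hd' ⊢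
  rw [show h⁻¹ * (d * w) * h = h⁻¹ * d * h * (h⁻¹ * w * h) by group]
  exact norm_A5_std _ _ hd hd' hw

end CfsgLib.CharsMore.BinaryPSL2.Small
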