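import Cfsg.Agent.Lib.CharsMore.BinaryPSL2.Tetra
import Cfsg.Agent.Lib.CharsMore.BinaryPSL2.SmallFive

/-!
# Octahedral and icosahedral subgroups
-/

set_option autoImplicit false
set_option linter.unusedSectionVars false

namespace CfsgLib.CharsMore.BinaryPSL2

open Matrix MulAction CfsgLib.PSL2 CfsgLib.Classical
open scoped LinearAlgebra.Projectivization

variable {F : Type*} [Field F] [Finite F] {p : ℕ} [Fact p.Prime] [CharP F p]

local notation "PG" => Matrix.ProjGenLinGroup (Fin 2) F
local notation "PE" => ℙ (Ext2 F p) (Fin 2 → Ext2 F p)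
local notation "L" => pslRange F

section Copy

variable {W : Type*} [Group W] {X : Subgroup (Matrix.ProjGenLinGroup (Fin 2) F)} (e : W ≃* X)

theorem copy_mul (u v : W) : (e (u * v) : PG) = e u * e v := by rw [map_mul, Subgroup.coe_mul]

theorem copy_inv (u : W) : (e u⁻¹ : PG) = (e u : PG)⁻¹ := by rw [map_inv, Subgroup.coe_inv]

theorem copy_one : (e 1 : PG) = 1 := by rw [map_one, Subgroup.coe_one]

theorem copy_inj {u v : W} (h : (e u : PG) = e v) : u = v := e.injective (Subtype.ext h)

theorem copy_surj {k : PG} (hk : k ∈ X) : ∃ u, (e u : PG) = k :=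
  ⟨e.symm ⟨k, hk⟩, by rw [MulEquiv.apply_symm_apply]⟩

/-- A conjugate inside `X` by an element commuting with `a` keeps the defining properties. -/
theorem isV_transfer {a v v' : W} {g : PG} (hg : Commute (e a : PG) g) (hv : Small.IsV a v)
    (hv' : (e v' : PG) = g⁻¹ * e v * g) : Small.IsV a v' := by
  have ha : g⁻¹ * e a * g = (e a : PG) := by rw [mul_assoc, hg.eq, inv_mul_cancel_left]
  have key : (e (a * v' * a⁻¹) : PG) = g⁻¹ * e (a * v * a⁻¹) * g := by
    rw [copy_mul, copy_mul, copy_inv, copy_mul, copy_mul, copy_inv, hv']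
    conv_lhs => rw [← ha]
    group
  obtain ⟨h1, h2, h3, h4⟩ := hv
  refine ⟨copy_inj e ?_, fun h => h2 (copy_inj e ?_), fun h => h3 (copy_inj e ?_), copy_inj e ?_⟩
  · rw [copy_mul, hv', show g⁻¹ * (e v : PG) * g * (g⁻¹ * e v * g) = g⁻¹ * (e v * e v) * g by group, ← copy_mul, h1,
      copy_one, mul_one, inv_mul_cancel]
  · rw [show (e v : PG) = g * e v' * g⁻¹ by rw [hv']; group, h, copy_one]; group
  · rw [show (e (a * v * a⁻¹) : PG) = g * e (a * v' * a⁻¹) * g⁻¹ by rw [key]; group, h, hv']; group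
  · rw [copy_mul e (a * v' * a⁻¹) v', copy_mul e v' (a * v' * a⁻¹), key, hv',
      show g⁻¹ * (e (a * v * a⁻¹) : PG) * g * (g⁻¹ * e v * g) = g⁻¹ * (e (a * v * a⁻¹) * e v) * g by group,
      show g⁻¹ * (e v : PG) * g * (g⁻¹ * e (a * v * a⁻¹) * g) = g⁻¹ * (e v * e (a * v * a⁻¹)) * g by group,
      ← copy_mul, ← copy_mul, h4]

/-- The four-group of an involution with commuting conjugate. -/
theorem fourPair_of_isV (hX : X ≤ L) {a v : W} (hv : Small.IsV a v) : FourPair (e v : PG) (e (a * v * a⁻¹)) := by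
  obtain ⟨h1, h2, h3, h4⟩ := hv
  have h5 : a * v * a⁻¹ * (a * v * a⁻¹) = 1 := by
    rw [show a * v * a⁻¹ * (a * v * a⁻¹) = a * (v * v) * a⁻¹ by group, h1, mul_one, mul_inv_cancel]
  refine ⟨hX (e v).2, hX (e _).2, fun h => h2 (copy_inj e (h.trans (copy_one e).symm)),
    fun h => h2 (conj_eq_one_iff.1 (copy_inj e (h.trans (copy_one e).symm))), fun h => h3 (copy_inj e h.symm),
    by rw [← copy_mul, h1, copy_one], by rw [← copy_mul, h5, copy_one], ?_⟩
  show _ * _ = _ * _
  rw [← copy_mul, ← copy_mul, h4]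

/-- An element commuting with `a` and reversed by an element of `X` conjugated into `X`. -/
theorem sq_mem_of_inverts {a w : W} {c d : PE} (hcd : c ≠ d) {g : PG}
    (ac : (e a : PG) • c = c) (ad : (e a : PG) • d = d) (a2 : (e a : PG) * e a ≠ 1)
    (gc : g • c = c) (gd : g • d = d) (hw : Small.Inverts a w) (hwg : g⁻¹ * (e w : PG) * g ∈ X) :
    g * g ∈ X := by
  have hPE : P1Like p PG PE := p1Like_ext
  have hinv : (e w : PG) * e a * (e w : PG)⁻¹ = (e a : PG)⁻¹ := by
    rw [← copy_inv, ← copy_inv, ← copy_mul, ← copy_mul, hw]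
  have hA : (e a : PG) ≠ 1 := fun h => a2 (by rw [h, one_mul])
  have hfix : ∀ q : PE, (e a : PG) • q = q → q = c ∨ q = d := fun q hq => by
    by_contra hh
    push Not at hh
    exact hA (hPE.sharp hcd (Ne.symm hh.1) (Ne.symm hh.2) ac ad hq)
  have hmove : ∀ q : PE, (e a : PG) • q = q → (e a : PG) • (e w : PG) • q = (e w : PG) • q := fun q hq => by
    have h1 : (e w : PG) * e a = (e a : PG)⁻¹ * e w := by
      rw [← hinv, inv_mul_cancel_right]
    have h2 : (e a : PG)⁻¹ • (e w : PG) • q = (e w : PG) • q := by rw [← mul_smul, ← h1, mul_smul, hq]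
    exact ((inv_smul_eq_iff.1 h2)).symm
  obtain ⟨wc, wd⟩ : (e w : PG) • c = d ∧ (e w : PG) • d = c := by
    rcases hfix _ (hmove c ac) with h | h <;> rcases hfix _ (hmove d ad) with h' | h'
    · exact absurd (smul_left_cancel _ (h.trans h'.symm)) hcd
    · exfalso
      have hc := commute_of_fix hPE hcd h h' ac ad
      rw [hc.eq, mul_inv_cancel_right] at hinv
      exact a2 (mul_eq_one_iff_eq_inv.2 hinv)
    · exact ⟨h, h'⟩
    · exact absurd (smul_left_cancel _ (h.trans h'.symm)) hcd
  have gi : g⁻¹ • c = c ∧ g⁻¹ • d = d := ⟨inv_smul_eq_iff.2 gc.symm, inv_smul_eq_iff.2 gd.symm⟩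
  have hsq := hPE.swap_sq (g := (e w : PG) * g) hcd (by rw [mul_smul, gc, wc]) (by rw [mul_smul, gd, wd])
  have hw2 := hPE.swap_sq (g := (e w : PG)) hcd wc wd
  have h1 : (e w : PG) * g = g⁻¹ * e w := by
    have hwi : (e w : PG)⁻¹ = e w := inv_eq_of_mul_eq_one_right hw2
    calc (e w : PG) * g = (e w : PG) * g * (e w * g) * (g⁻¹ * (e w : PG)⁻¹) := by group
      _ = g⁻¹ * e w := by rw [hsq, one_mul, hwi]
  rw [mul_assoc, h1, ← mul_assoc] at hwg
  have := X.inv_mem (X.mul_mem hwg (X.inv_mem (e w).2))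
  simpa [mul_assoc] using this

end Copy

/-- Elements with a given order and their fixed points. -/
theorem axis_of_order (hq : 3 < Nat.card F) {g : PG} (hgL : g ∈ L) {m : ℕ} (hm : orderOf g = m) (hpm : ¬ p ∣ m)
    (hm2 : 2 < m) : ∃ (c d : PE) (r : PG), c ≠ d ∧ g • c = c ∧ g • d = d ∧ g * g ≠ 1 ∧ r ∈ L ∧ r • c = c ∧ r • d = d ∧
      g ∈ Subgroup.zpowers r ∧ m ∣ orderOf r ∧
      orderOf r = torusCard c / Nat.gcd 2 (Nat.card F - 1) := by
  have hPE : P1Like p PG PE := p1Like_ext
  obtain ⟨c, hc⟩ := exists_fix_ext (p := p) g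
  have hgp : g ^ p ≠ 1 := fun h => by
    have h1 := orderOf_dvd_of_pow_eq_one h
    rw [hm] at h1
    rcases (Nat.dvd_prime (Fact.out : p.Prime)).1 h1 with h1 | h1
    · omega
    · exact hpm h1.symm.dvd
  obtain ⟨d, hdc, hd⟩ := hPE.exists_other hgp hc
  have g1 : g ≠ 1 := fun h => by rw [h, orderOf_one] at hm; omega
  have g2 : g * g ≠ 1 := fun h => by
    have := orderOf_le_of_pow_eq_one (x := g) two_pos (by rw [pow_two, h])
    omega
  obtain ⟨r, w, hr, -, rc, rd, -, -, ho, hgen⟩ := torus_data hq (goodPair_of_fixed g1 hdc.symm hc hd)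
  have hmem := hgen g hgL hc hd
  exact ⟨c, d, r, hdc.symm, hc, hd, g2, hr, rc, rd, hmem, hm ▸ orderOf_dvd_of_mem_zpowers hmem, ho⟩

variable (p) in
include p in
open Small in
/-- An octahedral group, except for the field with seven elements. -/
theorem octa_case (hq : 3 < Nat.card F) (h5 : Nat.card F ≠ 5) (h7 : Nat.card F ≠ 7) {X : Subgroup PG} (hX : X ≤ L)
    (hp : ¬ p ∣ Nat.card X) (e : Equiv.Perm (Fin 4) ≃* X) : Sub4 L X := by
  classical
  have hPE : P1Like p PG PE := p1Like_ext
  have hcard : Nat.card X = 24 := by rw [← Nat.card_congr e.toEquiv, card_perm_four]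
  rw [hcard] at hp
  have hp2 : p ≠ 2 := fun h => hp (h ▸ by norm_num)
  have hp3 : p ≠ 3 := fun h => hp (h ▸ by norm_num)
  have ho : Odd (Nat.card F) := (Nat.even_or_odd _).resolve_left fun he => hp2 ((p_eq_two_iff (F := F) p).2 he)
  have h8 : Nat.card F % 8 = 1 ∨ Nat.card F % 8 = 7 := by
    obtain ⟨g, hg⟩ := exists_orderOf_four_perm
    exact card_mod_of_orderOf_four (p := p) (hX (e g).2) (by rw [Subgroup.orderOf_coe, e.orderOf_eq, hg])
  obtain ⟨a, x, ha, ha1, hx⟩ := exists_S4
  have haX : orderOf (e a : PG) = 3 := by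
    rw [Subgroup.orderOf_coe, e.orderOf_eq]
    exact orderOf_eq_prime (hp := ⟨Nat.prime_three⟩) (by rw [pow_succ, pow_two, ha]) ha1
  obtain ⟨c, d, r, hcd, ac, ad, a2, hr, rc, rd, hmem, h3, hord⟩ :=
    axis_of_order (p := p) hq (hX (e a).2) haX
      (fun h => hp3 ((Nat.prime_dvd_prime_iff_eq Fact.out Nat.prime_three).1 h)) (by norm_num)
  have ha3 : (e a : PG) ^ 3 = 1 := haX ▸ pow_orderOf_eq_one _
  have hr6 : r ^ 6 ≠ 1 := by
    intro h
    have h1 := Nat.le_of_dvd (by norm_num) (orderOf_dvd_of_pow_eq_one h)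
    have h2 := torus_ge (p := p) ho c
    rw [hord, gcd_two_card_sub_one_of_odd ho, torusCard] at h1 h3
    have h1' : orderOf r ∣ 6 := orderOf_dvd_of_pow_eq_one h
    rw [hord, gcd_two_card_sub_one_of_odd ho, torusCard] at h1'
    obtain ⟨j, hj⟩ := ho
    split_ifs at h1 h3 h1' <;> omega
  have hgood : ∀ j : ℤ, r * r ≠ (e a : PG) ^ j := fun j h => hr6 (by
    rw [show (6 : ℕ) = 2 * 3 from rfl, pow_mul, pow_two, h, ← zpow_natCast, ← _root_.zpow_mul, mul_comm,
      _root_.zpow_mul, zpow_natCast, ha3, _root_.one_zpow])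
  have hca : Commute (e a : PG) r := commute_of_fix hPE hcd ac ad rc rd
  refine Sub4.of_equiv e hr (dsub X e r) (fun w => mem_dsub) ?_
  suffices h : dsub X e r = Subgroup.zpowers a by rw [h]; exact tri_S4 ha ha1
  refine le_antisymm (fun w hw => ?_) (Subgroup.zpowers_le.2 (mem_dsub.2 (by
    rw [mul_assoc, hca.eq, inv_mul_cancel_left]; exact (e a).2)))
  rw [← inThree_iff ha]
  by_contra hnw
  have haD : a ∈ dsub X e r := mem_dsub.2 (by rw [mul_assoc, hca.eq, inv_mul_cancel_left]; exact (e a).2)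
  set v := w * a * w⁻¹ * a⁻¹ * w⁻¹ * w⁻¹ * w⁻¹ with hv
  have hvD : v ∈ dsub X e r :=
    mul_mem (mul_mem (mul_mem (mul_mem (mul_mem (mul_mem hw haD) (inv_mem hw)) (inv_mem haD)) (inv_mem hw))
      (inv_mem hw)) (inv_mem hw)
  rcases word_S4 a w ha ha1 hnw with hV | hI
  · rw [← hv] at hV
    obtain ⟨v', hv'⟩ := copy_surj e (mem_dsub.1 hvD)
    have hV' := isV_transfer e hca hV hv'
    have hfp := fourPair_of_isV e hX hV
    obtain ⟨i, hi⟩ : ∃ i : ℤ, v' = a ^ i * v * (a ^ i)⁻¹ := by
      rcases unique_S4 a v v' ha ha1 hV hV' with h | h | h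
      · exact ⟨0, by simpa using h⟩
      · exact ⟨1, by simpa using h⟩
      · exact ⟨-1, by simpa using h⟩
    set A : PG := (e a : PG) ^ i with hA
    have hei : (e (a ^ i) : PG) = A := by rw [map_zpow, Subgroup.coe_zpow]
    set n := r * A with hn
    have hAa : Commute A (e a : PG) := (Commute.refl (e a : PG)).zpow_left i
    have hna : Commute n (e a : PG) := hca.symm.mul_left hAa
    have hnv : Commute n (e v : PG) := by
      have h1 : r⁻¹ * (e v : PG) * r = A * e v * A⁻¹ := by
        rw [← hv', hi, copy_mul, copy_mul, copy_inv, hei]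
      show r * A * e v = e v * (r * A)
      calc r * A * (e v : PG) = r * (A * e v * A⁻¹) * A := by group
        _ = e v * (r * A) := by rw [← h1]; group
    have hnu : Commute n (e (a * v * a⁻¹) : PG) := by
      rw [copy_mul, copy_mul, copy_inv]
      exact (hna.mul_right hnv).mul_right hna.inv_right
    have hn4 := hfp.centralizer p ho hnv hnu
    have hn1 : n = 1 := by
      obtain ⟨-, h2, h3', h4⟩ := hV
      rcases hn4 with h | h | h | h
      · exact h
      · exfalso
        refine h3' (copy_inj e ?_)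
        have hc : Commute (e a : PG) (e v) := h ▸ hna.symm
        rw [copy_mul, copy_mul, copy_inv, hc.eq, mul_inv_cancel_right]
      · exfalso
        have hc : Commute (e a : PG) (e (a * v * a⁻¹)) := h ▸ hna.symm
        refine h3' (copy_inj e ?_)
        have hc' : (e (a * v * a⁻¹) : PG) = e a * e v * (e a : PG)⁻¹ := by rw [copy_mul, copy_mul, copy_inv]
        rw [hc'] at hc ⊢
        have h5 : (e a : PG) * e v = e v * e a := by
          calc (e a : PG) * e v = (e a : PG)⁻¹ * ((e a : PG) * ((e a : PG) * e v * (e a : PG)⁻¹)) * e a := by group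
            _ = e v * e a := by rw [hc.eq]; group
        rw [h5, mul_inv_cancel_right]
      · exfalso
        have hc : Commute (e a : PG) ((e v : PG) * e (a * v * a⁻¹)) := h ▸ hna.symm
        rw [← copy_mul] at hc
        have h5 : a * (v * (a * v * a⁻¹)) = v * (a * v * a⁻¹) * a := copy_inj e (by
          rw [copy_mul, copy_mul e _ a]; exact hc.eq)
        have h6 : a * v * a⁻¹ * (a * (a * v * a⁻¹) * a⁻¹) = v * (a * v * a⁻¹) := by
          rw [show a * v * a⁻¹ * (a * (a * v * a⁻¹) * a⁻¹) = a * (v * (a * v * a⁻¹)) * a⁻¹ by group, h5,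
            mul_inv_cancel_right]
        rw [← h4] at h6
        have h7 : a * (a * v * a⁻¹) * a⁻¹ = v := mul_left_cancel h6
        have h8 : a * a * a = 1 := ha
        refine h3' ?_
        calc a * v * a⁻¹ = a * (a * (a * v * a⁻¹) * a⁻¹) * a⁻¹ := by rw [h7]
          _ = a * a * a * v * (a * a * a)⁻¹ := by group
          _ = v := by rw [h8]; group
    have hrA : r = A⁻¹ := mul_eq_one_iff_eq_inv.1 hn1
    refine hgood (-(i + i)) ?_
    rw [hrA, hA, neg_add, _root_.zpow_add, _root_.zpow_neg]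
  · rw [← hv] at hI
    obtain ⟨s, hs⟩ := copy_surj e (sq_mem_of_inverts e hcd ac ad a2 rc rd hI (mem_dsub.1 hvD))
    have hcs : a * s = s * a := copy_inj e (by
      rw [copy_mul, copy_mul, hs]; exact (hca.mul_right hca).eq)
    by_cases hs' : InThree a s
    · rw [inThree_iff ha] at hs'
      obtain ⟨j, hj⟩ := hs'
      refine hgood j ?_
      rw [← hs, ← hj, map_zpow, Subgroup.coe_zpow]
    · have hc1 : s * a * s⁻¹ * a⁻¹ = 1 := by rw [← hcs]; group
      have h := word_S4 a s ha ha1 hs'
      rw [hc1, one_mul] at h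
      have hcomm : Commute a (s⁻¹ * s⁻¹ * s⁻¹) :=
        (((show Commute a s from hcs).inv_right).mul_right (show Commute a s from hcs).inv_right).mul_right
          (show Commute a s from hcs).inv_right
      rcases h with h | h
      · exact h.2.2.1 (by rw [hcomm.eq, mul_inv_cancel_right])
      · rw [Inverts, ← hcomm.eq, mul_inv_cancel_right] at h
        have h9 : a * a = 1 := mul_eq_one_iff_eq_inv.2 h
        exact ha1 (by rw [← ha, h9, one_mul])

variable (p) in
include p in
open Small in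
/-- An icosahedral group, except for the field with nine elements. -/
theorem icosa_case (hq : 3 < Nat.card F) (h9 : Nat.card F ≠ 9) {X : Subgroup PG} (hX : X ≤ L)
    (hp : ¬ p ∣ Nat.card X ∨ p = 3) (e : alternatingGroup (Fin 5) ≃* X) : Sub4 L X := by
  classical
  have hPE : P1Like p PG PE := p1Like_ext
  have hcard : Nat.card X = 60 := by rw [← Nat.card_congr e.toEquiv, card_alt_five]
  rw [hcard] at hp
  have hp2 : p ≠ 2 := fun h => by subst h; rcases hp with hp | hp <;> norm_num at hp
  have hp5 : p ≠ 5 := fun h => by subst h; rcases hp with hp | hp <;> norm_num at hp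
  have ho : Odd (Nat.card F) := (Nat.even_or_odd _).resolve_left fun he => hp2 ((p_eq_two_iff (F := F) p).2 he)
  obtain ⟨a, -, ha, ha1, -⟩ := exists_A5_five
  have haX : orderOf (e a : PG) = 5 := by
    rw [Subgroup.orderOf_coe, e.orderOf_eq]
    exact orderOf_eq_prime (hp := ⟨Nat.prime_five⟩) (by rw [pow_succ, pow_succ, pow_succ, pow_two, ha]) ha1
  obtain ⟨c, d, r, hcd, ac, ad, a2, hr, rc, rd, hmem, hdvd, hord⟩ :=
    axis_of_order (p := p) hq (hX (e a).2) haX
      (fun h => hp5 ((Nat.prime_dvd_prime_iff_eq Fact.out Nat.prime_five).1 h)) (by norm_num)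
  have hca : Commute (e a : PG) r := commute_of_fix hPE hcd ac ad rc rd
  have ha5 : (e a : PG) ^ 5 = 1 := orderOf_dvd_iff_pow_eq_one.1 haX.dvd
  by_cases hr10 : r ^ 10 ≠ 1
  · have hgood : ∀ j : ℤ, r * r ≠ (e a : PG) ^ j := fun j h => hr10 (by
      rw [show (10 : ℕ) = 2 * 5 from rfl, pow_mul, pow_two, h, ← zpow_natCast, ← _root_.zpow_mul, mul_comm,
        _root_.zpow_mul, zpow_natCast, ha5, _root_.one_zpow])
    have haD : a ∈ dsub X e r := mem_dsub.2 (by rw [mul_assoc, hca.eq, inv_mul_cancel_left]; exact (e a).2)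
    refine Sub4.of_equiv e hr (dsub X e r) (fun w => mem_dsub) ?_
    suffices h : dsub X e r = Subgroup.zpowers a by rw [h]; exact tri_A5_five ha ha1
    refine le_antisymm (fun w hw => ?_) (Subgroup.zpowers_le.2 haD)
    rw [← inFive_iff ha]
    by_contra hnw
    obtain ⟨v, hvD, hv⟩ : ∃ v ∈ dsub X e r, Inverts a v := by
      rcases word_A5_five a w ha ha1 hnw with h | h
      · exact ⟨_, mul_mem (mul_mem (mul_mem (mul_mem (mul_mem (mul_mem (mul_mem hw haD) hw) (inv_mem haD))
          (inv_mem hw)) haD) hw) hw, h⟩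
      · exact ⟨_, mul_mem (mul_mem (mul_mem (mul_mem (mul_mem (mul_mem hw haD) haD) (inv_mem hw)) (inv_mem haD))
          (inv_mem haD)) hw, h⟩
    obtain ⟨s, hs⟩ := copy_surj e (sq_mem_of_inverts e hcd ac ad a2 rc rd hv (mem_dsub.1 hvD))
    have hcs : Commute a s := copy_inj e (by rw [copy_mul, copy_mul, hs]; exact (hca.mul_right hca).eq)
    by_cases hs' : InFive a s
    · rw [inFive_iff ha] at hs'
      obtain ⟨j, hj⟩ := hs'
      refine hgood j ?_
      rw [← hs, ← hj, map_zpow, Subgroup.coe_zpow]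
    · have hinv : ∀ u : alternatingGroup (Fin 5), Commute a u → ¬ Inverts a u := by
        intro u hu h
        rw [Inverts, ← hu.eq, mul_inv_cancel_right] at h
        have h9 : a * a = 1 := mul_eq_one_iff_eq_inv.2 h
        exact ha1 (by rw [← ha, h9, one_mul, h9, one_mul])
      have r1 : Commute a a := Commute.refl a
      rcases word_A5_five a s ha ha1 hs' with h | h
      · exact hinv _ (((((((hcs.mul_right r1).mul_right hcs).mul_right r1.inv_right).mul_right
          hcs.inv_right).mul_right r1).mul_right hcs).mul_right hcs) h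
      · exact hinv _ ((((((hcs.mul_right r1).mul_right r1).mul_right hcs.inv_right).mul_right
          r1.inv_right).mul_right r1.inv_right).mul_right hcs) h
  -- the fields with eleven and nineteen elements
  push Not at hr10
  have hm10 : orderOf r = 5 ∨ orderOf r = 10 := by
    have h1 := orderOf_dvd_of_pow_eq_one hr10
    have h2 : orderOf r ≤ 10 := Nat.le_of_dvd (by norm_num) h1
    have h3 : 0 < orderOf r := orderOf_pos r
    rcases hdvd with ⟨k, hk⟩
    omega
  have hq' : Nat.card F = 11 ∨ Nat.card F = 19 := by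
    have hne21 : Nat.card F ≠ 21 := by
      intro h
      obtain ⟨k, hk0, hk⟩ := card_eq_charPow (F := F) (p := p)
      rw [h] at hk
      have hd : p ∣ 21 := hk ▸ dvd_pow_self p hk0.ne'
      have hp21 : p ≤ 21 := Nat.le_of_dvd (by norm_num) hd
      have : p = 3 ∨ p = 7 := by
        rcases (Nat.Prime.dvd_mul (Fact.out : p.Prime)).1 (show p ∣ 3 * 7 from hd) with h' | h'
        · exact .inl ((Nat.prime_dvd_prime_iff_eq Fact.out Nat.prime_three).1 h')
        · exact .inr ((Nat.prime_dvd_prime_iff_eq Fact.out (by norm_num)).1 h')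
      have hk3 : k < 3 := by
        by_contra hk3
        have h3 : 2 ≤ p := (Fact.out : p.Prime).two_le
        have := Nat.pow_le_pow_right (show 0 < p by omega) (show 3 ≤ k by omega)
        rcases ‹p = 3 ∨ p = 7› with rfl | rfl <;> omega
      interval_cases k <;> rcases this with rfl | rfl <;> norm_num at hk
    rw [hord, gcd_two_card_sub_one_of_odd ho, torusCard] at hm10
    obtain ⟨j, hj⟩ := ho
    split_ifs at hm10 <;> omega
  have hp3 : p ≠ 3 := by
    rintro rfl
    obtain ⟨k, hk0, hk⟩ := card_eq_charPow (F := F) (p := 3)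
    have : 3 ∣ Nat.card F := hk ▸ dvd_pow_self 3 hk0.ne'
    omega
  clear ha ha1 ha5 haX hca hdvd hord hmem ac ad a2 rc rd hr hr10 hm10 hcd
  clear a r c d
  obtain ⟨a, x, ha, ha1, hx⟩ := exists_A5
  have haX : orderOf (e a : PG) = 3 := by
    rw [Subgroup.orderOf_coe, e.orderOf_eq]
    exact orderOf_eq_prime (hp := ⟨Nat.prime_three⟩) (by rw [pow_succ, pow_two, ha]) ha1
  obtain ⟨c, d, r, hcd, ac, ad, a2, hr, rc, rd, hmem, h3, hord⟩ :=
    axis_of_order (p := p) hq (hX (e a).2) haX
      (fun h => hp3 ((Nat.prime_dvd_prime_iff_eq Fact.out Nat.prime_three).1 h)) (by norm_num)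
  have hca : Commute (e a : PG) r := commute_of_fix hPE hcd ac ad rc rd
  have haD : a ∈ dsub X e r := mem_dsub.2 (by rw [mul_assoc, hca.eq, inv_mul_cancel_left]; exact (e a).2)
  have hrX : r ∉ X := by
    intro h
    obtain ⟨s, hs⟩ := copy_surj e h
    have hcs : a * s = s * a := copy_inj e (by rw [copy_mul, copy_mul, hs]; exact hca.eq)
    have h1 := cent_A5 a s ha ha1 hcs
    rw [inThree_iff ha] at h1
    obtain ⟨j, hj⟩ := h1
    have hr3 : r ^ 3 = 1 := by
      rw [← hs, ← hj, map_zpow, Subgroup.coe_zpow, ← zpow_natCast, ← _root_.zpow_mul, mul_comm, _root_.zpow_mul,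
        zpow_natCast, ← haX, pow_orderOf_eq_one, _root_.one_zpow]
    have h1 := Nat.le_of_dvd (by norm_num) (orderOf_dvd_of_pow_eq_one hr3)
    have h2 := torus_ge (p := p) ho c
    rw [hord] at h1
    omega
  have h8 : ¬ (Nat.card F % 8 = 1 ∨ Nat.card F % 8 = 7) := by omega
  have no4 : ∀ u ∈ L, u * u * (u * u) = 1 → u * u = 1 := fun u hu h => by
    by_contra hne
    exact h8 (card_mod_of_orderOf_four (p := p) hu (orderOf_eq_prime_pow (p := 2) (n := 1)
      (by rw [pow_one, pow_two]; exact hne) (by norm_num; rw [pow_succ, pow_succ, pow_two, mul_assoc]; exact h)))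
  have noV : ∀ v ∈ dsub X e r, ¬ IsV a v := by
    intro v hvD hV
    obtain ⟨v', hv'⟩ := copy_surj e (mem_dsub.1 hvD)
    have hV' := isV_transfer e hca hV hv'
    obtain ⟨h, hh1, hh2⟩ := transit_A5 a v v' ha ha1 hV hV'
    have hfp := fourPair_of_isV e hX hV
    set H : PG := (e h : PG) with hH
    set V : PG := (e v : PG) with hVdef
    set U : PG := (e (a * v * a⁻¹) : PG) with hU
    set n := H⁻¹ * r⁻¹ with hn
    have hnL : n ∈ L := (L).mul_mem ((L).inv_mem (hX (e h).2)) ((L).inv_mem hr)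
    have e1 : H * V * H⁻¹ = r⁻¹ * V * r := by
      rw [← hv', ← hh1, copy_mul, copy_mul, copy_inv]
    have nV : Commute n V := by
      show H⁻¹ * r⁻¹ * V = V * (H⁻¹ * r⁻¹)
      calc H⁻¹ * r⁻¹ * V = H⁻¹ * (r⁻¹ * V * r) * r⁻¹ := by group
        _ = V * (H⁻¹ * r⁻¹) := by rw [← e1]; group
    have e2 : (e (a * v' * a⁻¹) : PG) = r⁻¹ * U * r := by
      rw [hU, copy_mul, copy_mul, copy_inv, copy_mul, copy_mul, copy_inv, hv', ← hVdef]
      have har : r⁻¹ * (e a : PG) * r = e a := by rw [mul_assoc, hca.eq, inv_mul_cancel_left]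
      conv_lhs => rw [← har]
      group
    have nU : n * U * n⁻¹ = U ∨ n * U * n⁻¹ = V * U := by
      rcases hh2 with h2 | h2
      · refine .inl ?_
        have h3 : H * U * H⁻¹ = r⁻¹ * U * r := by rw [← e2, ← h2, copy_mul, copy_mul, copy_inv]
        calc n * U * n⁻¹ = H⁻¹ * (r⁻¹ * U * r) * H := by rw [hn]; group
          _ = U := by rw [← h3]; group
      · refine .inr ?_
        have h3 : H * U * H⁻¹ = (r⁻¹ * V * r) * (r⁻¹ * U * r) := by
          rw [← e2, ← hv', ← copy_mul e v', ← h2, copy_mul, copy_mul, copy_inv]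
        calc n * U * n⁻¹ = H⁻¹ * ((r⁻¹ * V * r)⁻¹ * (r⁻¹ * V * r * (r⁻¹ * U * r))) * H := by rw [hn]; group
          _ = H⁻¹ * ((H * V * H⁻¹)⁻¹ * (H * U * H⁻¹)) * H := by rw [← h3, ← e1]
          _ = V⁻¹ * U := by group
          _ = V * U := by rw [inv_eq_of_mul_eq_one_right hfp.sx]
    refine hrX ?_
    suffices hnX : n ∈ X by
      have h4 := X.inv_mem (X.mul_mem (e h).2 hnX)
      rwa [hn, ← hH, mul_inv_cancel_left, inv_inv] at h4
    rcases nU with nU | nU
    · have hnu : Commute n U := mul_inv_eq_iff_eq_mul.1 nU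
      rcases hfp.centralizer p ho nV hnu with h4 | h4 | h4 | h4 <;> rw [h4]
      exacts [X.one_mem, (e v).2, (e _).2, X.mul_mem (e v).2 (e _).2]
    · exfalso
      have hv2 := hfp.sx
      have hu2 := hfp.sy
      have hn2 : Commute (n * n) U := by
        show n * n * U = U * (n * n)
        calc n * n * U = n * (n * U * n⁻¹) * n⁻¹ * (n * n) := by group
          _ = n * V * U * n⁻¹ * (n * n) := by rw [nU]; group
          _ = V * (n * U * n⁻¹) * (n * n) := by rw [nV.eq]; group
          _ = U * (n * n) := by rw [nU, ← mul_assoc V V, hv2, one_mul]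
      have hnn : Commute n (n * n) := (Commute.refl n).mul_right (Commute.refl n)
      have h2 : n * n = 1 ∨ n * n = V := by
        rcases hfp.centralizer p ho (nV.mul_left nV) hn2 with h4 | h4 | h4 | h4
        · exact .inl h4
        · exact .inr h4
        · exfalso
          rw [h4] at hnn
          rw [hnn.eq, mul_inv_cancel_right] at nU
          exact hfp.x1 (mul_eq_right.1 nU.symm)
        · exfalso
          rw [h4] at hnn
          have hc : Commute n U := by
            have := nV.inv_right.mul_right hnn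
            rwa [inv_mul_cancel_left] at this
          rw [hc.eq, mul_inv_cancel_right] at nU
          exact hfp.x1 (mul_eq_right.1 nU.symm)
      rcases h2 with h2 | h2
      · refine hfp.x1 ?_
        have hun : U * n * (U * n) = V := by
          calc U * n * (U * n) = U * (n * U * n⁻¹) * (n * n) := by group
            _ = U * (V * U) := by rw [h2, mul_one, nU]
            _ = V * (U * U) := by rw [← mul_assoc, ← hfp.comm.eq, mul_assoc]
            _ = V := by rw [hu2, mul_one]
        have := no4 (U * n) ((L).mul_mem hfp.hy hnL) (by rw [hun, hv2])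
        rwa [hun] at this
      · refine hfp.x1 ?_
        have := no4 n hnL (by rw [h2, hv2])
        rwa [h2] at this
  have hsub : ∀ w ∈ dsub X e r, InNormThree a w := by
    intro w hw
    by_contra hnw
    rcases word_A5 a w ha ha1 hnw with h | h
    · exact noV _ (mul_mem (mul_mem (mul_mem (mul_mem (mul_mem (mul_mem (mul_mem haD hw) haD) (inv_mem hw))
        (inv_mem haD)) hw) (inv_mem haD)) (inv_mem hw)) h
    · exact noV _ (mul_mem (mul_mem (mul_mem (mul_mem (mul_mem (mul_mem (mul_mem haD hw) haD) (inv_mem hw))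
        haD) hw) (inv_mem haD)) (inv_mem hw)) h
  refine Sub4.of_equiv e hr (dsub X e r) (fun w => mem_dsub) ?_
  by_cases hall : ∀ w ∈ dsub X e r, InThree a w
  · have h : dsub X e r = Subgroup.zpowers a :=
      le_antisymm (fun w hw => (inThree_iff ha).1 (hall w hw)) (Subgroup.zpowers_le.2 haD)
    rw [h]; exact tri_A5 ha ha1
  · push Not at hall
    obtain ⟨u, hu, hu'⟩ := hall
    refine tri_A5_norm ha ha1 fun w => ⟨hsub w, fun hw => ?_⟩
    rcases norm_A5 a u w ha ha1 (hsub u hu) hu' hw with h | h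
    · exact Subgroup.zpowers_le.2 haD ((inThree_iff ha).1 h)
    · have := mul_mem (inv_mem hu) (Subgroup.zpowers_le.2 haD ((inThree_iff ha).1 h))
      rwa [inv_mul_cancel_left] at this

end CfsgLib.CharsMore.BinaryPSL2
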