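import Cfsg.Agent.Lib.CharsMore.BinaryPSL2.Criterion
import Mathlib.GroupTheory.SpecificGroups.Alternating

/-!
# The action of a simple group of order 360 on six points
-/

set_option autoImplicit false

namespace CfsgLib.CharsMore.BinaryPSL2

open MulAction

theorem not_binary_index_six {G : Type*} [Group G] [Finite G] [IsSimpleGroup G] (hG : Nat.card G = 360)
    {H : Subgroup G} (h6 : H.index = 6) : ¬ IsBinary G H := by
  classical
  haveI := Fintype.ofFinite (G ⧸ H)
  intro hbin
  have hc : Fintype.card (G ⧸ H) = 6 := by rw [← Nat.card_eq_fintype_card]; exact h6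
  let f := MulAction.toPermHom G (G ⧸ H)
  have hinj : Function.Injective f := by
    rw [← MonoidHom.ker_eq_bot_iff, ← Subgroup.normalCore_eq_ker]
    refine (H.normalCore_normal.eq_bot_or_eq_top).resolve_right fun h => ?_
    have hH : H = ⊤ := top_le_iff.1 (h ▸ H.normalCore_le)
    rw [hH, Subgroup.index_top] at h6
    omega
  have hr : f.range = alternatingGroup (G ⧸ H) := by
    refine Equiv.Perm.eq_alternatingGroup_of_index_eq_two ?_
    have h1 := f.range.card_mul_index
    rw [Nat.card_congr (MonoidHom.ofInjective hinj).toEquiv.symm, hG, Nat.card_perm,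
      Nat.card_eq_fintype_card, hc, show Nat.factorial 6 = 720 from rfl] at h1
    omega
  have key : ∀ σ : Equiv.Perm (G ⧸ H), ∀ a b : G ⧸ H, ∃ g : G, g • a = σ a ∧ g • b = σ b := by
    intro σ a b
    have even : ∀ τ : Equiv.Perm (G ⧸ H), Equiv.Perm.sign τ = 1 → ∃ g : G, ∀ c, g • c = τ c := by
      intro τ hτ
      obtain ⟨g, rfl⟩ : τ ∈ f.range := by rw [hr, Equiv.Perm.mem_alternatingGroup]; exact hτ
      exact ⟨g, fun c => rfl⟩
    rcases Int.units_eq_one_or (Equiv.Perm.sign σ) with h | h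
    · obtain ⟨g, hg⟩ := even σ h; exact ⟨g, hg a, hg b⟩
    obtain ⟨c, -, hc'⟩ := Finset.exists_mem_notMem_of_card_lt_card (s := {a, b}) (t := (Finset.univ : Finset (G ⧸ H)))
      (lt_of_le_of_lt (Finset.card_le_two) (by rw [Finset.card_univ, hc]; norm_num))
    obtain ⟨d, -, hd⟩ := Finset.exists_mem_notMem_of_card_lt_card (s := {a, b, c}) (t := (Finset.univ : Finset (G ⧸ H)))
      (lt_of_le_of_lt (Finset.card_le_three) (by rw [Finset.card_univ, hc]; norm_num))
    simp only [Finset.mem_insert, Finset.mem_singleton, not_or] at hc' hd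
    obtain ⟨g, hg⟩ := even (σ * Equiv.swap c d) (by
      rw [map_mul, h, Equiv.Perm.sign_swap (Ne.symm hd.2.2)]; decide)
    refine ⟨g, ?_, ?_⟩
    · rw [hg, Equiv.Perm.mul_apply, Equiv.swap_apply_of_ne_of_ne (Ne.symm hc'.1) (Ne.symm hd.1)]
    · rw [hg, Equiv.Perm.mul_apply, Equiv.swap_apply_of_ne_of_ne (Ne.symm hc'.2) (Ne.symm hd.2.1)]
  have surj : Function.Surjective f := by
    intro σ
    let e := (Fintype.equivFinOfCardEq hc).symm
    obtain ⟨g, hg⟩ := hbin 6 e (σ ∘ e) (by norm_num) (fun i j _ => key σ _ _)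
    exact ⟨g, Equiv.ext fun c => show g • c = σ c by simpa using hg (e.symm c)⟩
  have := Nat.card_eq_of_bijective f ⟨hinj, surj⟩
  rw [hG, Nat.card_perm, Nat.card_eq_fintype_card, hc] at this
  norm_num [Nat.factorial] at this

end CfsgLib.CharsMore.BinaryPSL2
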