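import Cfsg.Agent.Lib.PSL2.Icosa
import Cfsg.Agent.Lib.GLTwo.Basic

/-!
# Traces, commutation and conjugacy in `SL₂` over a finite field
-/

set_option autoImplicit false
set_option linter.unusedSectionVars false

namespace CfsgLib.CharsMore.BinaryPSL2

open Matrix CfsgLib.PSL2 CfsgLib.GLTwo

variable {F : Type*} [Field F] [Finite F]

local notation "M2" => Matrix (Fin 2) (Fin 2) F
local notation "SL2F" => Matrix.SpecialLinearGroup (Fin 2) F
local notation "PG" => Matrix.ProjGenLinGroup (Fin 2) F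

/-- A non-degenerate conic of this shape has a point. -/
theorem exists_conic_point {σ : F} (hσ : σ ^ 2 ≠ 4) (α β γ : F) :
    ∃ x z : F, x ^ 2 + σ * x * z + z ^ 2 + α * x + β * z + γ = 0 := by
  classical
  haveI := Fintype.ofFinite F
  by_cases h2 : (2 : F) = 0
  · haveI : CharP F 2 := CharTwo.of_one_ne_zero_of_two_eq_zero one_ne_zero h2
    have hs : σ ≠ 0 := fun h => hσ (by rw [h, show (4 : F) = 2 * 2 by norm_num, h2]; ring)
    set u := β / σ with hu
    set v := α / σ with hv
    obtain ⟨w, hw⟩ := FiniteField.isSquare_of_char_two (ringChar.eq F 2)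
      (u ^ 2 + σ * u * v + v ^ 2 + α * u + β * v + γ)
    refine ⟨u + w, v, ?_⟩
    have h1 : σ * u = β := by rw [hu]; field_simp
    have h3 : σ * v = α := by rw [hv]; field_simp
    linear_combination (w * u + w * w + w * α) * h2 + hw + w * h3
  · have hodd : Fintype.card F % 2 = 1 := by
      by_contra h
      exact h2 (by
        haveI : CharP F 2 := ringChar.of_eq ((FiniteField.even_card_iff_char_two).2 (by omega))
        exact CharTwo.two_eq_zero)
    have h4 : (4 : F) ≠ 0 := by
      rw [show (4 : F) = 2 * 2 by norm_num]; exact mul_ne_zero h2 h2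
    -- complete the square in `x`
    have hlead : 1 - σ ^ 2 / 4 ≠ 0 := fun h => hσ (by field_simp at h; linear_combination -h)
    obtain ⟨x', z, hxz⟩ := FiniteField.exists_root_sum_quadratic (R := F)
      (f := Polynomial.C 1 * Polynomial.X ^ 2 + Polynomial.C 0 * Polynomial.X + Polynomial.C (γ - α ^ 2 / 4))
      (g := Polynomial.C (1 - σ ^ 2 / 4) * Polynomial.X ^ 2 + Polynomial.C (β - σ * α / 2) * Polynomial.X +
        Polynomial.C 0)
      (Polynomial.degree_quadratic one_ne_zero) (Polynomial.degree_quadratic hlead) hodd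
    simp only [Polynomial.eval_add, Polynomial.eval_mul, Polynomial.eval_C, Polynomial.eval_pow,
      Polynomial.eval_X] at hxz
    refine ⟨x' - σ * z / 2 - α / 2, z, ?_⟩
    rw [← hxz]
    field_simp
    ring

/-- A companion for given traces. -/
theorem exists_partner {a : SL2F} (ha : a.1.trace ^ 2 ≠ 4) (τ ρ : F) :
    ∃ b : SL2F, b.1.trace = τ ∧ (a.1 * b.1).trace = ρ := by
  set σ := a.1.trace with hσ
  have hns : ¬ IsScalar2 a.1 := fun h => ha (by
    have := a.2
    rw [Matrix.det_fin_two, h.1, h.2.2] at this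
    rw [hσ, Matrix.trace_fin_two, h.2.2]
    linear_combination 4 * this)
  obtain ⟨X, hX, he⟩ := similar_of_trace_det hns (companion_not_scalar σ 1) (trace_companion σ 1).symm
    (a.2.trans (det_companion σ 1).symm)
  obtain ⟨x, z, hxz⟩ := exists_conic_point ha (-τ) (ρ - σ * τ) 1
  set B : M2 := !![x, ρ + z - σ * (τ - x); z, τ - x] with hB
  have hu : IsUnit X.det := hX.isUnit
  have hBd : B.det = 1 := by rw [hB, Matrix.det_fin_two_of]; linear_combination -hxz
  refine ⟨⟨X⁻¹ * B * X, by rw [Matrix.det_conj' ((Matrix.isUnit_iff_isUnit_det X).2 hu), hBd]⟩, ?_, ?_⟩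
  · show (X⁻¹ * B * X).trace = τ
    rw [Matrix.trace_mul_comm, Matrix.mul_nonsing_inv_cancel_left _ _ hu, hB, Matrix.trace_fin_two]
    simp
  · show (a.1 * (X⁻¹ * B * X)).trace = ρ
    have h1 : a.1 = X⁻¹ * (companion σ 1 * X) := by rw [← he, Matrix.nonsing_inv_mul_cancel_left _ _ hu]
    rw [h1, show X⁻¹ * (companion σ 1 * X) * (X⁻¹ * B * X) = X⁻¹ * (companion σ 1 * (X * X⁻¹) * B * X) by
      simp only [mul_assoc], Matrix.mul_nonsing_inv _ hu, mul_one, Matrix.trace_mul_comm,
      Matrix.mul_nonsing_inv_cancel_right _ _ hu, hB, Matrix.trace_fin_two]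
    simp [companion, Matrix.mul_apply, Fin.sum_univ_two]

theorem trace_inv_mul (a b : SL2F) : (b⁻¹ * a : SL2F).1.trace = a.1.trace * b.1.trace - (a.1 * b.1).trace := by
  rw [Matrix.SpecialLinearGroup.coe_mul, Matrix.SpecialLinearGroup.coe_inv, Matrix.adjugate_fin_two]
  simp [Matrix.mul_apply, Fin.sum_univ_two, Matrix.trace_fin_two, Matrix.vecMul, dotProduct]
  ring

theorem det_bracket (A B : M2) : (A * B - B * A).det = 4 * A.det * B.det - A.trace ^ 2 * B.det -
    B.trace ^ 2 * A.det - (A * B).trace ^ 2 + A.trace * B.trace * (A * B).trace := by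
  simp [Matrix.det_fin_two, Matrix.mul_apply, Fin.sum_univ_two, Matrix.trace_fin_two]
  ring

/-- Elements commuting in `PSL₂`. -/
theorem bracket_of_commute {a b : SL2F} (hb : b.1.trace ≠ 0) (h : Commute (slToPG a) (slToPG b)) :
    a.1.trace ^ 2 + b.1.trace ^ 2 + (a.1 * b.1).trace ^ 2 - a.1.trace * b.1.trace * (a.1 * b.1).trace = 4 := by
  have h1 : slToPG (a * b * a⁻¹ * b⁻¹) = 1 := by
    rw [map_mul, map_mul, map_mul, map_inv, map_inv, h.eq]; group
  rw [slToPG_eq_one_iff] at h1
  have hab : a.1 * b.1 = b.1 * a.1 := by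
    have hcase : a * b * a⁻¹ * b⁻¹ = 1 ∨ (a * b * a⁻¹ * b⁻¹ = -1 ∧ (2 : F) ≠ 0) := by
      rcases h1 with h1 | h1
      · exact .inl (Subtype.ext h1)
      · by_cases h20 : (2 : F) = 0
        · refine .inl (Subtype.ext ?_)
          rw [h1, Matrix.SpecialLinearGroup.coe_one]
          ext i j
          rw [Matrix.neg_apply]
          linear_combination (-((1 : M2) i j)) * h20
        · exact .inr ⟨Subtype.ext (by rw [h1]; simp), h20⟩
    rcases hcase with h2 | ⟨h2, h20⟩
    · have : a * b = b * a := by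
        calc a * b = a * b * a⁻¹ * b⁻¹ * (b * a) := by group
          _ = b * a := by rw [h2, one_mul]
      exact congrArg Subtype.val this
    · exfalso
      have h3 : a * b * a⁻¹ = -b := by
        calc a * b * a⁻¹ = a * b * a⁻¹ * b⁻¹ * b := by group
          _ = -b := by rw [h2, neg_one_mul]
      have h4 := congrArg (fun s : SL2F => s.1.trace) h3
      simp only [Matrix.SpecialLinearGroup.coe_mul, Matrix.SpecialLinearGroup.coe_neg, Matrix.trace_neg] at h4
      rw [Matrix.trace_mul_comm, ← mul_assoc, ← Matrix.SpecialLinearGroup.coe_mul, inv_mul_cancel,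
        Matrix.SpecialLinearGroup.coe_one, one_mul] at h4
      exact hb ((mul_eq_zero.1 (show (2 : F) * b.1.trace = 0 by linear_combination h4)).resolve_left h20)
  have := det_bracket a.1 b.1
  rw [hab, sub_self, Matrix.det_zero, a.2, b.2] at this
  rw [← hab] at this
  linear_combination this

theorem isNorm_all {g : M2} (hd : g.det = 1) (h4 : g.trace ^ 2 ≠ 4) (r : F) : IsNorm g r := by
  obtain ⟨x, z, h⟩ := exists_conic_point h4 0 0 (-r)
  exact ⟨x, z, by rw [hd]; linear_combination h⟩

/-- Semisimple elements of equal trace are conjugate in `SL₂`. -/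
theorem isConj_of_trace {g h : SL2F} (ht : g.1.trace = h.1.trace) (h4 : g.1.trace ^ 2 ≠ 4) : IsConj g h := by
  have key : ∀ {k : SL2F}, k.1.trace ^ 2 ≠ 4 → ¬ IsScalar2 k.1 := fun {k} hk hs => hk (by
    have := k.2
    rw [Matrix.det_fin_two, hs.1, hs.2.2] at this
    rw [Matrix.trace_fin_two, hs.2.2]
    linear_combination 4 * this)
  obtain ⟨X, hX, he⟩ := similar_of_trace_det (key h4) (key (ht ▸ h4)) ht (g.2.trans h.2.symm)
  exact (sl_isConj_iff_norm (key h4) hX he).2 (isNorm_all g.2 h4 _)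

theorem exists_conj_slToPG {g h : SL2F} (ht : g.1.trace = h.1.trace) (h4 : g.1.trace ^ 2 ≠ 4) :
    ∃ y ∈ pslRange F, slToPG h = y * slToPG g * y⁻¹ := by
  obtain ⟨c, hc⟩ := isConj_iff.1 (isConj_of_trace ht h4)
  exact ⟨slToPG c, slToPG_mem c, by rw [← hc, map_mul, map_mul, map_inv]⟩

/-- An element inverting two non-commuting elements: a determinant condition. -/
theorem isSquare_of_inverts {a b u : SL2F} (hu : u * a = a⁻¹ * u) (hu' : u * b = b⁻¹ * u)
    (hne : a.1 * b.1 ≠ b.1 * a.1) : IsSquare (a.1 * b.1 - b.1 * a.1).det := by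
  set N : M2 := a.1 * b.1 - b.1 * a.1 with hN
  have hNa : N * a.1 = a.1.adjugate * N := by
    have h := a.2
    rw [Matrix.det_fin_two] at h
    rw [hN, Matrix.adjugate_fin_two]
    ext i j
    fin_cases i <;> fin_cases j <;> simp [Matrix.mul_apply, Fin.sum_univ_two] <;> ring
  have hNb : N * b.1 = b.1.adjugate * N := by
    rw [hN, Matrix.adjugate_fin_two]
    ext i j
    fin_cases i <;> fin_cases j <;> simp [Matrix.mul_apply, Fin.sum_univ_two] <;> ring
  have h1 : ∀ {s : SL2F}, u * s = s⁻¹ * u → N * s.1 = s.1.adjugate * N →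
      (u.1.adjugate * N) * s.1 = s.1 * (u.1.adjugate * N) := by
    intro s hs hN'
    have hs' : u⁻¹ * s⁻¹ = s * u⁻¹ := by
      calc u⁻¹ * s⁻¹ = u⁻¹ * (s⁻¹ * u) * u⁻¹ := by group
        _ = s * u⁻¹ := by rw [← hs]; group
    have := congrArg Subtype.val hs'
    simp only [Matrix.SpecialLinearGroup.coe_mul, Matrix.SpecialLinearGroup.coe_inv] at this
    rw [mul_assoc, hN', ← mul_assoc, this, mul_assoc]
  have hns : ¬ IsScalar2 a.1 := fun hs => hne (by rw [(isScalar2_iff _).1 hs]; simp)
  obtain ⟨α, β, hab⟩ := eq_add_smul_of_comm hns (h1 hu hNa)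
  have h2 := h1 hu' hNb
  rw [hab, add_mul, mul_add, smul_mul_assoc, one_mul, mul_smul_comm, mul_one, add_right_inj, smul_mul_assoc,
    mul_smul_comm] at h2
  rcases eq_or_ne β 0 with rfl | hβ
  · rw [zero_smul, add_zero] at hab
    refine ⟨α, ?_⟩
    have h3 := congrArg Matrix.det hab
    rw [Matrix.det_mul, Matrix.det_adjugate, u.2, one_pow, one_mul, Matrix.det_smul, Matrix.det_one,
      Fintype.card_fin, mul_one, pow_two] at h3
    exact h3
  · exact absurd (smul_right_injective M2 hβ h2) hne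

theorem slToPG_eq_iff {s t : SL2F} : slToPG s = slToPG t ↔ s = t ∨ s = -t := by
  constructor
  · intro h
    have h1 : slToPG (s * t⁻¹) = 1 := by rw [map_mul, map_inv, h, mul_inv_cancel]
    rcases slToPG_eq_one_iff.1 h1 with h1 | h1
    · exact .inl (mul_inv_eq_one.1 (Subtype.ext h1))
    · refine .inr ?_
      have h2 : s * t⁻¹ = -1 := Subtype.ext (by rw [h1]; simp)
      calc s = s * t⁻¹ * t := by group
        _ = -t := by rw [h2, neg_one_mul]
  · rintro (rfl | rfl)
    · rfl
    · exact slToPG_neg t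

theorem lift_sq {s : SL2F} (h : slToPG s * slToPG s ≠ 1) : s.1.trace ≠ 0 := by
  intro h0
  refine h ?_
  rw [← map_mul, slToPG_eq_one_iff]
  refine .inr ?_
  rw [Matrix.SpecialLinearGroup.coe_mul, CfsgLib.GLTwo.sq_eq, h0, zero_smul, s.2, one_smul, zero_sub]

end CfsgLib.CharsMore.BinaryPSL2
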