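import Cfsg.Agent.Lib.CharsMore.BinaryPSL2.Criterion
import Cfsg.Agent.Lib.CharsMore.BinaryPSL2.MatTools
import Cfsg.Agent.Lib.PSL2.Four

/-!
# Octahedral subgroups for the field with seven elements
-/

set_option autoImplicit false
set_option linter.unusedSectionVars false

namespace CfsgLib.CharsMore.BinaryPSL2

open Matrix MulAction CfsgLib.PSL2 CfsgLib.Classical

namespace SevenModel

/-- Entries of a two by two matrix. -/
abbrev Mc : Type := ZMod 7 × ZMod 7 × ZMod 7 × ZMod 7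

/-- The product. -/
def mm : Mc → Mc → Mc
  | (a, b, c, d), (a', b', c', d') =>
    (a * a' + b * c', a * b' + b * d', c * a' + d * c', c * b' + d * d')

/-- The adjugate. -/
def adj : Mc → Mc
  | (a, b, c, d) => (d, -b, -c, a)

/-- The determinant. -/
def dd : Mc → ZMod 7
  | (a, b, c, d) => a * d - b * c

/-- The negative. -/
def neg : Mc → Mc
  | (a, b, c, d) => (-a, -b, -c, -d)

def mJ : Mc := (0, 6, 1, 0)
def mY : Mc := (2, 3, 3, 5)
def mI : Mc := (1, 0, 0, 1)
def y0 : Mc := (0, 1, 6, 1)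
def z0 : Mc := (0, 1, 6, 2)
def a0 : Mc := (0, 3, 2, 1)
def c0 : Mc := (1, 3, 2, 0)

/-- The lifts of the involutions of the four-group. -/
def six (m : Mc) : Bool :=
  m == mJ || m == neg mJ || m == mY || m == neg mY || m == mm mJ mY || m == neg (mm mJ mY)

/-- Lifts of the elements normalising the four-group. -/
def memB (m : Mc) : Bool := six (mm (mm m mJ) (adj m)) && six (mm (mm m mY) (adj m))

/-- Conjugation by the inverse. -/
def back (y k : Mc) : Mc := mm (mm (adj y) k) y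

theorem basic : (dd mJ = 1 ∧ dd mY = 1 ∧ dd y0 = 1 ∧ dd z0 = 1 ∧ dd a0 = 1 ∧ dd c0 = 1) ∧
    (mJ ≠ mI ∧ mJ ≠ neg mI ∧ mY ≠ mI ∧ mY ≠ neg mI ∧ mJ ≠ mY ∧ mJ ≠ neg mY) ∧
    (mm mJ mJ = neg mI ∧ mm mY mY = neg mI ∧ mm mJ mY = neg (mm mY mJ)) ∧
    (memB a0 ∧ memB (back z0 c0) ∧ memB (back y0 (mm a0 (adj c0)))) := by
  decide +kernel

theorem check : ∀ a b c d : ZMod 7, dd (a, b, c, d) = 1 → memB (a, b, c, d) = true →
    memB (back y0 (a, b, c, d)) = true →
      memB (back z0 (mm (adj (a, b, c, d)) a0)) = true → False := by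
  decide +kernel

end SevenModel

variable {F : Type*} [Field F] [Finite F] [CharP F 7]

local notation "SL2F" => Matrix.SpecialLinearGroup (Fin 2) F
local notation "M2" => Matrix (Fin 2) (Fin 2) F
local notation "PG" => Matrix.ProjGenLinGroup (Fin 2) F
local notation "L" => pslRange F
local notation "cst" => ZMod.castHom (dvd_refl 7) F

/-- The value of a coordinate matrix. -/
def ev7 : SevenModel.Mc → M2
  | (a, b, c, d) => !![cst a, cst b; cst c, cst d]

theorem ev7_mm (m n : SevenModel.Mc) : (ev7 (SevenModel.mm m n) : M2) = ev7 m * ev7 n := by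
  obtain ⟨a, b, c, d⟩ := m
  obtain ⟨a', b', c', d'⟩ := n
  simp only [SevenModel.mm, ev7, map_add, map_mul, Matrix.mul_fin_two]

theorem ev7_adj (m : SevenModel.Mc) : (ev7 (SevenModel.adj m) : M2) = (ev7 m).adjugate := by
  obtain ⟨a, b, c, d⟩ := m
  simp only [SevenModel.adj, ev7, map_neg, Matrix.adjugate_fin_two_of]

theorem ev7_dd (m : SevenModel.Mc) : (ev7 m : M2).det = cst (SevenModel.dd m) := by
  obtain ⟨a, b, c, d⟩ := m
  simp only [SevenModel.dd, ev7, map_sub, map_mul, Matrix.det_fin_two_of]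

theorem ev7_neg (m : SevenModel.Mc) : (ev7 (SevenModel.neg m) : M2) = -ev7 m := by
  obtain ⟨a, b, c, d⟩ := m
  ext i j
  fin_cases i <;> fin_cases j <;> simp [SevenModel.neg, ev7]

theorem ev7_inj {m n : SevenModel.Mc} (h : (ev7 m : M2) = ev7 n) : m = n := by
  obtain ⟨a, b, c, d⟩ := m
  obtain ⟨a', b', c', d'⟩ := n
  have e := fun i j => congrFun (congrFun h i) j
  have hinj := ZMod.castHom_injective (R := F) (n := 7)
  have e00 := hinj (e 0 0)
  have e01 := hinj (e 0 1)
  have e10 := hinj (e 1 0)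
  have e11 := hinj (e 1 1)
  subst e00 e01 e10 e11
  rfl

theorem ev7_mI : (ev7 SevenModel.mI : M2) = 1 := by
  simp [SevenModel.mI, ev7, Matrix.one_fin_two]

/-- An octahedral subgroup for seven elements. -/
theorem octa_seven (h7 : Nat.card F = 7) {X : Subgroup PG} (hX : X ≤ L) (e : X ≃* Equiv.Perm (Fin 4)) :
    Tri L X := by
  classical
  haveI : Fact (Nat.Prime 7) := ⟨by norm_num⟩
  haveI := Fintype.ofFinite F
  have hodd : Odd (Nat.card F) := by rw [h7]; decide
  obtain ⟨⟨dJ, dY, dy, dz, da, dc⟩, ⟨n1, n2, n3, n4, n5, n6⟩, ⟨s1, s2, s3⟩, ⟨ma, mc, mb⟩⟩ := SevenModel.basic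
  have lift : ∀ {m : SevenModel.Mc}, SevenModel.dd m = 1 → ∃ S : SL2F, (ev7 m : M2) = S.1 := fun {m} hm =>
    ⟨⟨ev7 m, by rw [ev7_dd, hm, map_one]⟩, rfl⟩
  have surj : ∀ x : F, ∃ a : ZMod 7, cst a = x := by
    have hb : Function.Bijective cst := by
      refine (Fintype.bijective_iff_injective_and_card _).2 ⟨ZMod.castHom_injective F, ?_⟩
      rw [ZMod.card, ← Nat.card_eq_fintype_card, h7]
    exact hb.2
  obtain ⟨J, hJ⟩ := lift dJ
  obtain ⟨Y, hY⟩ := lift dY
  -- equality in the projective group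
  have eqPG : ∀ {m n : SevenModel.Mc} {S T : SL2F}, (ev7 m : M2) = S.1 → (ev7 n : M2) = T.1 →
      (slToPG S = slToPG T ↔ m = n ∨ m = SevenModel.neg n) := by
    intro m n S T hS hT
    rw [slToPG_eq_iff]
    constructor
    · rintro (h | h) <;> subst h
      · exact .inl (ev7_inj (hS.trans hT.symm))
      · refine .inr (ev7_inj (F := F) ?_)
        rw [ev7_neg, hT, hS]
        exact Matrix.SpecialLinearGroup.coe_neg _
    · rintro (h | h) <;> subst h
      · exact .inl (Subtype.ext (hS.symm.trans hT))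
      · refine .inr (Subtype.ext ?_)
        rw [Matrix.SpecialLinearGroup.coe_neg, ← hS, ← hT, ev7_neg]
  have one_ev : (ev7 SevenModel.mI : M2) = (1 : SL2F).1 := by rw [ev7_mI]; rfl
  have mul_ev : ∀ {m n : SevenModel.Mc} {S T : SL2F}, (ev7 m : M2) = S.1 → (ev7 n : M2) = T.1 →
      (ev7 (SevenModel.mm m n) : M2) = (S * T : SL2F).1 := by
    intro m n S T hS hT
    rw [ev7_mm, hS, hT]; rfl
  have inv_ev : ∀ {m : SevenModel.Mc} {S : SL2F}, (ev7 m : M2) = S.1 →
      (ev7 (SevenModel.adj m) : M2) = (S⁻¹ : SL2F).1 := by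
    intro m S hS
    rw [ev7_adj, hS, Matrix.SpecialLinearGroup.coe_inv]
  have hne1 : ∀ {m : SevenModel.Mc} {S : SL2F}, (ev7 m : M2) = S.1 → m ≠ SevenModel.mI →
      m ≠ SevenModel.neg SevenModel.mI → slToPG S ≠ 1 := by
    intro m S hS h1 h2 h
    rw [← map_one slToPG] at h
    rcases (eqPG hS one_ev).1 h with h | h
    exacts [h1 h, h2 h]
  have hsq : ∀ {m : SevenModel.Mc} {S : SL2F}, (ev7 m : M2) = S.1 →
      SevenModel.mm m m = SevenModel.neg SevenModel.mI → slToPG S * slToPG S = 1 := by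
    intro m S hS h
    rw [← map_mul, ← map_one slToPG]
    exact (eqPG (mul_ev hS hS) one_ev).2 (.inr h)
  have hP : FourPair (slToPG J) (slToPG Y) := by
    refine ⟨slToPG_mem _, slToPG_mem _, hne1 hJ n1 n2, hne1 hY n3 n4, ?_, hsq hJ s1, hsq hY s2, ?_⟩
    · intro h
      rcases (eqPG hJ hY).1 h with h | h
      exacts [n5 h, n6 h]
    · show _ * _ = _ * _
      rw [← map_mul, ← map_mul]
      exact (eqPG (mul_ev hJ hY) (mul_ev hY hJ)).2 (.inr s3)
  -- membership in the normaliser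
  have six_mem : ∀ {m : SevenModel.Mc} {S : SL2F}, (ev7 m : M2) = S.1 → SevenModel.six m = true →
      slToPG S ∈ fourGrp (slToPG J) (slToPG Y) := by
    intro m S hS h
    rw [← SetLike.mem_coe, hP.coe_fourGrp hodd]
    simp only [SevenModel.six, Bool.or_eq_true, beq_iff_eq] at h
    simp only [Set.mem_insert_iff, Set.mem_singleton_iff]
    rcases h with ((((h | h) | h) | h) | h) | h
    · exact .inr (.inl ((eqPG hS hJ).2 (.inl h)))
    · exact .inr (.inl ((eqPG hS hJ).2 (.inr h)))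
    · exact .inr (.inr (.inl ((eqPG hS hY).2 (.inl h))))
    · exact .inr (.inr (.inl ((eqPG hS hY).2 (.inr h))))
    · refine .inr (.inr (.inr ?_)); rw [← map_mul]; exact (eqPG hS (mul_ev hJ hY)).2 (.inl h)
    · refine .inr (.inr (.inr ?_)); rw [← map_mul]; exact (eqPG hS (mul_ev hJ hY)).2 (.inr h)
  have mem : ∀ {m : SevenModel.Mc} {S : SL2F}, (ev7 m : M2) = S.1 →
      (slToPG S ∈ fourNorm (slToPG J) (slToPG Y) ↔ SevenModel.memB m = true) := by
    intro m S hS
    constructor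
    · intro h
      have hconj : ∀ {n : SevenModel.Mc} {T : SL2F}, (ev7 n : M2) = T.1 → slToPG T ≠ 1 →
          slToPG T ∈ fourGrp (slToPG J) (slToPG Y) →
          SevenModel.six (SevenModel.mm (SevenModel.mm m n) (SevenModel.adj m)) = true := by
        intro n T hT hT1 hTV
        have hv := fourNorm_conj_mem h hTV
        rw [← SetLike.mem_coe, hP.coe_fourGrp hodd] at hv
        simp only [Set.mem_insert_iff, Set.mem_singleton_iff] at hv
        simp only [← map_inv, ← map_mul] at hv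
        have hST := mul_ev (mul_ev hS hT) (inv_ev hS)
        simp only [SevenModel.six, Bool.or_eq_true, beq_iff_eq]
        rcases hv with hv | hv | hv | hv
        · exfalso
          apply hT1
          rw [map_mul, map_mul, map_inv] at hv
          exact conj_eq_one_iff.1 hv
        · rcases (eqPG hST hJ).1 hv with e | e <;> simp [e]
        · rcases (eqPG hST hY).1 hv with e | e <;> simp [e]
        · rcases (eqPG hST (mul_ev hJ hY)).1 hv with e | e <;> simp [e]
      rw [SevenModel.memB, Bool.and_eq_true]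
      refine ⟨hconj hJ hP.x1 (mem_fourGrp.2 ⟨Commute.refl _, hP.comm⟩),
        hconj hY hP.y1 (mem_fourGrp.2 ⟨hP.comm.symm, Commute.refl _⟩)⟩
    · intro h
      rw [SevenModel.memB, Bool.and_eq_true] at h
      refine hP.mem_norm hodd ?_ ?_ <;> simp only [← map_inv, ← map_mul]
      exacts [six_mem (mul_ev (mul_ev hS hJ) (inv_ev hS)) h.1, six_mem (mul_ev (mul_ev hS hY) (inv_ev hS)) h.2]
  -- reduce to the standard subgroup
  obtain ⟨x, y, hxy, rfl⟩ := eq_norm_of_perm hodd hX e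
  obtain ⟨g, hg1, hg2⟩ := hxy.conj 7 hodd hP
  refine Tri.of_conj g ?_
  rw [fourNorm_map_conj, hg1, hg2]
  obtain ⟨Y', hY'⟩ := lift dy
  obtain ⟨Z, hZ⟩ := lift dz
  obtain ⟨A, hA⟩ := lift da
  obtain ⟨C, hC⟩ := lift dc
  have back_ev : ∀ {u k : SevenModel.Mc} {U S : SL2F}, (ev7 u : M2) = U.1 → (ev7 k : M2) = S.1 →
      (ev7 (SevenModel.back u k) : M2) = (U⁻¹ * S * U : SL2F).1 :=
    fun hu hk => mul_ev (mul_ev (inv_ev hu) hk) hu
  have hgJ : g * x * g⁻¹ ∈ L := normal_pslRange.conj_mem _ hxy.hx g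
  refine ⟨slToPG Y', slToPG Z, slToPG A, slToPG C, slToPG_mem _, slToPG_mem _, (mem hA).2 ma, ?_, ?_,
    fun k hk0 hk1 hk2 => ?_⟩
  · simp only [← map_inv, ← map_mul]; exact (mem (back_ev hZ hC)).2 mc
  · simp only [← map_inv, ← map_mul]; exact (mem (back_ev hY' (mul_ev hA (inv_ev hC)))).2 mb
  have hle : fourNorm (slToPG J) (slToPG Y) ≤ L := by
    rw [← hg1, ← hg2, ← fourNorm_map_conj]
    rintro v ⟨u, hu, rfl⟩
    exact normal_pslRange.conj_mem _ (hX hu) g
  obtain ⟨S, rfl⟩ := exists_lift (hle hk0)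
  simp only [← map_inv, ← map_mul] at hk1 hk2
  choose e' he' using surj
  obtain ⟨m, hm⟩ : ∃ m : SevenModel.Mc, (ev7 m : M2) = S.1 :=
    ⟨(e' (S.1 0 0), e' (S.1 0 1), e' (S.1 1 0), e' (S.1 1 1)), by
      ext i j; fin_cases i <;> fin_cases j <;> simp [ev7, he']⟩
  have hd : SevenModel.dd m = 1 := by
    apply ZMod.castHom_injective F
    rw [map_one, ← ev7_dd, hm]
    exact S.2
  obtain ⟨a, b, c, d⟩ := m
  exact SevenModel.check a b c d hd ((mem hm).1 hk0) ((mem (back_ev hY' hm)).1 hk1)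
    ((mem (back_ev hZ (mul_ev (inv_ev hm) hA))).1 hk2)

end CfsgLib.CharsMore.BinaryPSL2
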