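import Cfsg.Agent.Lib.CharsMore.BinaryPSL2.Subfield

/-!
# The subfield groups for the field with nine elements
-/

set_option autoImplicit false
set_option linter.unusedSectionVars false

namespace CfsgLib.CharsMore.BinaryPSL2

open Matrix MulAction CfsgLib.PSL2 CfsgLib.Classical

namespace Nine

/-- Coordinates over `ZMod 3` with respect to `1, i`. -/
abbrev Co : Type := ZMod 3 × ZMod 3

/-- Coordinate matrices. -/
abbrev Mc : Type := Co × Co × Co × Co

/-- The product of coordinate pairs. -/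
def qm (a b : Co) : Co := (a.1 * b.1 - a.2 * b.2, a.1 * b.2 + a.2 * b.1)

/-- The product of coordinate matrices. -/
def mm : Mc → Mc → Mc
  | (a, b, c, d), (a', b', c', d') =>
    (qm a a' + qm b c', qm a b' + qm b d', qm c a' + qm d c', qm c b' + qm d d')

/-- The adjugate. -/
def adj : Mc → Mc
  | (a, b, c, d) => (d, -b, -c, a)

/-- The determinant. -/
def dd : Mc → Co
  | (a, b, c, d) => qm a d - qm b c

/-- All entries rational. -/
def ratl : Mc → Bool
  | (a, b, c, d) => a.2 == 0 && b.2 == 0 && c.2 == 0 && d.2 == 0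

/-- All entries rational multiples of `i`. -/
def imag : Mc → Bool
  | (a, b, c, d) => a.1 == 0 && b.1 == 0 && c.1 == 0 && d.1 == 0

/-- A rational coordinate matrix. -/
def embR (a b c d : ZMod 3) : Mc := ((a, 0), (b, 0), (c, 0), (d, 0))

/-- An imaginary coordinate matrix. -/
def embI (a b c d : ZMod 3) : Mc := ((0, a), (0, b), (0, c), (0, d))

/-- Conjugation into the standard position. -/
def back (y k : Mc) : Mc := mm (mm (adj y) k) y

def y1 : Mc := ((0, 0), (1, 1), (1, 2), (0, 0))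
def z1 : Mc := ((0, 0), (0, 1), (0, 1), (1, 0))
def a1 : Mc := ((0, 0), (1, 0), (2, 0), (0, 0))
def c1 : Mc := ((0, 1), (1, 0), (0, 0), (0, 2))
def y2 : Mc := ((0, 0), (0, 1), (0, 1), (1, 0))
def z2 : Mc := ((0, 0), (0, 1), (0, 1), (2, 0))
def a2 : Mc := ((0, 0), (0, 1), (0, 1), (0, 0))
def c2 : Mc := ((1, 0), (0, 1), (0, 2), (2, 0))

theorem check1 : (dd y1 = (1, 0) ∧ dd z1 = (1, 0) ∧ dd a1 = (1, 0) ∧ dd c1 = (1, 0)) ∧
    (ratl a1 ∧ ratl (back z1 c1) ∧ ratl (back y1 (mm a1 (adj c1)))) ∧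
    ∀ a b c d : ZMod 3, dd (embR a b c d) = (1, 0) → ratl (back y1 (embR a b c d)) →
      ratl (back z1 (mm (adj (embR a b c d)) a1)) → False := by
  decide +kernel

theorem check2 : (dd y2 = (1, 0) ∧ dd z2 = (1, 0) ∧ dd a2 = (1, 0) ∧ dd c2 = (1, 0)) ∧
    ((ratl a2 || imag a2) ∧ (ratl (back z2 c2) || imag (back z2 c2)) ∧
      (ratl (back y2 (mm a2 (adj c2))) || imag (back y2 (mm a2 (adj c2))))) ∧
    ∀ a b c d : ZMod 3, ∀ m ∈ [embR a b c d, embI a b c d], dd m = (1, 0) →
      (ratl (back y2 m) || imag (back y2 m)) →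
      (ratl (back z2 (mm (adj m) a2)) || imag (back z2 (mm (adj m) a2))) → False := by
  decide +kernel

end Nine

variable {F : Type*} [Field F] [Finite F] [CharP F 3]

local notation "SL2F" => Matrix.SpecialLinearGroup (Fin 2) F
local notation "M2" => Matrix (Fin 2) (Fin 2) F
local notation "PG" => Matrix.ProjGenLinGroup (Fin 2) F
local notation "L" => pslRange F

section Model

variable (i : F)

/-- The value of a coordinate pair. -/
def ev (a : Nine.Co) : F := ZMod.castHom (dvd_refl 3) F a.1 + ZMod.castHom (dvd_refl 3) F a.2 * i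

/-- The value of a coordinate matrix. -/
def evM : Nine.Mc → M2
  | (a, b, c, d) => !![ev i a, ev i b; ev i c, ev i d]

variable {i} (hi : i * i = -1)
include hi

theorem ev_qm (a b : Nine.Co) : ev i (Nine.qm a b) = ev i a * ev i b := by
  simp only [ev, Nine.qm, map_sub, map_add, map_mul]
  linear_combination (-(ZMod.castHom (dvd_refl 3) F a.2 * ZMod.castHom (dvd_refl 3) F b.2)) * hi

theorem evM_mm (m n : Nine.Mc) : evM i (Nine.mm m n) = evM i m * evM i n := by
  obtain ⟨a, b, c, d⟩ := m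
  obtain ⟨a', b', c', d'⟩ := n
  have hadd : ∀ x y : Nine.Co, ev i (x + y) = ev i x + ev i y := fun x y => by simp [ev]; ring
  simp only [Nine.mm, evM, hadd, ev_qm hi, Matrix.mul_fin_two]

theorem evM_adj (m : Nine.Mc) : evM i (Nine.adj m) = (evM i m).adjugate := by
  obtain ⟨a, b, c, d⟩ := m
  have hneg : ∀ x : Nine.Co, ev i (-x) = -ev i x := fun x => by simp [ev]; ring
  simp only [Nine.adj, evM, hneg, Matrix.adjugate_fin_two_of]

theorem evM_dd {m : Nine.Mc} (h : Nine.dd m = (1, 0)) : (evM i m).det = 1 := by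
  obtain ⟨a, b, c, d⟩ := m
  have hsub : ∀ x y : Nine.Co, ev i (x - y) = ev i x - ev i y := fun x y => by simp [ev]; ring
  have := congrArg (ev i) h
  simp only [Nine.dd, hsub, ev_qm hi] at this
  simp only [evM, Matrix.det_fin_two_of]
  rw [this]
  simp [ev]

/-- The two parts are independent. -/
theorem ev_eq {K : Subfield F} (hK : ∀ a : ZMod 3, ZMod.castHom (dvd_refl 3) F a ∈ K) (hiK : i ∉ K)
    (a : Nine.Co) : (ev i a ∈ K → a.2 = 0) ∧ ((∃ x ∈ K, ev i a = x * i) → a.1 = 0) := by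
  have hinj : Function.Injective (ZMod.castHom (dvd_refl 3) F) := ZMod.castHom_injective F
  have hi0 : i ≠ 0 := fun h => hiK (h ▸ K.zero_mem)
  constructor
  · intro h
    by_contra ha
    have ha' : ZMod.castHom (dvd_refl 3) F a.2 ≠ 0 := fun e => ha (hinj (e.trans (map_zero _).symm))
    refine hiK ?_
    have := K.div_mem (K.sub_mem h (hK a.1)) (hK a.2)
    rwa [ev, add_sub_cancel_left, mul_div_cancel_left₀ _ ha'] at this
  · rintro ⟨x, hx, h⟩
    by_contra ha
    have ha' : ZMod.castHom (dvd_refl 3) F a.1 ≠ 0 := fun e => ha (hinj (e.trans (map_zero _).symm))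
    refine hiK ?_
    have hxa : x - ZMod.castHom (dvd_refl 3) F a.2 ≠ 0 := fun e => ha' (by
      rw [ev] at h; linear_combination h + i * e)
    have := K.div_mem (hK a.1) (K.sub_mem hx (hK a.2))
    rwa [show ZMod.castHom (dvd_refl 3) F a.1 = (x - ZMod.castHom (dvd_refl 3) F a.2) * i by
      rw [ev] at h; linear_combination h, mul_div_cancel_left₀ _ hxa] at this

end Model

/-- Lifts of the elements of the two subfield groups. -/
theorem subfield_nine_case (h9 : Nat.card F = 9) {K : Subfield F} (hK3 : Nat.card K = 3) {X : Subgroup PG}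
    (hX : X ≤ L) (hcase : X = (ProjGenLinGroup.map (n := Fin 2) K.subtype).range ∨
      X = (pslRange K).map (ProjGenLinGroup.map (n := Fin 2) K.subtype)) : Tri L X := by
  classical
  haveI := Fintype.ofFinite F
  haveI := Fintype.ofFinite K
  obtain ⟨i, hi⟩ : ∃ i : F, i * i = -1 := by
    have h : IsSquare (-1 : F) := by
      rw [FiniteField.isSquare_neg_one_iff, ← Nat.card_eq_fintype_card, h9]; decide
    obtain ⟨i, hi⟩ := h
    exact ⟨i, hi.symm⟩
  have hcast : ∀ a : ZMod 3, ZMod.castHom (dvd_refl 3) F a ∈ K := fun a => by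
    obtain ⟨n, rfl⟩ := ZMod.natCast_zmod_surjective a
    rw [map_natCast]
    exact natCast_mem K n
  have hsurj : ∀ x ∈ K, ∃ a : ZMod 3, x = ZMod.castHom (dvd_refl 3) F a := by
    intro x hx
    have hb : Function.Bijective (fun a : ZMod 3 => (⟨_, hcast a⟩ : K)) := by
      refine (Fintype.bijective_iff_injective_and_card _).2
        ⟨fun a b h => ZMod.castHom_injective F (congrArg Subtype.val h), ?_⟩
      rw [ZMod.card, ← Nat.card_eq_fintype_card, hK3]
    obtain ⟨a, ha⟩ := hb.2 ⟨x, hx⟩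
    exact ⟨a, (congrArg Subtype.val ha).symm⟩
  have hiK : i ∉ K := by
    intro h
    obtain ⟨a, ha⟩ := hsurj i h
    rw [ha, ← map_mul, ← map_one (ZMod.castHom (dvd_refl 3) F), ← map_neg] at hi
    have hno : ∀ a : ZMod 3, a * a ≠ -1 := by decide
    exact hno a (ZMod.castHom_injective F hi)
  have h1 : ∀ x : Fin 2 → Fin 2 → ZMod 3, evM i (Nine.embR (x 0 0) (x 0 1) (x 1 0) (x 1 1)) =
      Matrix.of fun u v => ZMod.castHom (dvd_refl 3) F (x u v) := fun x => by
    ext u v; fin_cases u <;> fin_cases v <;> simp [Nine.embR, evM, ev]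
  have h2 : ∀ x : Fin 2 → Fin 2 → ZMod 3, evM i (Nine.embI (x 0 0) (x 0 1) (x 1 0) (x 1 1)) =
      i • Matrix.of fun u v => ZMod.castHom (dvd_refl 3) F (x u v) := fun x => by
    ext u v; fin_cases u <;> fin_cases v <;> simp [Nine.embI, evM, ev, mul_comm]
  have hinj : ∀ m : Nine.Mc, Nine.dd m = (1, 0) ↔ (evM i m).det = 1 := fun m => by
    refine ⟨evM_dd hi, fun h => ?_⟩
    obtain ⟨a, b, c, d⟩ := m
    have hsub : ∀ x y : Nine.Co, ev i (x - y) = ev i x - ev i y := fun x y => by simp [ev]; ring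
    have e : ev i (Nine.dd (a, b, c, d) - (1, 0)) = 0 := by
      rw [hsub]
      simp only [evM, Matrix.det_fin_two_of] at h
      simp only [Nine.dd, hsub, ev_qm hi, h]
      simp [ev]
    obtain ⟨e2, e1⟩ := ev_eq hi hcast hiK (Nine.dd (a, b, c, d) - (1, 0))
    exact sub_eq_zero.1 (Prod.ext (e1 ⟨0, K.zero_mem, by rw [e, zero_mul]⟩) (e2 (e ▸ K.zero_mem)))
  have back_eq : ∀ {y k : Nine.Mc} {Y S : SL2F}, evM i y = Y.1 → evM i k = S.1 →
      evM i (Nine.back y k) = (Y⁻¹ * S * Y : SL2F).1 := fun {y k Y S} hy hk => by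
    rw [Nine.back, evM_mm hi, evM_mm hi, evM_adj hi, hy, hk, Matrix.SpecialLinearGroup.coe_mul,
      Matrix.SpecialLinearGroup.coe_mul, Matrix.SpecialLinearGroup.coe_inv]
  have lift : ∀ {m : Nine.Mc}, Nine.dd m = (1, 0) → ∃ S : SL2F, evM i m = S.1 := fun hm =>
    ⟨⟨_, evM_dd hi hm⟩, rfl⟩
  -- membership of rational and imaginary matrices
  have memR : ∀ (m : Nine.Mc) (S : SL2F), evM i m = S.1 → Nine.ratl m → slToPG S ∈ X := by
    rintro ⟨a, b, c, d⟩ S hS hm
    simp only [Nine.ratl, Bool.and_eq_true, beq_iff_eq] at hm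
    obtain ⟨⟨⟨ha, hb⟩, hc⟩, hd⟩ := hm
    have hent : ∀ u v, S.1 u v ∈ K := fun u v => by
      rw [← hS]
      fin_cases u <;> fin_cases v <;> simp [evM, ev, ha, hb, hc, hd] <;> exact hcast _
    let T : Matrix.SpecialLinearGroup (Fin 2) K := ⟨Matrix.of fun u v => ⟨S.1 u v, hent u v⟩, by
      apply Subtype.ext
      simp [Matrix.det_fin_two]
      have := S.2
      rw [Matrix.det_fin_two] at this
      exact this⟩
    have he : slToPG S = ProjGenLinGroup.map K.subtype (slToPG T) := by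
      rw [slToPG_apply, slToPG_apply, ProjGenLinGroup.map_mk]
      refine congrArg _ (Units.ext ?_)
      ext u v
      simp [T, Matrix.SpecialLinearGroup.toGL]
    rw [he]
    rcases hcase with rfl | rfl
    · exact ⟨_, rfl⟩
    · exact Subgroup.mem_map_of_mem _ (slToPG_mem T)
  rcases hcase with hXr | hXp
  · -- the image of the whole of `PGL₂(K)`
    have memI : ∀ (m : Nine.Mc) (S : SL2F), evM i m = S.1 → Nine.imag m → slToPG S ∈ X := by
      rintro ⟨a, b, c, d⟩ S hS hm
      simp only [Nine.imag, Bool.and_eq_true, beq_iff_eq] at hm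
      obtain ⟨⟨⟨ha, hb⟩, hc⟩, hd⟩ := hm
      let T : Matrix (Fin 2) (Fin 2) K := !![⟨_, hcast a.2⟩, ⟨_, hcast b.2⟩; ⟨_, hcast c.2⟩, ⟨_, hcast d.2⟩]
      have hT : T.map K.subtype * Matrix.scalar (Fin 2) i = S.1 := by
        rw [← hS]
        ext u v
        fin_cases u <;> fin_cases v <;> simp [T, evM, ev, ha, hb, hc, hd, Matrix.mul_apply]
      have hTd : T.det ≠ 0 := by
        intro h
        have h' := congrArg K.subtype h
        rw [RingHom.map_det, RingHom.mapMatrix_apply, map_zero] at h'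
        have := congrArg Matrix.det hT
        rw [Matrix.det_mul, h', zero_mul, S.2] at this
        exact zero_ne_one this
      have hi0 : i ≠ 0 := fun h => hiK (h ▸ K.zero_mem)
      have he : slToPG S = ProjGenLinGroup.map K.subtype (ProjGenLinGroup.mk (GeneralLinearGroup.mkOfDetNeZero T hTd)) := by
        rw [slToPG_apply, ProjGenLinGroup.map_mk, eq_comm, ProjGenLinGroup.mk_eq_mk_iff]
        refine ⟨Units.mk0 i hi0, Units.ext ?_⟩
        ext u v
        have h := congrFun (congrFun hT u) v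
        simpa [GeneralLinearGroup.mkOfDetNeZero, Matrix.SpecialLinearGroup.toGL, Matrix.mul_diagonal,
          Matrix.scalar_apply] using h
      rw [he, hXr]
      exact ⟨_, rfl⟩
    have memX : ∀ (m : Nine.Mc) (S : SL2F), evM i m = S.1 → (Nine.ratl m || Nine.imag m) → slToPG S ∈ X :=
      fun m S hS hm => by
        rcases Bool.or_eq_true_iff.1 hm with h | h
        exacts [memR m S hS h, memI m S hS h]
    have conv : ∀ (m : Nine.Mc) (S : SL2F), evM i m = S.1 → slToPG S ∈ X → (Nine.ratl m || Nine.imag m) = true := by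
      intro m S hS hm
      rw [hXr] at hm
      obtain ⟨g, hg⟩ := hm
      induction g using Matrix.ProjGenLinGroup.induction_on with | mk g => ?_
      rw [slToPG_apply, ProjGenLinGroup.map_mk, ProjGenLinGroup.mk_eq_mk_iff] at hg
      obtain ⟨u, hu⟩ := hg
      set T : M2 := (GeneralLinearGroup.map K.subtype g).1 with hT
      have hTK : ∀ a b, T a b ∈ K := fun a b => by simp [hT]
      have hST : ∀ a b, S.1 a b = T a b * (u : F) := by
        intro a b
        have := congrArg (fun M : GL (Fin 2) F => M.1 a b) hu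
        simpa [hT, Matrix.SpecialLinearGroup.toGL, Matrix.mul_diagonal, Matrix.scalar_apply] using this.symm
      have hd := S.2
      rw [Matrix.det_fin_two, hST, hST, hST, hST] at hd
      obtain ⟨e, he⟩ := hsurj _ (K.sub_mem (K.mul_mem (hTK 0 0) (hTK 1 1)) (K.mul_mem (hTK 0 1) (hTK 1 0)))
      have hue : (u : F) * (u : F) * ZMod.castHom (dvd_refl 3) F e = 1 := by rw [← he]; linear_combination hd
      obtain ⟨a, b, c, d⟩ := m
      have hev : ev i a = S.1 0 0 ∧ ev i b = S.1 0 1 ∧ ev i c = S.1 1 0 ∧ ev i d = S.1 1 1 := by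
        rw [← hS]; simp [evM]
      obtain ⟨ea, eb, ec, ed⟩ := hev
      rw [hST] at ea eb ec ed
      have hi0 : i ≠ 0 := fun h => hiK (h ▸ K.zero_mem)
      rcases ((by decide : ∀ e : ZMod 3, e = 0 ∨ e = 1 ∨ e = -1) e) with rfl | rfl | rfl
      · rw [map_zero, mul_zero] at hue; exact absurd hue zero_ne_one
      · rw [map_one, mul_one] at hue
        have huK : (u : F) ∈ K := by
          rcases mul_self_eq_one_iff.1 hue with h | h <;> rw [h]
          exacts [K.one_mem, K.neg_mem K.one_mem]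
        refine Bool.or_eq_true_iff.2 (.inl ?_)
        simp only [Nine.ratl, Bool.and_eq_true, beq_iff_eq]
        refine ⟨⟨⟨?_, ?_⟩, ?_⟩, ?_⟩ <;> refine (ev_eq hi hcast hiK _).1 ?_
        exacts [ea ▸ K.mul_mem (hTK _ _) huK, eb ▸ K.mul_mem (hTK _ _) huK, ec ▸ K.mul_mem (hTK _ _) huK,
          ed ▸ K.mul_mem (hTK _ _) huK]
      · rw [map_neg, map_one, mul_neg, mul_one, neg_eq_iff_eq_neg, ← hi] at hue
        obtain ⟨w, hw, huw⟩ : ∃ w ∈ K, (u : F) = w * i := by
          rcases mul_self_eq_mul_self_iff.1 hue with h | h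
          · exact ⟨1, K.one_mem, by rw [h, one_mul]⟩
          · exact ⟨-1, K.neg_mem K.one_mem, by rw [h, neg_one_mul]⟩
        refine Bool.or_eq_true_iff.2 (.inr ?_)
        simp only [Nine.imag, Bool.and_eq_true, beq_iff_eq]
        refine ⟨⟨⟨?_, ?_⟩, ?_⟩, ?_⟩ <;> refine (ev_eq hi hcast hiK _).2 ?_
        exacts [⟨_, K.mul_mem (hTK 0 0) hw, by rw [ea, huw, mul_assoc]⟩,
          ⟨_, K.mul_mem (hTK 0 1) hw, by rw [eb, huw, mul_assoc]⟩,
          ⟨_, K.mul_mem (hTK 1 0) hw, by rw [ec, huw, mul_assoc]⟩,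
          ⟨_, K.mul_mem (hTK 1 1) hw, by rw [ed, huw, mul_assoc]⟩]
    obtain ⟨⟨dy, dz, da, dc⟩, ⟨ha, hc, hb⟩, hk⟩ := Nine.check2
    obtain ⟨Y, hY⟩ := lift dy
    obtain ⟨Z, hZ⟩ := lift dz
    obtain ⟨A, hA⟩ := lift da
    obtain ⟨C, hC⟩ := lift dc
    have hAC : evM i (Nine.mm Nine.a2 (Nine.adj Nine.c2)) = (A * C⁻¹ : SL2F).1 := by
      rw [evM_mm hi, evM_adj hi, hA, hC, Matrix.SpecialLinearGroup.coe_mul, Matrix.SpecialLinearGroup.coe_inv]
    refine ⟨slToPG Y, slToPG Z, slToPG A, slToPG C, slToPG_mem _, slToPG_mem _, memX _ A hA ha, ?_, ?_,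
      fun k hk0 hk1 hk2 => ?_⟩
    · rw [← map_inv, ← map_mul, ← map_mul]; exact memX _ _ (back_eq hZ hC) hc
    · simp only [← map_inv, ← map_mul]; exact memX _ _ (back_eq hY hAC) hb
    obtain ⟨S, rfl⟩ := exists_lift (hX hk0)
    rw [← map_inv, ← map_mul, ← map_mul] at hk1
    simp only [← map_inv, ← map_mul] at hk2
    -- coordinates of `S`
    have hk0' := hk0
    rw [hXr] at hk0'
    obtain ⟨g, hg⟩ := hk0'
    induction g using Matrix.ProjGenLinGroup.induction_on with | mk g => ?_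
    rw [slToPG_apply, ProjGenLinGroup.map_mk, ProjGenLinGroup.mk_eq_mk_iff] at hg
    obtain ⟨u, hu⟩ := hg
    have hu' : ∀ a b, S.1 a b = (GeneralLinearGroup.map K.subtype g).1 a b * (u : F) := by
      intro a b
      have := congrArg (fun M : GL (Fin 2) F => M.1 a b) hu
      simpa [Matrix.SpecialLinearGroup.toGL, Matrix.mul_diagonal, Matrix.scalar_apply] using this.symm
    obtain ⟨m, hm, hmd⟩ : ∃ m, (∃ a b c d, m ∈ [Nine.embR a b c d, Nine.embI a b c d]) ∧ evM i m = S.1 := by
      have hTK : ∀ a b, (GeneralLinearGroup.map K.subtype g).1 a b ∈ K := fun a b => by simp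
      choose x hx using fun a b => hsurj _ (hTK a b)
      have hd := S.2
      rw [Matrix.det_fin_two, hu', hu', hu', hu', hx, hx, hx, hx] at hd
      have hu2 : ∃ e : ZMod 3, (u : F) * u * ZMod.castHom (dvd_refl 3) F e = 1 :=
        ⟨x 0 0 * x 1 1 - x 0 1 * x 1 0, by rw [map_sub, map_mul, map_mul]; linear_combination hd⟩
      obtain ⟨e, he⟩ := hu2
      rcases ((by decide : ∀ e : ZMod 3, e = 0 ∨ e = 1 ∨ e = -1) e) with rfl | rfl | rfl
      · rw [map_zero, mul_zero] at he; exact absurd he zero_ne_one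
      · rw [map_one, mul_one] at he
        obtain ⟨e', he'⟩ := hsurj (u : F) (by
          rcases mul_self_eq_one_iff.1 he with h | h <;> rw [h]
          exacts [K.one_mem, K.neg_mem K.one_mem])
        refine ⟨_, ⟨x 0 0 * e', x 0 1 * e', x 1 0 * e', x 1 1 * e', List.mem_cons_self⟩, ?_⟩
        rw [h1 (fun a b => x a b * e')]
        ext a b
        rw [hu', hx, he', Matrix.of_apply, map_mul]
      · rw [map_neg, map_one, mul_neg, mul_one, neg_eq_iff_eq_neg, ← hi] at he
        obtain ⟨e', he'⟩ : ∃ e' : ZMod 3, (u : F) = ZMod.castHom (dvd_refl 3) F e' * i := by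
          rcases mul_self_eq_mul_self_iff.1 he with h | h
          · exact ⟨1, by rw [h, map_one, one_mul]⟩
          · exact ⟨-1, by rw [h, map_neg, map_one, neg_one_mul]⟩
        refine ⟨_, ⟨x 0 0 * e', x 0 1 * e', x 1 0 * e', x 1 1 * e', List.mem_cons_of_mem _ List.mem_cons_self⟩, ?_⟩
        rw [h2 (fun a b => x a b * e')]
        ext a b
        rw [hu', hx, he', Matrix.smul_apply, Matrix.of_apply, map_mul, smul_eq_mul]
        ring
    obtain ⟨a, b, c, d, hm⟩ := hm
    have hkA : evM i (Nine.mm (Nine.adj m) Nine.a2) = (S⁻¹ * A : SL2F).1 := by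
      rw [evM_mm hi, evM_adj hi, hmd, hA, Matrix.SpecialLinearGroup.coe_mul, Matrix.SpecialLinearGroup.coe_inv]
    exact hk a b c d m hm ((hinj m).2 (by rw [hmd]; exact S.2)) (conv _ _ (back_eq hY hmd) hk1)
      (conv _ _ (back_eq hZ hkA) hk2)
  · -- the image of `PSL₂(K)`
    have lifts : ∀ S : SL2F, slToPG S ∈ X → ∀ a b, S.1 a b ∈ K := by
      intro S hS a b
      rw [hXp] at hS
      obtain ⟨g, hg, hgS⟩ := hS
      obtain ⟨T, rfl⟩ := exists_lift hg
      have h' : slToPG (Matrix.SpecialLinearGroup.map K.subtype T) = slToPG S := by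
        rw [← hgS, slToPG_apply, slToPG_apply, ProjGenLinGroup.map_mk]
        refine congrArg _ (Units.ext ?_)
        rfl
      rcases slToPG_eq_iff.1 h'.symm with e | e <;> rw [e]
      · simp
      · simp
    have conv : ∀ (m : Nine.Mc) (S : SL2F), evM i m = S.1 → slToPG S ∈ X → Nine.ratl m = true := by
      rintro ⟨a, b, c, d⟩ S hS hm
      have h := lifts S hm
      simp only [Nine.ratl, Bool.and_eq_true, beq_iff_eq]
      refine ⟨⟨⟨?_, ?_⟩, ?_⟩, ?_⟩ <;> refine (ev_eq hi hcast hiK _).1 ?_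
      · have := h 0 0; rw [← hS] at this; simpa [evM] using this
      · have := h 0 1; rw [← hS] at this; simpa [evM] using this
      · have := h 1 0; rw [← hS] at this; simpa [evM] using this
      · have := h 1 1; rw [← hS] at this; simpa [evM] using this
    obtain ⟨⟨dy, dz, da, dc⟩, ⟨ha, hc, hb⟩, hk⟩ := Nine.check1
    obtain ⟨Y, hY⟩ := lift dy
    obtain ⟨Z, hZ⟩ := lift dz
    obtain ⟨A, hA⟩ := lift da
    obtain ⟨C, hC⟩ := lift dc
    have hAC : evM i (Nine.mm Nine.a1 (Nine.adj Nine.c1)) = (A * C⁻¹ : SL2F).1 := by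
      rw [evM_mm hi, evM_adj hi, hA, hC, Matrix.SpecialLinearGroup.coe_mul, Matrix.SpecialLinearGroup.coe_inv]
    refine ⟨slToPG Y, slToPG Z, slToPG A, slToPG C, slToPG_mem _, slToPG_mem _, memR _ A hA ha, ?_, ?_,
      fun k hk0 hk1 hk2 => ?_⟩
    · rw [← map_inv, ← map_mul, ← map_mul]; exact memR _ _ (back_eq hZ hC) hc
    · simp only [← map_inv, ← map_mul]; exact memR _ _ (back_eq hY hAC) hb
    obtain ⟨S, rfl⟩ := exists_lift (hX hk0)
    rw [← map_inv, ← map_mul, ← map_mul] at hk1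
    simp only [← map_inv, ← map_mul] at hk2
    choose x hx using fun a b => hsurj _ (lifts S hk0 a b)
    have hmd : evM i (Nine.embR (x 0 0) (x 0 1) (x 1 0) (x 1 1)) = S.1 := by
      rw [h1 x]; ext a b; exact (hx a b).symm
    have hkA : evM i (Nine.mm (Nine.adj (Nine.embR (x 0 0) (x 0 1) (x 1 0) (x 1 1))) Nine.a1) =
        (S⁻¹ * A : SL2F).1 := by
      rw [evM_mm hi, evM_adj hi, hmd, hA, Matrix.SpecialLinearGroup.coe_mul, Matrix.SpecialLinearGroup.coe_inv]
    exact hk _ _ _ _ ((hinj _).2 (by rw [hmd]; exact S.2)) (conv _ _ (back_eq hY hmd) hk1)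
      (conv _ _ (back_eq hZ hkA) hk2)

end CfsgLib.CharsMore.BinaryPSL2
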