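import Cfsg.Agent.Lib.CharsMore.BinaryPSL2.BorelCases
import Cfsg.Agent.Lib.CharsMore.BinaryPSL2.Subfield9
import Cfsg.Agent.Lib.CharsMore.BinaryPSL2.Exceptional
import Cfsg.Agent.Lib.CharsMore.BinaryPSL2.Seven
import Cfsg.Agent.Lib.CharsMore.BinaryPSL2.IndexSix
import Cfsg.Agent.Lib.CharsMore.BinaryPSL2.Converse
import Cfsg.Agent.Lib.Classical.PSLSimple

/-!
# The binary coset actions of `PSL₂(q)`
-/

set_option autoImplicit false
set_option linter.unusedSectionVars false

namespace CfsgLib.CharsMore.BinaryPSL2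

open Matrix MulAction CfsgLib.PSL2 CfsgLib.Classical

variable {F : Type*} [Field F] [Finite F]

local notation "PG" => Matrix.ProjGenLinGroup (Fin 2) F
local notation "SL2F" => Matrix.SpecialLinearGroup (Fin 2) F
local notation "PS" => Matrix.ProjectiveSpecialLinearGroup (Fin 2) F
local notation "L" => pslRange F

theorem map_affP_one (K : Subfield F) {x : F} (hx : x ∈ K) :
    ProjGenLinGroup.map (n := Fin 2) K.subtype (affP (1 : Kˣ) (⟨x, hx⟩ : K)) = affP (1 : Fˣ) x := by
  rw [affP, affP, ProjGenLinGroup.map_mk]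
  refine congrArg _ (Units.ext ?_)
  ext i j
  fin_cases i <;> fin_cases j <;> simp [affMat_val]

/-- The witnesses in all cases. -/
theorem witness (p : ℕ) [Fact p.Prime] [CharP F p] (hq : 3 < Nat.card F) (h5 : Nat.card F ≠ 5) {X : Subgroup PG}
    (hX : X ≤ L) (hne : X ≠ L) (hbot : X ≠ ⊥) (hB : ¬ (Even (Nat.card F) ∧ Nat.card X = Nat.card F))
    (hC : ¬ ((∃ k, Odd k ∧ Nat.card F = 2 ^ k) ∧ Nat.card X = 3)) :
    Tri L X ∨ Quad L X ∨ Sub4 L X ∨ (Nat.card F = 9 ∧ Nat.card X = 60) := by
  classical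
  obtain ⟨n, hn, hcardF⟩ := card_eq_charPow (F := F) (p := p)
  have hodd : ∀ m, Nat.card X = m → 2 ∣ m → ¬ p ∣ Nat.card X → Odd (Nat.card F) := by
    intro m hm hdvd hp
    rw [← Nat.not_even_iff_odd]
    intro he
    rw [(p_eq_two_iff (F := F) p).2 he, hm] at hp
    exact hp hdvd
  cases geoCase p X with
  | borel x hx hp =>
    rcases borel_case hX hx hp hB with h | h
    exacts [.inl h, .inr (.inl h)]
  | pair a b hab hle hgen =>
    rcases hgen with ⟨g, hgX, hg1, ga, gb⟩ | h
    · exact .inl (pair_case hq h5 hX hab hle hgX hg1 ga gb hC)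
    · exact absurd h hbot
  | tetra hp iso =>
    obtain ⟨e⟩ := iso
    have hc : Nat.card X = 12 := (Nat.card_congr e.toEquiv).trans card_alt_four
    rcases tetra_case p hq h5 (hodd _ hc (by norm_num) hp) hX e.symm with h | h
    exacts [.inl h, .inr (.inr (.inl h))]
  | octa hp iso =>
    obtain ⟨e⟩ := iso
    by_cases h7 : Nat.card F = 7
    · have hp7 : p = 7 := by
        have : p ∣ 7 := h7 ▸ hcardF ▸ dvd_pow_self p (by omega)
        exact (Nat.prime_dvd_prime_iff_eq Fact.out (by norm_num)).1 this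
      subst hp7
      exact .inl (octa_seven h7 hX e)
    · exact .inr (.inr (.inl (octa_case p hq h5 h7 hX hp e.symm)))
  | icosa hp iso =>
    obtain ⟨e⟩ := iso
    by_cases h9 : Nat.card F = 9
    · exact .inr (.inr (.inr ⟨h9, (Nat.card_congr e.toEquiv).trans card_alt_five⟩))
    · exact .inr (.inr (.inl (icosa_case p hq h9 hX hp e.symm)))
  | subfield K k hle hcard =>
    refine .inl (Tri.of_conj k⁻¹ ?_)
    set Y := X.map (MulAut.conj k⁻¹).toMonoidHom with hY
    set φ := ProjGenLinGroup.map (n := Fin 2) K.subtype with hφ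
    have hφi : Function.Injective φ := map_subtype_injective K.subtype
    have hYL : Y ≤ L := by
      rintro _ ⟨u, hu, rfl⟩
      exact normal_pslRange.conj_mem _ (hX hu) k⁻¹
    have hYK : Y ≤ φ.range := by
      rintro _ ⟨u, hu, rfl⟩
      obtain ⟨v, rfl⟩ := hle hu
      exact ⟨v, by simp [hφ]; group⟩
    have hcY : Nat.card Y = Nat.card X := Subgroup.card_map_of_injective (MulAut.conj k⁻¹).injective
    have hmc : (Y.comap φ).map φ = Y := Subgroup.map_comap_eq_self hYK
    have hcM : Nat.card (Y.comap φ) = Nat.card X := by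
      rw [← hcY]
      conv_rhs => rw [← hmc]
      exact (Subgroup.card_map_of_injective hφi).symm
    rw [← hcM] at hcard
    have hK : K ≠ ⊤ := by
      intro hKtop
      have h1 : Nat.card K = Nat.card F := by subst hKtop; exact Nat.card_congr Subfield.topEquiv.toEquiv
      rw [card_pgl_two h1, hcM] at hcard
      have h3 := card_pslRange_mul (F := F)
      have h4 : Nat.card X < Nat.card L := by
        refine lt_of_le_of_ne (Subgroup.card_le_of_le hX) fun e => hne ?_
        exact Subgroup.eq_of_le_of_card_ge hX e.ge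
      rcases hcard with h2 | ⟨ho, h2⟩
      · have : Nat.card L ≤ Nat.gcd 2 (Nat.card F - 1) * Nat.card L :=
          Nat.le_mul_of_pos_left _ (Nat.gcd_pos_of_pos_left _ two_pos)
        omega
      · rw [h1] at ho
        rw [gcd_two_card_sub_one_of_odd ho] at h3
        omega
    obtain ⟨hcase, htr⟩ : (Y = φ.range ∨ Y = (pslRange K).map φ) ∧ ∀ x ∈ K, affP (1 : Fˣ) x ∈ Y := by
      rcases half_pgl _ hcard with h | ⟨-, h⟩
      · rw [h, ← MonoidHom.range_eq_map] at hmc
        exact ⟨.inl hmc.symm, fun x hx => hmc ▸ ⟨_, map_affP_one K hx⟩⟩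
      · rw [h] at hmc
        refine ⟨.inr hmc.symm, fun x hx => hmc ▸ ?_⟩
        rw [← map_affP_one K hx]
        exact Subgroup.mem_map_of_mem _ (trans_mem (⟨x, hx⟩ : K))
    by_cases h9 : Nat.card F = 9 ∧ Nat.card K = 3
    · have hp3 : p = 3 := by
        have : p ∣ 3 := by
          have h : p ∣ 3 ^ 2 := by rw [show (3 : ℕ) ^ 2 = 9 by norm_num, ← h9.1, hcardF]; exact dvd_pow_self p (by omega)
          exact (Fact.out : p.Prime).dvd_of_dvd_pow h
        exact (Nat.prime_dvd_prime_iff_eq Fact.out Nat.prime_three).1 this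
      subst hp3
      exact subfield_nine_case h9.1 h9.2 hYL hcase
    · obtain ⟨r, t, hr, ht, hrs, hts, x, hx, he⟩ := exists_dilations hK h9
      exact subfield_dilation_case hYK htr hr ht hrs hts hx he

theorem card_PS : Nat.gcd 2 (Nat.card F - 1) * Nat.card PS = (Nat.card F + 1) * (Nat.card F * (Nat.card F - 1)) := by
  rw [← card_pslRange_mul, pslRange,
    Nat.card_congr (MonoidHom.ofInjective ProjectiveSpecialLinearGroup.toPGL_injective).toEquiv]

/-- Binary actions come from the three exceptions. -/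
theorem exceptions_of_binary (hq : 3 < Nat.card F) (h5 : Nat.card F ≠ 5) {H : Subgroup PS} (hH : H ≠ ⊤)
    (hbin : IsBinary PS H) :
    H = ⊥ ∨ (Even (Nat.card F) ∧ Nat.card H = Nat.card F) ∨
      ((∃ k, Odd k ∧ Nat.card F = 2 ^ k) ∧ Nat.card H = 3) := by
  obtain ⟨p, hp⟩ := CharP.exists F
  haveI : Fact p.Prime := ⟨CharP.char_is_prime F p⟩
  by_contra hcon
  push Not at hcon
  obtain ⟨h1, h2, h3⟩ := hcon
  set ι := ProjectiveSpecialLinearGroup.toPGL (n := Fin 2) (R := F) with hι
  have hinj : Function.Injective ι := ProjectiveSpecialLinearGroup.toPGL_injective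
  have hc : Nat.card (H.map ι) = Nat.card H := Subgroup.card_map_of_injective hinj
  have hw := witness p hq h5 (X := H.map ι) (fun u hu => by obtain ⟨v, -, rfl⟩ := hu; exact ⟨v, rfl⟩)
    (fun h => hH (Subgroup.map_injective hinj (h.trans (by rw [pslRange, hι, MonoidHom.range_eq_map]))))
    (fun h => h1 ((Subgroup.map_eq_bot_iff_of_injective _ hinj).1 h))
    (fun h => h2 h.1 (hc ▸ h.2)) (fun h => h3 h.1 (hc ▸ h.2))
  rcases hw with h | h | h | ⟨h9, h60⟩
  · exact not_binary_of_tri_top (Tri.of_map hinj h) hbin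
  · exact not_binary_of_quad_top (Quad.of_map hinj h) hbin
  · exact not_binary_of_sub4_top (Sub4.of_map hinj h) hbin
  · haveI : IsSimpleGroup PS := isSimpleGroup_PSL_fin 2 le_rfl (fun _ => hq)
    haveI : Finite PS := Finite.of_injective _ hinj
    have hcG : Nat.card PS = 360 := by
      have := card_PS (F := F)
      rw [h9] at this
      norm_num at this
      omega
    refine not_binary_index_six hcG ?_ hbin
    have := H.card_mul_index
    rw [hcG, ← hc, h60] at this
    omega

theorem no_root (k : ℕ) (hk : Odd k) (hq : Nat.card F = 2 ^ k) [CharP F 2] (x : F) : x * x ≠ x + 1 := by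
  intro h
  have h2 : (2 : F) = 0 := CharP.cast_eq_zero F 2
  have hx0 : x ≠ 0 := by rintro rfl; simp at h
  have h3 : x ^ 3 = 1 := by linear_combination (x + 1) * h + x * h2
  have hx1 : x ≠ 1 := by rintro rfl; simp at h
  have hu : orderOf (Units.mk0 x hx0) = 3 := by
    haveI : Fact (Nat.Prime 3) := ⟨Nat.prime_three⟩
    refine orderOf_eq_prime (Units.ext (by simpa using h3)) fun e => hx1 (by simpa using congrArg Units.val e)
  have hd := orderOf_dvd_natCard (Units.mk0 x hx0)
  rw [hu, Nat.card_units, hq] at hd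
  obtain ⟨j, rfl⟩ := hk
  have : 2 ^ (2 * j + 1) % 3 = 2 := by
    rw [pow_succ, pow_mul, Nat.mul_mod, Nat.pow_mod]; norm_num
  generalize 2 ^ (2 * j + 1) = N at hd this
  omega

theorem mk_bijective_of_two [CharP F 2] :
    Function.Bijective (QuotientGroup.mk' (Subgroup.center SL2F) : SL2F →* PS) := by
  refine ⟨(injective_iff_map_eq_one _).2 fun a ha => ?_, QuotientGroup.mk'_surjective _⟩
  rw [QuotientGroup.mk'_apply, QuotientGroup.eq_one_iff, Matrix.SpecialLinearGroup.mem_center_iff] at ha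
  obtain ⟨r, hr, hra⟩ := ha
  rw [Fintype.card_fin] at hr
  have h2 : (2 : F) = 0 := CharP.cast_eq_zero F 2
  have hr1 : r = 1 := sub_eq_zero.1 (pow_eq_zero_iff two_ne_zero |>.1
    (show (r - 1) ^ 2 = 0 by linear_combination hr + (1 - r) * h2))
  exact Subtype.ext (by rw [← hra, hr1, map_one]; rfl)

/-- The exceptions are binary. -/
theorem binary_sylow {k : ℕ} (hk : Nat.card F = 2 ^ k) (P : Sylow 2 PS) : IsBinary PS (P : Subgroup PS) := by
  haveI : Fact (Nat.Prime 2) := ⟨Nat.prime_two⟩
  haveI := Fintype.ofFinite F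
  haveI : CharP F 2 := charP_of_card_eq_prime_pow (f := k) (by rwa [← Nat.card_eq_fintype_card])
  obtain ⟨hi, hs⟩ := mk_bijective_of_two (F := F)
  refine IsBinary.of_surjective hs ?_
  obtain ⟨v, hv, hPv⟩ := sylow_two_eq_vecStab hk
    (P.comapOfInjective _ hi (by rw [MonoidHom.range_eq_top.2 hs]; exact le_top))
  rw [Sylow.coe_comapOfInjective] at hPv
  rw [hPv]
  exact isBinary_vecStab hv

theorem binary_three {k : ℕ} (hodd : Odd k) (hk : Nat.card F = 2 ^ k) {H : Subgroup PS} (h3 : Nat.card H = 3) :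
    IsBinary PS H := by
  haveI : Fact (Nat.Prime 2) := ⟨Nat.prime_two⟩
  haveI := Fintype.ofFinite F
  haveI : CharP F 2 := charP_of_card_eq_prime_pow (f := k) (by rwa [← Nat.card_eq_fintype_card])
  obtain ⟨hi, hs⟩ := mk_bijective_of_two (F := F)
  refine IsBinary.of_surjective hs (isBinary_card_three (no_root k hodd hk) ?_)
  conv_rhs => rw [← h3, ← Subgroup.map_comap_eq_self_of_surjective hs H]
  exact (Subgroup.card_map_of_injective hi).symm

end CfsgLib.CharsMore.BinaryPSL2
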