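import Cfsg.Agent.Lib.CharsMore.BinaryPSL2.PairTools

/-!
# Subgroups of `PSL₂(F)` preserving a pair of points of the quadratic extension line
-/

set_option autoImplicit false
set_option linter.unusedSectionVars false

namespace CfsgLib.CharsMore.BinaryPSL2

open Matrix MulAction CfsgLib.PSL2 CfsgLib.Classical
open scoped LinearAlgebra.Projectivization

variable {F : Type*} [Field F] [Finite F] {p : ℕ} [Fact p.Prime] [CharP F p]

local notation "SL2F" => Matrix.SpecialLinearGroup (Fin 2) F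
local notation "PG" => Matrix.ProjGenLinGroup (Fin 2) F
local notation "PE" => ℙ (Ext2 F p) (Fin 2 → Ext2 F p)
local notation "L" => pslRange F

/-- Squares in the torus give all of its special part. -/
theorem exists_sqrt_torus (hq : 3 < Nat.card F) {a b : PE} (hg : GoodPair a b) {s : PG} (hs : s ∈ L)
    (sa : s • a = a) (sb : s • b = b) : ∃ t : PG, t • a = a ∧ t • b = b ∧ t * t = s := by
  have hPE : P1Like p PG PE := p1Like_ext
  obtain ⟨r, -, hr, -, ra, rb, -, -, ho, hgen⟩ := torus_data hq hg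
  set S := stabilizer PG a ⊓ stabilizer PG b
  haveI : IsCyclic S := hPE.two_cyclic hg.1
  obtain ⟨⟨g, hgS⟩, hgo⟩ := IsCyclic.exists_ofOrder_eq_natCard (α := S)
  rw [Subgroup.orderOf_mk, card_torus hg] at hgo
  have hg2 : g * g ∈ L := by
    rcases Nat.even_or_odd (Nat.card F) with he | ho'
    · rw [pslRange_eq_top_of_even he]; trivial
    · have h := Subgroup.pow_index_mem (pslRange F) g
      rwa [index_pslRange, gcd_two_card_sub_one_of_odd ho', pow_two] at h
  have hmem : g * g ∈ Subgroup.zpowers r :=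
    hgen _ hg2 (by rw [mul_smul, hgS.1, hgS.1]) (by rw [mul_smul, hgS.2, hgS.2])
  have hd : Nat.gcd (torusCard a) 2 = Nat.gcd 2 (Nat.card F - 1) := by
    have := Finite.one_lt_card (α := F)
    rcases Nat.even_or_odd (Nat.card F) with ⟨k, hk⟩ | ho'
    · rw [gcd_two_card_sub_one_of_even ⟨k, hk⟩]
      have hodd : torusCard a % 2 = 1 := by
        rw [torusCard]; split_ifs <;> omega
      exact (Nat.prime_two.coprime_iff_not_dvd.2 (by omega)).symm
    · rw [gcd_two_card_sub_one_of_odd ho', Nat.gcd_eq_right (torusCard_odd ho' a)]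
  have heq : Subgroup.zpowers (g * g) = Subgroup.zpowers r := by
    refine Subgroup.eq_of_le_of_card_ge (Subgroup.zpowers_le.2 hmem) ?_
    rw [Nat.card_zpowers, Nat.card_zpowers, ho, ← pow_two, orderOf_pow' g two_ne_zero, hgo, hd]
  have h1 : s ∈ Subgroup.zpowers (g * g) := heq ▸ hgen s hs sa sb
  obtain ⟨j, hj⟩ := h1
  refine ⟨g ^ j, ?_, ?_, ?_⟩
  · exact Subgroup.zpow_mem (stabilizer PG a) hgS.1 j
  · exact Subgroup.zpow_mem (stabilizer PG b) hgS.2 j
  · rw [← hj]; exact ((Commute.refl g).mul_zpow j).symm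

/-- A rotation of order at least three and a swap outside the group. -/
theorem rot_case (hq : 3 < Nat.card F) {X : Subgroup PG} (hX : X ≤ L) {a b : PE} (hg : GoodPair a b)
    (hle : X ≤ pairStab a b) {r : PG} (hr : r ∈ X) (ra : r • a = a) (rb : r • b = b) (r2 : r * r ≠ 1)
    (h3 : Even (Nat.card F) → r ^ 3 ≠ 1) {w : PG} (hw : w ∈ L) (wa : w • a = b) (wb : w • b = a) (hwX : w ∉ X) :
    Tri L X := by
  have hPE : P1Like p PG PE := p1Like_ext
  obtain ⟨A₀, hA₀⟩ := exists_lift (hX hr)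
  obtain ⟨h0, h4⟩ := rot_trace (p := p) hg.1 (s := A₀) (by rwa [hA₀]) (by rwa [hA₀]) (by rwa [hA₀])
  obtain ⟨A, hA, ht0, ht4, ht1⟩ : ∃ A : SL2F, slToPG A = r ∧ A.1.trace ≠ 0 ∧ A.1.trace ^ 2 ≠ 4 ∧
      A.1.trace + 1 ≠ 0 := by
    by_cases h : A₀.1.trace + 1 = 0
    · refine ⟨-A₀, by rw [slToPG_neg, hA₀], ?_, ?_, fun h' => ?_⟩ <;>
        simp only [Matrix.SpecialLinearGroup.coe_neg, Matrix.trace_neg, neg_ne_zero, neg_sq] at *
      · exact h0
      · exact h4
      · have h2 : (2 : F) = 0 := by linear_combination h + h'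
        have ht : A₀.1.trace = 1 := by linear_combination h - h2
        refine h3 ((Nat.even_or_odd _).resolve_right fun ho => two_ne_zero_of_odd ho h2) ?_
        rw [← hA₀]
        exact cube_of_trace_one h2 ht
    · exact ⟨A₀, hA₀, h0, h4, h⟩
  set τ := A.1.trace with hτ
  obtain ⟨B, hB, hAB⟩ := exists_partner ht4 τ (τ * τ - τ)
  obtain ⟨y, z, hy, hz, hBy, e⟩ := split_conj ht4 hB (by rw [trace_inv_mul, hB, hAB]; ring)
  rw [hA] at hBy e
  have hnc : ¬ Commute r (y * r * y⁻¹) := by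
    rw [← hA, hA, ← hBy, ← hA]
    intro hc
    have h := bracket_of_commute (by rw [hB]; exact ht0) hc
    rw [hB, hAB, ← hτ] at h
    have : (τ + 1) * (τ - 2) ^ 2 = 0 := by linear_combination -h
    rcases mul_eq_zero.1 this with h' | h'
    · exact ht1 h'
    · exact ht4 (by rw [sub_eq_zero.1 (pow_eq_zero_iff two_ne_zero |>.1 h')]; norm_num)
  -- a torus element moving the possible reversing element out of `X`
  obtain ⟨t, ta, tb, htk⟩ : ∃ t : PG, t • a = a ∧ t • b = b ∧ ∀ k ∈ X, k • a = b → k • b = a →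
      k • t • y • a = t • y • b → k • t • y • b = t • y • a → False := by
    by_contra! hcon
    obtain ⟨k₀, hk₀, k0a, k0b, k0c, k0d, -⟩ := hcon 1 (one_smul _ _) (one_smul _ _)
    rw [one_smul, one_smul] at k0c k0d
    obtain ⟨t, ta, tb, htt⟩ := exists_sqrt_torus hq hg (s := (k₀⁻¹ * w)⁻¹)
      ((L).inv_mem ((L).mul_mem ((L).inv_mem (hX hk₀)) hw))
      (by rw [inv_smul_eq_iff, mul_smul, wa, eq_inv_smul_iff, k0a])
      (by rw [inv_smul_eq_iff, mul_smul, wb, eq_inv_smul_iff, k0b])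
    obtain ⟨k, hk, ka, kb, kc, kd, -⟩ := hcon t ta tb
    have hk0 : k₀ * k₀ = 1 := hPE.swap_sq hg.1 k0a k0b
    have hkt : k₀ * t * (k₀ * t) = 1 :=
      hPE.swap_sq hg.1 (by rw [mul_smul, ta, k0a]) (by rw [mul_smul, tb, k0b])
    have hconj : t * k₀ * t⁻¹ = w := by
      have h1 : t * k₀ = k₀ * t⁻¹ := by
        calc t * k₀ = k₀⁻¹ * (k₀ * t * (k₀ * t)) * t⁻¹ := by group
          _ = k₀ * t⁻¹ := by rw [hkt, mul_one, inv_eq_of_mul_eq_one_right hk0]
      rw [h1, mul_assoc, ← _root_.mul_inv_rev, htt, inv_inv, mul_inv_cancel_left]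
    have hta' : t⁻¹ • a = a := by rw [inv_smul_eq_iff, ta]
    have htb' : t⁻¹ • b = b := by rw [inv_smul_eq_iff, tb]
    have nQ : ¬ SamePair a b (t • y • a) (t • y • b) := by
      intro h
      have f : (y * r * y⁻¹) • a = a ∧ (y * r * y⁻¹) • b = b := by
        have hya : (y * r * y⁻¹) • y • a = y • a := by rw [mul_smul, inv_smul_smul, mul_smul, ra]
        have hyb : (y * r * y⁻¹) • y • b = y • b := by rw [mul_smul, inv_smul_smul, mul_smul, rb]
        rcases h with ⟨h1, h2⟩ | ⟨h1, h2⟩ <;> rw [← eq_inv_smul_iff] at h1 h2 <;>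
          simp only [hta', htb'] at h1 h2 <;> rw [h1] at hya <;> rw [h2] at hyb
        · exact ⟨hya, hyb⟩
        · exact ⟨hyb, hya⟩
      exact hnc (commute_of_fix hPE hg.1 ra rb f.1 f.2)
    have hkk : (t * k₀ * t⁻¹)⁻¹ * k = 1 := by
      refine eq_one_of_fix_fix hPE hg.1
        (fun h => hg.1 (smul_left_cancel y (smul_left_cancel t h))) nQ ?_ ?_ ?_ ?_ <;>
        rw [mul_smul, inv_smul_eq_iff, mul_smul, mul_smul]
      · rw [ka, hta', k0a, tb]
      · rw [kb, htb', k0b, ta]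
      · rw [kc, inv_smul_smul, k0c]
      · rw [kd, inv_smul_smul, k0d]
    rw [inv_mul_eq_one, hconj] at hkk
    exact hwX (hkk ▸ hk)
  have hcomm : Commute t r := commute_of_fix hPE hg.1 ta tb ra rb
  have hcc : t⁻¹ * r * t = r := by rw [mul_assoc, ← hcomm.eq, inv_mul_cancel_left]
  have hn : ∀ {u : PG}, u ∈ L → t * u * t⁻¹ ∈ L := fun hu => (normal_pslRange).conj_mem _ hu t
  refine tri_rotations hPE hg.1 hle (r := r) (s := r) (t := r) (y := t * y * t⁻¹) (z := t * z * t⁻¹)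
    (hn hy) (hn hz) hr hr hr ra rb ra rb ra rb r2 r2 ?_ ?_ ?_
  · calc r = t * r * t⁻¹ := by rw [hcomm.eq, mul_inv_cancel_right]
      _ = t * (y * (t⁻¹ * r * t) * y⁻¹ * (z * (t⁻¹ * r * t) * z⁻¹)) * t⁻¹ := by rw [hcc, ← e]
      _ = _ := by group
  · intro hc
    refine hnc ?_
    have h := hc.map (MulAut.conj t⁻¹).toMonoidHom
    simp only [MulEquiv.coe_toMonoidHom, MulAut.conj_apply, inv_inv] at h
    rw [hcc] at h
    rwa [show t⁻¹ * (t * y * t⁻¹ * r * (t * y * t⁻¹)⁻¹) * t = y * (t⁻¹ * r * t) * y⁻¹ by group, hcc] at h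
  · intro k hk ka kb k1 k2
    rw [mul_smul, mul_smul, mul_smul, mul_smul, inv_smul_eq_iff.2 ta.symm, inv_smul_eq_iff.2 tb.symm] at k1 k2
    exact htk k hk ka kb k1 k2

/-- Three commuting involutions when the rotations have odd order. -/
theorem odd_case (hq : 3 < Nat.card F) {X : Subgroup PG} (hX : X ≤ L) {a b : PE} (hab : a ≠ b)
    (hle : X ≤ pairStab a b) (hodd : ∀ r ∈ X, r • a = a → r • b = b → r * r = 1 → r = 1) {w : PG}
    (hw : w ∈ X) (w1 : w ≠ 1) (w2 : w * w = 1) : Tri L X := by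
  have hPE : P1Like p PG PE := p1Like_ext
  obtain ⟨a₁, b₁, c₁, e, a2, b2, c2, hc, a1, b1, c1, hconj⟩ : ∃ a₁ b₁ c₁ : PG, a₁ = b₁ * c₁ ∧ a₁ * a₁ = 1 ∧
      b₁ * b₁ = 1 ∧ c₁ * c₁ = 1 ∧ Commute b₁ c₁ ∧ a₁ ≠ 1 ∧ b₁ ≠ 1 ∧ c₁ ≠ 1 ∧
      (∀ u ∈ ({a₁, b₁, c₁} : Set PG), ∃ y ∈ L, u = y * w * y⁻¹) := by
    rcases Nat.even_or_odd (Nat.card F) with he | ho
    · obtain ⟨t, ht⟩ : ∃ t : F, t ∉ ({0, 1} : Set F) := by
        by_contra! h
        have h1 : (Set.univ : Set F).ncard ≤ ({0, 1} : Set F).ncard :=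
          Set.ncard_le_ncard (fun x _ => h x) (Set.toFinite _)
        rw [Set.ncard_univ, Set.ncard_pair zero_ne_one] at h1
        omega
      simp only [Set.mem_insert_iff, Set.mem_singleton_iff, not_or] at ht
      have h2 := two_eq_zero_of_even he
      have ne1 : ∀ {u : F}, u ≠ 0 → affP (1 : Fˣ) u ≠ 1 := fun hu h =>
        hu (affP_injective (h.trans affP_one.symm)).2
      have sq1 : ∀ u : F, affP (1 : Fˣ) u * affP 1 u = 1 := fun u => by
        rw [affP_mul, mul_one, Units.val_one, one_mul, ← two_mul, h2, zero_mul, affP_one]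
      have ht' : (1 : F) + t ≠ 0 := fun h => ht.2 (by linear_combination h - h2)
      refine ⟨affP 1 (1 + t), affP 1 1, affP 1 t, (by
        rw [affP_mul]
        exact congrArg₂ affP (one_mul 1).symm (by rw [Units.val_one, one_mul, add_comm])),
        sq1 _, sq1 _, sq1 _, ?_, ne1 ht', ne1 one_ne_zero, ne1 ht.1, ?_⟩
      · show _ * _ = _ * _
        rw [affP_mul, affP_mul, Units.val_one, one_mul, one_mul, one_mul, add_comm]
      · rintro u (rfl | rfl | rfl)
        exacts [invol_conj_even he w1 w2 ht', invol_conj_even he w1 w2 one_ne_zero, invol_conj_even he w1 w2 ht.1]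
    · obtain ⟨x, y, h⟩ := exists_fourPair (F := F) (p := p) ho
      have hxy : x * y ≠ 1 := fun e => h.ne (by
        rw [← inv_eq_of_mul_eq_one_right e, inv_eq_of_mul_eq_one_right h.sx])
      have hxy2 : x * y * (x * y) = 1 := by
        calc x * y * (x * y) = x * (y * x) * y := by group
          _ = x * (x * y) * y := by rw [h.comm.eq]
          _ = x * x * (y * y) := by group
          _ = 1 := by rw [h.sx, h.sy, one_mul]
      refine ⟨x * y, x, y, rfl, hxy2, h.sx, h.sy, h.comm, hxy, h.x1, h.y1, ?_⟩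
      rintro u (rfl | rfl | rfl)
      exacts [invol_conj_odd ho (hX hw) ((L).mul_mem h.hx h.hy) w1 hxy w2 hxy2,
        invol_conj_odd ho (hX hw) h.hx w1 h.x1 w2 h.sx, invol_conj_odd ho (hX hw) h.hy w1 h.y1 w2 h.sy]
  obtain ⟨x, hx, hxa⟩ := hconj a₁ (by simp)
  obtain ⟨y, hy, hyb⟩ := hconj b₁ (by simp)
  obtain ⟨z, hz, hzc⟩ := hconj c₁ (by simp)
  exact tri_involutions hPE hab hle hodd hx hy hz e (by rw [hxa]; simpa [mul_assoc] using hw)
    (by rw [hyb]; simpa [mul_assoc] using hw) (by rw [hzc]; simpa [mul_assoc] using hw) a2 b2 c2 hc a1 b1 c1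

theorem trace_of_invol {s : SL2F} (h1 : slToPG s ≠ 1) (h2 : slToPG s * slToPG s = 1) : s.1.trace = 0 := by
  rw [← map_mul, slToPG_eq_one_iff, Matrix.SpecialLinearGroup.coe_mul, CfsgLib.GLTwo.sq_eq, s.2, one_smul] at h2
  by_contra h0
  refine h1 (slToPG_eq_one_iff.2 ?_)
  obtain ⟨c, hc⟩ : ∃ c : F, s.1.trace • s.1 = c • (1 : Matrix (Fin 2) (Fin 2) F) := by
    rcases h2 with h | h
    · exact ⟨2, by rw [sub_eq_iff_eq_add] at h; rw [h, two_smul]⟩
    · exact ⟨0, by rw [zero_smul]; exact sub_eq_neg_self.1 h⟩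
  exact scalar_cases (c := s.1.trace⁻¹ * c) (by rw [← smul_smul, ← hc, smul_smul, inv_mul_cancel₀ h0, one_smul])

/-- The trace of an element whose fourth power is trivial. -/
theorem trace_sq_two {s : SL2F} (h0 : s.1.trace ≠ 0) (h4' : s.1.trace ^ 2 ≠ 4) :
    slToPG s ^ 4 = 1 ↔ s.1.trace ^ 2 = 2 := by
  have hsq : ((s * s : SL2F)).1.trace = s.1.trace ^ 2 - 2 := by
    rw [Matrix.SpecialLinearGroup.coe_mul, CfsgLib.GLTwo.sq_eq, s.2]
    simp [Matrix.trace_fin_two]; ring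
  rw [show slToPG s ^ 4 = slToPG ((s * s) * (s * s)) by simp only [map_mul, pow_succ, pow_zero, one_mul, mul_assoc],
    slToPG_eq_one_iff, Matrix.SpecialLinearGroup.coe_mul (s * s), CfsgLib.GLTwo.sq_eq, (s * s).2, one_smul, hsq]
  constructor
  · intro h
    by_contra hne
    have hz : s.1.trace ^ 2 - 2 ≠ 0 := sub_ne_zero.2 hne
    obtain ⟨c, hc⟩ : ∃ c : F, (s * s : SL2F).1 = c • (1 : Matrix (Fin 2) (Fin 2) F) := by
      rcases h with h | h
      · refine ⟨(s.1.trace ^ 2 - 2)⁻¹ * 2, ?_⟩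
        rw [sub_eq_iff_eq_add, ← two_smul F] at h
        rw [← smul_smul, ← h, smul_smul, inv_mul_cancel₀ hz, one_smul]
      · refine ⟨0, ?_⟩
        have h' := sub_eq_neg_self.1 h
        rw [zero_smul]
        exact (smul_eq_zero.1 h').resolve_left hz
    rw [Matrix.SpecialLinearGroup.coe_mul, CfsgLib.GLTwo.sq_eq, s.2, one_smul, sub_eq_iff_eq_add] at hc
    have hs : s.1 = (s.1.trace⁻¹ * (c + 1)) • (1 : Matrix (Fin 2) (Fin 2) F) := by
      rw [← smul_smul, add_smul, one_smul, ← hc, smul_smul, inv_mul_cancel₀ h0, one_smul]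
    refine h4' ?_
    have hd := s.2
    rw [hs, Matrix.det_smul, Matrix.det_one, Fintype.card_fin, mul_one] at hd
    rw [hs, Matrix.trace_smul, Matrix.trace_one, Fintype.card_fin, smul_eq_mul, mul_pow, hd]
    norm_num
  · intro h
    exact .inr (by rw [h, sub_self, zero_smul, zero_sub])

/-- A full torus normaliser of even order with an element of order at least six. -/
theorem normalizer_case (hq : 3 < Nat.card F) (ho : Odd (Nat.card F)) {X : Subgroup PG} {a b : PE}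
    (hg : GoodPair a b) (hX : X = pairStab a b ⊓ L) {z₀ : PG} (hz₀ : z₀ ∈ X) (z1 : z₀ ≠ 1) (z2 : z₀ * z₀ = 1)
    (za : z₀ • a = a) (zb : z₀ • b = b) {s : PG} (hs : s ∈ X) (sa : s • a = a) (sb : s • b = b)
    (s4 : s ^ 4 ≠ 1) : Tri L X := by
  have hPE : P1Like p PG PE := p1Like_ext
  have hXL : X ≤ L := hX.le.trans inf_le_right
  have h2F := two_ne_zero_of_odd ho
  have s2 : s * s ≠ 1 := fun h => s4 (by rw [show (4 : ℕ) = 2 * 2 by norm_num, pow_mul, pow_two s, h, one_pow])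
  obtain ⟨S, hS⟩ := exists_lift (hXL hs)
  obtain ⟨h0, h4⟩ := rot_trace (p := p) hg.1 (s := S) (by rwa [hS]) (by rwa [hS]) (by rwa [hS])
  obtain ⟨A, hA⟩ := exists_lift (hXL hz₀)
  have hA0 := trace_of_invol (s := A) (by rwa [hA]) (by rwa [hA])
  obtain ⟨B, hB, hAB⟩ := exists_partner (a := A) (by
    rw [hA0, zero_pow two_ne_zero]
    exact fun h => h2F (pow_eq_zero_iff two_ne_zero |>.1 (show (2 : F) ^ 2 = 0 by rw [h]; norm_num)))
    S.1.trace (-S.1.trace)
  obtain ⟨y, hy, hyB⟩ := exists_conj_slToPG hB.symm h4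
  obtain ⟨z, hz, hzC⟩ := exists_conj_slToPG (h := B⁻¹ * A) (by rw [trace_inv_mul, hA0, hAB]; ring) h4
  rw [hS] at hyB hzC
  have e : z₀ = y * s * y⁻¹ * (z * s * z⁻¹) := by rw [← hyB, ← hzC, ← hA, map_mul, map_inv, mul_inv_cancel_left]
  have hnb : ¬ Commute z₀ (y * s * y⁻¹) := by
    rw [← hyB, ← hA]
    intro hc
    have h := bracket_of_commute (by rw [hB]; exact h0) hc
    rw [hB, hAB, hA0] at h
    refine s4 (hS ▸ (trace_sq_two h0 h4).2 ?_)
    have : (2 : F) * (S.1.trace ^ 2 - 2) = 0 := by linear_combination h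
    exact sub_eq_zero.1 ((mul_eq_zero.1 this).resolve_left h2F)
  have hnc : ¬ Commute z₀ (z * s * z⁻¹) := fun hc => hnb (by
    have h : Commute z₀ (z₀ * (z * s * z⁻¹)⁻¹) := (Commute.refl z₀).mul_right hc.inv_right
    rwa [show z₀ * (z * s * z⁻¹)⁻¹ = y * s * y⁻¹ by rw [e, mul_inv_cancel_right]] at h)
  have yab : y • a ≠ y • b := fun h => hg.1 (smul_left_cancel y h)
  have zab : z • a ≠ z • b := fun h => hg.1 (smul_left_cancel z h)
  have hcs : ∀ {g q : PG} {c : PE}, g • c = c → (q * g * q⁻¹) • q • c = q • c := fun h => by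
    rw [mul_smul, inv_smul_smul, mul_smul, h]
  have naQ : z₀ ∉ pairStab (y • a) (y • b) := by
    rintro (⟨h1, h2⟩ | ⟨h1, h2⟩)
    · exact hnb (commute_of_fix hPE yab h1 h2 (hcs sa) (hcs sb))
    · have h3 := hPE.swap_sq (g := (y * s * y⁻¹)⁻¹ * z₀) yab
        (by rw [mul_smul, h1, inv_smul_eq_iff, hcs sb]) (by rw [mul_smul, h2, inv_smul_eq_iff, hcs sa])
      have e' : (y * s * y⁻¹)⁻¹ * z₀ = z * s * z⁻¹ := by rw [e, inv_mul_cancel_left]
      rw [e',
        show z * s * z⁻¹ * (z * s * z⁻¹) = z * (s * s) * z⁻¹ by group, conj_eq_one_iff] at h3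
      exact s2 h3
  have naR : z₀ ∉ pairStab (z • a) (z • b) := by
    rintro (⟨h1, h2⟩ | ⟨h1, h2⟩)
    · exact hnc (commute_of_fix hPE zab h1 h2 (hcs sa) (hcs sb))
    · have h3 := hPE.swap_sq (g := z₀ * (z * s * z⁻¹)⁻¹) zab
        (by rw [mul_smul, show (z * s * z⁻¹)⁻¹ • z • a = z • a from inv_smul_eq_iff.2 (hcs sa).symm, h1])
        (by rw [mul_smul, show (z * s * z⁻¹)⁻¹ • z • b = z • b from inv_smul_eq_iff.2 (hcs sb).symm, h2])
      rw [show z₀ * (z * s * z⁻¹)⁻¹ = y * s * y⁻¹ by rw [e, mul_inv_cancel_right],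
        show y * s * y⁻¹ * (y * s * y⁻¹) = y * (s * s) * y⁻¹ by group, conj_eq_one_iff] at h3
      exact s2 h3
  obtain ⟨r, w, hr, hw, ra, rb, wa, wb, hord, hgen⟩ := torus_data hq hg
  have hr3 : r ≠ 1 ∧ r * r ≠ 1 := by
    have hsr := hgen s (hXL hs) sa sb
    constructor
    · intro h
      rw [h, Subgroup.zpowers_one_eq_bot, Subgroup.mem_bot] at hsr
      exact s2 (by rw [hsr, one_mul])
    · intro h
      obtain ⟨j, hj⟩ := hsr
      refine s2 ?_
      rw [← hj, ← (Commute.refl r).mul_zpow, h, _root_.one_zpow]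
  have swap : ∀ i : ℕ, (w * r ^ i) • a = b ∧ (w * r ^ i) • b = a ∧ w * r ^ i ∈ L := fun i =>
    ⟨by rw [mul_smul, mem_stabilizer_iff.1 (Subgroup.pow_mem _ (mem_stabilizer_iff.2 ra) i), wa],
     by rw [mul_smul, mem_stabilizer_iff.1 (Subgroup.pow_mem _ (mem_stabilizer_iff.2 rb) i), wb],
     (L).mul_mem hw ((L).pow_mem hr i)⟩
  obtain ⟨i, hiB, hiC⟩ : ∃ i : ℕ, w * r ^ i ∉ pairStab (y • a) (y • b) ∧ w * r ^ i ∉ pairStab (z • a) (z • b) := by
    by_contra! h
    have one : ∀ (c d : PE), c ≠ d → z₀ ∉ pairStab c d → ∀ i j, w * r ^ i ∈ pairStab c d →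
        w * r ^ j ∈ pairStab c d → r ^ i = r ^ j := fun c d hcd hn i j hi hj =>
      mul_left_cancel (eq_of_commute_pair hPE hg.1 hcd z2 z1 za zb hn (swap i).1 (swap i).2.1 (swap j).1
        (swap j).2.1 hi hj)
    have e01 : r ^ 0 ≠ r ^ 1 := by rw [pow_zero, pow_one]; exact hr3.1.symm
    have e02 : r ^ 0 ≠ r ^ 2 := by rw [pow_zero, pow_two]; exact hr3.2.symm
    have e12 : r ^ 1 ≠ r ^ 2 := by
      rw [pow_one, pow_two]; exact fun h => hr3.1 (mul_eq_left.1 h.symm)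
    by_cases p0 : w * r ^ 0 ∈ pairStab (y • a) (y • b)
    · have p1 : w * r ^ 1 ∉ pairStab (y • a) (y • b) := fun h' => e01 (one _ _ yab naQ 0 1 p0 h')
      have p2 : w * r ^ 2 ∉ pairStab (y • a) (y • b) := fun h' => e02 (one _ _ yab naQ 0 2 p0 h')
      exact e12 (one _ _ zab naR 1 2 (h 1 p1) (h 2 p2))
    · by_cases p1 : w * r ^ 1 ∈ pairStab (y • a) (y • b)
      · have p2 : w * r ^ 2 ∉ pairStab (y • a) (y • b) := fun h' => e12 (one _ _ yab naQ 1 2 p1 h')
        exact e02 (one _ _ zab naR 0 2 (h 0 p0) (h 2 p2))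
      · exact e01 (one _ _ zab naR 0 1 (h 0 p0) (h 1 p1))
  obtain ⟨ua, ub, uL⟩ := swap i
  have u1 : w * r ^ i ≠ 1 := fun h => hg.1 (by rw [← ua, h, one_smul])
  obtain ⟨x, hx, hxu⟩ := invol_conj_odd ho (hXL hz₀) uL z1 u1 z2 (hPE.swap_sq hg.1 ua ub)
  refine tri_normalizer hPE hg.1 hX hx hy hz z2 z1 za zb sa sb sa sb hs hs s2 s2 z2 z1 e hnb hnc ?_ ?_ ?_ ?_
  · rw [← hxu]; exact (commute_of_swap_fix hPE hg.1 ua ub za zb z2).symm
  · rw [← hxu]; exact fun h => hg.1 (by rw [← ua, ← h, za])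
  · rwa [← hxu]
  · rwa [← hxu]

/-- The torus normalisers of order eight. -/
theorem order_eight_case (hq : 3 < Nat.card F) (ho : Odd (Nat.card F)) {X : Subgroup PG} (hX : X ≤ L) {a b : PE}
    (hg : GoodPair a b) (hle : X ≤ pairStab a b) {r : PG} (hr : r ∈ X) (ra : r • a = a) (rb : r • b = b)
    (r2 : r * r ≠ 1) (r4 : r ^ 4 = 1) (hcard : Nat.card F = 7 ∨ Nat.card F = 9) : Tri L X := by
  classical
  haveI := Fintype.ofFinite F
  have hPE : P1Like p PG PE := p1Like_ext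
  have h2F := two_ne_zero_of_odd ho
  obtain ⟨A₀, hA₀⟩ := exists_lift (hX hr)
  obtain ⟨h0, h4⟩ := rot_trace (p := p) hg.1 (s := A₀) (by rwa [hA₀]) (by rwa [hA₀]) (by rwa [hA₀])
  have h2 : A₀.1.trace ^ 2 = 2 := (trace_sq_two h0 h4).1 (by rwa [hA₀])
  have hns : ∀ x : F, x ^ 2 = 2 → ¬ IsSquare (x + 1) ∨ ¬ IsSquare (-x + 1) := by
    intro x hx
    by_contra! h
    rcases hcard with hc | hc
    · have h7 : IsSquare (-1 : F) := by
        have := h.1.mul h.2
        rwa [show (x + 1) * (-x + 1) = (-1 : F) by linear_combination -hx] at this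
      rw [FiniteField.isSquare_neg_one_iff, ← Nat.card_eq_fintype_card, hc] at h7
      norm_num at h7
    · have h9 : (3 : F) * 3 = 0 := by
        have := FiniteField.cast_card_eq_zero F
        rw [← Nat.card_eq_fintype_card, hc] at this
        rw [← this]; norm_num
      have h3 : (3 : F) = 0 := by simpa using h9
      obtain ⟨u, hu⟩ := h.1
      have hu0 : u ≠ 0 := by
        rintro rfl
        exact one_ne_zero (α := F) (by linear_combination -hx + (x - 1) * hu)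
      have h8 := FiniteField.pow_card_sub_one_eq_one u hu0
      rw [← Nat.card_eq_fintype_card, hc] at h8
      have h5 : (x + 1) ^ 4 = 1 := by rw [hu, ← pow_two, ← pow_mul]; exact h8
      exact one_ne_zero (α := F) (by linear_combination h5 - (x ^ 2 + 8 + 4 * x) * hx - (5 + 4 * x) * h3)
  obtain ⟨A, hA, ht2, hns'⟩ : ∃ A : SL2F, slToPG A = r ∧ A.1.trace ^ 2 = 2 ∧ ¬ IsSquare (A.1.trace + 1) := by
    rcases hns _ h2 with h | h
    · exact ⟨A₀, hA₀, h2, h⟩
    · exact ⟨-A₀, by rw [slToPG_neg, hA₀], by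
        simpa only [Matrix.SpecialLinearGroup.coe_neg, Matrix.trace_neg, neg_sq] using h2, by
        simpa only [Matrix.SpecialLinearGroup.coe_neg, Matrix.trace_neg] using h⟩
  set τ := A.1.trace with hτ
  have ht4 : τ ^ 2 ≠ 4 := by rw [ht2]; exact fun h => h2F (by linear_combination -h)
  have ht0 : τ ≠ 0 := fun h => h2F (by rw [← ht2, h, zero_pow two_ne_zero])
  have hτ2 : τ - 2 ≠ 0 := fun h => ht4 (by rw [sub_eq_zero.1 h]; norm_num)
  obtain ⟨B, hB, hAB⟩ := exists_partner ht4 τ (τ * τ - τ)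
  obtain ⟨y, z, hy, hz, hBy, e⟩ := split_conj ht4 hB (by rw [trace_inv_mul, hB, hAB]; ring)
  rw [hA] at hBy e
  have hdet : (A.1 * B.1 - B.1 * A.1).det = (τ + 1) * (τ - 2) ^ 2 := by
    rw [det_bracket, A.2, B.2, hB, hAB, ← hτ]; ring
  have hne : A.1 * B.1 ≠ B.1 * A.1 := by
    intro h
    rw [h, sub_self, Matrix.det_zero] at hdet
    exact hns' (by
      rcases mul_eq_zero.1 hdet.symm with h' | h'
      · rw [h']; exact IsSquare.zero
      · exact absurd (pow_eq_zero_iff two_ne_zero |>.1 h') hτ2)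
  have hnc : ¬ Commute r (y * r * y⁻¹) := by
    rw [← hA, hA, ← hBy, ← hA]
    intro hc
    have h := bracket_of_commute (by rw [hB]; exact ht0) hc
    rw [hB, hAB, ← hτ] at h
    refine hns' ?_
    have : (τ + 1) * (τ - 2) ^ 2 = 0 := by linear_combination -h
    rw [(mul_eq_zero.1 this).resolve_right (pow_ne_zero 2 hτ2)]
    exact IsSquare.zero
  refine tri_rotations hPE hg.1 hle hy hz hr hr hr ra rb ra rb ra rb r2 r2 e hnc (fun k hk ka kb k1 k2 => ?_)
  obtain ⟨u, hu⟩ := exists_lift (hX hk)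
  have inv : ∀ {S : SL2F}, S.1.trace = τ → slToPG u * slToPG S * (slToPG u * slToPG S) = 1 →
      slToPG u * slToPG u = 1 → u * S = S⁻¹ * u := by
    intro S hS h1 h2
    have h3 : slToPG (u * S * u⁻¹) = slToPG S⁻¹ := by
      rw [map_mul, map_mul, map_inv, map_inv]
      calc slToPG u * slToPG S * (slToPG u)⁻¹ = slToPG u * slToPG S * (slToPG u * slToPG S) * (slToPG S)⁻¹ *
          (slToPG u * slToPG u)⁻¹ := by group
        _ = (slToPG S)⁻¹ := by rw [h1, h2]; group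
    rcases slToPG_eq_iff.1 h3 with h | h
    · calc u * S = u * S * u⁻¹ * u := by group
        _ = S⁻¹ * u := by rw [h]
    · exfalso
      have h4 := congrArg (fun s : SL2F => s.1.trace) h
      simp only [Matrix.SpecialLinearGroup.coe_mul, Matrix.SpecialLinearGroup.coe_neg, Matrix.trace_neg,
        Matrix.SpecialLinearGroup.coe_inv] at h4
      rw [Matrix.trace_mul_comm, ← mul_assoc, Matrix.adjugate_mul, u.2, one_smul, one_mul,
        Matrix.adjugate_fin_two, Matrix.trace_fin_two] at h4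
      simp [Matrix.trace_fin_two] at h4 hS
      refine ht0 ((mul_eq_zero.1 (show (2 : F) * τ = 0 by rw [← hS]; linear_combination h4)).resolve_left h2F)
  have hk2 : slToPG u * slToPG u = 1 := by rw [hu]; exact hPE.swap_sq hg.1 ka kb
  have yab : y • a ≠ y • b := fun h => hg.1 (smul_left_cancel y h)
  refine hns' ?_
  have hsq := isSquare_of_inverts (inv (S := A) rfl (by
      rw [hu, hA]; exact hPE.swap_sq hg.1 (by rw [mul_smul, ra, ka]) (by rw [mul_smul, rb, kb])) hk2)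
    (inv (S := B) hB (by
      rw [hu, hBy]
      exact hPE.swap_sq yab (by rw [mul_smul, mul_smul, inv_smul_smul, mul_smul, ra, k1])
        (by rw [mul_smul, mul_smul, inv_smul_smul, mul_smul, rb, k2])) hk2) hne
  rw [hdet] at hsq
  obtain ⟨v, hv⟩ := hsq
  exact ⟨v / (τ - 2), by field_simp; linear_combination hv⟩

end CfsgLib.CharsMore.BinaryPSL2
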