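import Cfsg.Agent.Lib.CharsMore.BinaryPSL2.PairCase

/-!
# A group preserving a pair gives a non-binary action, up to the known exception
-/

set_option autoImplicit false
set_option linter.unusedSectionVars false

namespace CfsgLib.CharsMore.BinaryPSL2

open Matrix MulAction CfsgLib.PSL2 CfsgLib.Classical
open scoped LinearAlgebra.Projectivization

variable {F : Type*} [Field F] [Finite F] {p : ℕ} [Fact p.Prime] [CharP F p]

local notation "SL2F" => Matrix.SpecialLinearGroup (Fin 2) F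
local notation "M2" => Matrix (Fin 2) (Fin 2) F
local notation "PG" => Matrix.ProjGenLinGroup (Fin 2) F
local notation "PE" => ℙ (Ext2 F p) (Fin 2 → Ext2 F p)
local notation "L" => pslRange F

/-- For even `q` a rotation of square one is trivial. -/
theorem rot_sq_even (he : Even (Nat.card F)) {a b : PE} (hab : a ≠ b) {g : PG} (ga : g • a = a) (gb : g • b = b)
    (g2 : g * g = 1) : g = 1 := by
  have hPE : P1Like p PG PE := p1Like_ext
  by_contra h
  refine hab (hPE.unique_fix h ?_ ga gb)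
  rw [(p_eq_two_iff (F := F) p).2 he, pow_two, g2]

/-- An element of `PSL₂` permuting the involutions of a four-group cyclically. -/
theorem exists_cycle (p : ℕ) [Fact p.Prime] [CharP F p] (ho : Odd (Nat.card F)) {z y : PG} (hfp : FourPair z y) :
    ∃ n ∈ L, n * z * n⁻¹ = y ∧ n * y * n⁻¹ = z * y ∧ n * (z * y) * n⁻¹ = z := by
  have z2 := hfp.sx
  have y2 := hfp.sy
  have z1 := hfp.x1
  have y1 := hfp.y1
  have hzy := hfp.comm
  obtain ⟨X₄, hX₄, hX₄L, ⟨e⟩⟩ := hfp.exists_alt ho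
  haveI : Finite X₄ := Finite.of_equiv _ e.symm.toEquiv
  haveI : Fact (Nat.Prime 3) := ⟨Nat.prime_three⟩
  obtain ⟨n₀, hn₀⟩ := exists_prime_orderOf_dvd_card' (G := X₄) 3 (by
    rw [Nat.card_congr e.toEquiv, card_alt_four]; norm_num)
  have hn3 : ((n₀ : PG)) ^ 3 = 1 := by
    rw [← SubgroupClass.coe_pow, ← hn₀, pow_orderOf_eq_one, OneMemClass.coe_one]
  have hn1 : (n₀ : PG) ≠ 1 := fun h => by
    rw [show n₀ = 1 from Subtype.ext h, orderOf_one] at hn₀; omega
  have him : ∀ {n : PG}, n ∈ fourNorm z y → ∀ u ∈ ({z, y, z * y} : Set PG), n * u * n⁻¹ ∈ ({z, y, z * y} : Set PG) := by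
    intro n hn u hu
    have h1 := fourNorm_conj_mem hn ((hfp.mem_four ho).2 (Set.mem_insert_of_mem _ hu))
    rw [hfp.mem_four ho] at h1
    refine h1.resolve_left fun h => ?_
    rw [conj_eq_one_iff] at h
    subst h
    rcases hu with h | h | h
    · exact z1 h.symm
    · exact y1 h.symm
    · exact hfp.ne (by rw [← inv_eq_of_mul_eq_one_right h.symm, inv_eq_of_mul_eq_one_right z2])
  -- no element of order three centralises `z`
  have hfix : ∀ {n : PG}, n ∈ fourNorm z y → n ^ 3 = 1 → n ≠ 1 → n * z * n⁻¹ ≠ z := by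
    intro n hn hn3 hn1 hnz
    have hzc : Commute n z := mul_inv_eq_iff_eq_mul.1 hnz
    have hny := him hn y (by simp)
    have hyc : Commute n y := by
      rcases hny with h | h | h
      · exact absurd (mul_left_cancel (mul_right_cancel (h.trans hnz.symm))) hfp.ne.symm
      · exact mul_inv_eq_iff_eq_mul.1 h
      · exfalso
        have hp : ∀ k : ℕ, n ^ k * y * (n ^ k)⁻¹ = z ^ k * y := by
          intro k
          induction k with
          | zero => simp
          | succ k ih =>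
            calc n ^ (k + 1) * y * (n ^ (k + 1))⁻¹ = n * (n ^ k * y * (n ^ k)⁻¹) * n⁻¹ := by
                  rw [pow_succ']; group
              _ = (n * z ^ k * n⁻¹) * (n * y * n⁻¹) := by rw [ih]; group
              _ = z ^ (k + 1) * y := by
                rw [h, (hzc.pow_right k).eq, mul_inv_cancel_right, pow_succ, mul_assoc]
        have h3 := hp 3
        rw [hn3, one_mul, inv_one, mul_one, show z ^ 3 = z by rw [pow_succ, pow_two, z2, one_mul]] at h3
        exact z1 (mul_eq_right.1 h3.symm)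
    have hn2 : n * n = 1 := by
      rcases hfp.centralizer p ho hzc hyc with h | h | h | h
      · exact absurd h hn1
      · rw [h, z2]
      · rw [h, y2]
      · rw [h, mul_assoc, ← mul_assoc y, ← hzy.eq, mul_assoc, y2, mul_one, z2]
    exact hn1 (by rw [← hn3, pow_succ, pow_two, hn2, one_mul])
  obtain ⟨n, hnN, hnL, hn3, hn1, e1⟩ : ∃ n : PG, n ∈ fourNorm z y ∧ n ∈ L ∧ n ^ 3 = 1 ∧ n ≠ 1 ∧
      n * z * n⁻¹ = y := by
    rcases him (hX₄ n₀.2) z (by simp) with h | h | h
    · exact absurd h (hfix (hX₄ n₀.2) hn3 hn1)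
    · exact ⟨n₀, hX₄ n₀.2, hX₄L n₀.2, hn3, hn1, h⟩
    · have hN2 : (n₀ : PG) * n₀ ∈ fourNorm z y := mul_mem (hX₄ n₀.2) (hX₄ n₀.2)
      have hsq : ((n₀ : PG) * n₀) ^ 3 = 1 := by rw [← pow_two, ← pow_mul, mul_comm, pow_mul, hn3, one_pow]
      have hsq1 : (n₀ : PG) * n₀ ≠ 1 := fun hh => hn1 (by rw [← hn3, pow_succ, pow_two, hh, one_mul])
      rcases him hN2 z (by simp) with h' | h' | h'
      · exact absurd h' (hfix hN2 hsq hsq1)
      · exact ⟨_, hN2, mul_mem (hX₄L n₀.2) (hX₄L n₀.2), hsq, hsq1, h'⟩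
      · exfalso
        refine hfix (hX₄ n₀.2) hn3 hn1 ?_
        have h2 : (n₀ : PG) * n₀ * z * ((n₀ : PG) * n₀)⁻¹ = (n₀ : PG) * (n₀ * z * (n₀ : PG)⁻¹) * (n₀ : PG)⁻¹ := by group
        rw [h2, h] at h'
        -- `n₀` fixes `z * y`, hence `z`
        have h3 : Commute (n₀ : PG) (z * y) := mul_inv_eq_iff_eq_mul.1 h'
        calc (n₀ : PG) * z * (n₀ : PG)⁻¹ = z * y := h
          _ = ((n₀ : PG))⁻¹ * (z * y) * n₀ := by rw [mul_assoc, ← h3.eq, inv_mul_cancel_left]
          _ = z := by rw [← h]; group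
  have e2 : n * y * n⁻¹ = z * y := by
    rcases him hnN y (by simp) with h | h | h
    · exfalso
      refine hfix hnN hn3 hn1 ?_
      have h2 : n ^ 2 * z * (n ^ 2)⁻¹ = z := by
        rw [show n ^ 2 * z * (n ^ 2)⁻¹ = n * (n * z * n⁻¹) * n⁻¹ by rw [pow_two]; group, e1, h]
      calc n * z * n⁻¹ = n * (n ^ 2 * z * (n ^ 2)⁻¹) * n⁻¹ := by rw [h2]
        _ = n ^ 3 * z * (n ^ 3)⁻¹ := by rw [pow_succ' n 2]; group
        _ = z := by rw [hn3]; group
    · exact absurd (mul_left_cancel (mul_right_cancel (e1.trans h.symm))) hfp.ne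
    · exact h
  have e3 : n * (z * y) * n⁻¹ = z := by
    rw [show n * (z * y) * n⁻¹ = n * z * n⁻¹ * (n * y * n⁻¹) by group, e1, e2, hzy.eq, ← mul_assoc, y2, one_mul]
  exact ⟨n, hnL, e1, e2, e3⟩

/-- The group is inside the centraliser of an involution and meets it properly. -/
theorem four_case (hq : 3 < Nat.card F) (h5 : Nat.card F ≠ 5) (ho : Odd (Nat.card F)) {X : Subgroup PG}
    (hX : X ≤ L) {a b : PE} (hg : GoodPair a b) (hle : X ≤ pairStab a b)
    (hrot : ∀ r ∈ X, r • a = a → r • b = b → r * r = 1) {z : PG} (hz : z ∈ X) (z1 : z ≠ 1) (za : z • a = a)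
    (zb : z • b = b) : Tri L X := by
  have hPE : P1Like p PG PE := p1Like_ext
  have z2 := hrot z hz za zb
  obtain ⟨r, w, hr, hw, ra, rb, wa, wb, hord, -⟩ := torus_data hq hg
  have hm : 3 ≤ orderOf r := by
    have h := torus_ge ho a
    obtain ⟨k, hk⟩ := ho
    rw [hord]; omega
  obtain ⟨y, hy, ya, yb, hyX⟩ : ∃ y ∈ L, y • a = b ∧ y • b = a ∧ y ∉ X := by
    by_contra! h
    have h0 := h w hw wa wb
    have h1 := h (w * r) ((L).mul_mem hw hr) (by rw [mul_smul, ra, wa]) (by rw [mul_smul, rb, wb])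
    have hrX : r ∈ X := by simpa using X.mul_mem (X.inv_mem h0) h1
    have := orderOf_le_of_pow_eq_one (x := r) two_pos (by rw [pow_two]; exact hrot r hrX ra rb)
    omega
  have y2 : y * y = 1 := hPE.swap_sq hg.1 ya yb
  have y1 : y ≠ 1 := fun h => hg.1 (by rw [← ya, h, one_smul])
  have hzy : Commute z y := (commute_of_swap_fix hPE hg.1 ya yb za zb z2).symm
  have hfp : FourPair z y := ⟨hX hz, hy, z1, y1, fun h => hyX (h ▸ hz), z2, y2, hzy⟩
  obtain ⟨n, hnL, e1, e2, e3⟩ := exists_cycle p ho hfp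
  refine tri_four hnL (fun k hk => ?_) hz hyX hzy z2 (fun k _ h1 h2 => ?_) e1 e2 e3
  · rcases hle hk with ⟨ka, kb⟩ | ⟨ka, kb⟩
    · exact commute_of_fix hPE hg.1 ka kb za zb
    · exact commute_of_swap_fix hPE hg.1 ka kb za zb z2
  · simpa using hfp.centralizer p ho h1 h2

/-- A group of order three when `3 ∣ q - 1` and `q` is even. -/
theorem three_case (he : Even (Nat.card F)) (h3 : 3 ∣ Nat.card F - 1) {X : Subgroup PG}
    (hX : X ≤ L) {a b : PE} (hg : GoodPair a b) (hle : X ≤ pairStab a b) (hcard : Nat.card X = 3) : Tri L X := by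
  have hPE : P1Like p PG PE := p1Like_ext
  have h2F := two_eq_zero_of_even he
  have negM : ∀ M : M2, -M = M := fun M => by
    ext i j
    rw [Matrix.neg_apply]
    linear_combination (-(M i j)) * h2F
  have hallfix : ∀ g ∈ X, g • a = a ∧ g • b = b := by
    intro g hg'
    rcases hle hg' with h | ⟨h1, h2⟩
    · exact h
    · exfalso
      have hsq := hPE.swap_sq hg.1 h1 h2
      have h3' : g ^ 3 = 1 := by
        have := pow_card_eq_one' (G := X) (x := ⟨g, hg'⟩)
        rw [hcard] at this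
        exact congrArg Subtype.val this
      rw [pow_succ, pow_two, hsq, one_mul] at h3'
      exact hg.1 (by rw [← h1, h3', one_smul])
  haveI : Finite X := Subtype.finite
  obtain ⟨⟨r, hr⟩, hr1⟩ : ∃ r : X, r ≠ 1 := by
    haveI : Nontrivial X := Finite.one_lt_card_iff_nontrivial.1 (by omega)
    exact exists_ne 1
  have r1 : r ≠ 1 := fun h => hr1 (Subtype.ext h)
  obtain ⟨ra, rb⟩ := hallfix r hr
  have r2 : r * r ≠ 1 := fun h => r1 (rot_sq_even he hg.1 ra rb h)
  have r3 : r ^ 3 = 1 := by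
    have := pow_card_eq_one' (G := X) (x := ⟨r, hr⟩)
    rw [hcard] at this
    exact congrArg Subtype.val this
  obtain ⟨R, hR⟩ := exists_lift (hX hr)
  obtain ⟨hR0, hR4⟩ := rot_trace (p := p) hg.1 (s := R) (by rwa [hR]) (by rwa [hR]) (by rwa [hR])
  have hRt : R.1.trace = 1 := by
    by_contra hne
    have h := hR ▸ r3
    rw [← map_pow, slToPG_eq_one_iff, Matrix.SpecialLinearGroup.coe_pow, negM, or_self] at h
    have e := CfsgLib.GLTwo.sq_eq R.1
    rw [R.2, one_smul] at e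
    rw [pow_succ, pow_two, e, sub_mul, one_mul, smul_mul_assoc, e, smul_sub, smul_smul] at h
    have hc : (R.1.trace * R.1.trace - 1) • R.1 = (1 + R.1.trace) • (1 : M2) := by
      rw [sub_smul, one_smul, add_smul, one_smul]
      conv_rhs => arg 1; rw [← h]
      abel
    have hn : R.1.trace * R.1.trace - 1 ≠ 0 := by
      intro h'
      exact hne (sub_eq_zero.1 (pow_eq_zero_iff two_ne_zero |>.1
        (show (R.1.trace - 1) ^ 2 = 0 by linear_combination h' + (1 - R.1.trace) * h2F)))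
    have hs : R.1 = ((R.1.trace * R.1.trace - 1)⁻¹ * (1 + R.1.trace)) • (1 : M2) := by
      rw [← smul_smul, ← hc, smul_smul, inv_mul_cancel₀ hn, one_smul]
    have := congrArg Matrix.trace hs
    rw [Matrix.trace_smul, Matrix.trace_one, Fintype.card_fin, smul_eq_mul] at this
    exact hR0 (by rw [this]; push_cast; rw [h2F, mul_zero])
  haveI : Fact (Nat.Prime 3) := ⟨Nat.prime_three⟩
  obtain ⟨u, hu⟩ := exists_prime_orderOf_dvd_card' (G := Fˣ) 3 (by rwa [card_units_field])
  set l : F := (u : F) with hl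
  have hl3 : l ^ 3 = 1 := by rw [hl, ← Units.val_pow_eq_pow_val, ← hu, pow_orderOf_eq_one, Units.val_one]
  have hl1 : l ≠ 1 := fun h => by
    rw [show u = 1 from Units.ext h, orderOf_one] at hu; omega
  have hl2 : l ^ 2 + l + 1 = 0 :=
    (mul_eq_zero.1 (show (l - 1) * (l ^ 2 + l + 1) = 0 by linear_combination hl3)).resolve_left (sub_ne_zero.2 hl1)
  set A : SL2F := ⟨!![l, 0; 0, l * l], by rw [Matrix.det_fin_two_of]; linear_combination hl3⟩ with hA
  set B : SL2F := ⟨!![l * l, 1; 0, l], by rw [Matrix.det_fin_two_of]; linear_combination hl3⟩ with hB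
  have hAt : A.1.trace = R.1.trace := by
    simp [hRt, hA, Matrix.trace_fin_two]; linear_combination hl2 - h2F
  have hBt : B.1.trace = R.1.trace := by
    simp [hRt, hB, Matrix.trace_fin_two]; linear_combination hl2 - h2F
  have hCt : (B⁻¹ * A : SL2F).1.trace = R.1.trace := by
    rw [trace_inv_mul, hAt, hBt, hRt]
    simp [hA, hB, Matrix.trace_fin_two, Matrix.mul_apply, Fin.sum_univ_two]
    linear_combination (2 : F) * hl3 + h2F
  obtain ⟨h, hh, hhA⟩ := exists_conj_slToPG hAt.symm hR4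
  obtain ⟨y, hy, hyB⟩ := exists_conj_slToPG hBt.symm hR4
  obtain ⟨z, hz, hzC⟩ := exists_conj_slToPG hCt.symm hR4
  rw [hR] at hhA hyB hzC
  have e : h * r * h⁻¹ = y * r * y⁻¹ * (z * r * z⁻¹) := by
    rw [← hhA, ← hyB, ← hzC, map_mul, map_inv, mul_inv_cancel_left]
  refine tri_rotations hPE hg.1 hle (y := h⁻¹ * y) (z := h⁻¹ * z) ((L).mul_mem ((L).inv_mem hh) hy)
    ((L).mul_mem ((L).inv_mem hh) hz) hr hr hr ra rb ra rb ra rb r2 r2 ?_ ?_ ?_
  · calc r = h⁻¹ * (h * r * h⁻¹) * h := by group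
      _ = _ := by rw [e]; group
  · intro hc
    have h2 := hc.map (MulAut.conj h).toMonoidHom
    simp only [MulEquiv.coe_toMonoidHom, MulAut.conj_apply] at h2
    rw [show h * (h⁻¹ * y * r * (h⁻¹ * y)⁻¹) * h⁻¹ = y * r * y⁻¹ by group, ← hhA, ← hyB] at h2
    have h3 := h2.eq
    rw [← map_mul, ← map_mul, slToPG_eq_iff] at h3
    have h4 : (A * B : SL2F).1 = (B * A : SL2F).1 := by
      rcases h3 with h3 | h3 <;> rw [h3]
      rw [Matrix.SpecialLinearGroup.coe_neg, negM]
    have h5 := congrFun (congrFun h4 0) 1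
    rw [Matrix.SpecialLinearGroup.coe_mul, Matrix.SpecialLinearGroup.coe_mul] at h5
    simp [hA, hB, Matrix.mul_apply, Fin.sum_univ_two] at h5
    exact hl1 (by
      have hl0 : l ≠ 0 := fun h0 => one_ne_zero (α := F) (by linear_combination hl2 - (l + 1) * h0)
      exact mul_left_cancel₀ hl0 (by linear_combination -h5))
  · intro k hk ka _ _ _
    exact hg.1 ((hallfix k hk).1.symm.trans ka)

/-- The cases with an invariant pair. -/
theorem pair_case (hq : 3 < Nat.card F) (h5 : Nat.card F ≠ 5) {X : Subgroup PG} (hX : X ≤ L) {a b : PE}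
    (hab : a ≠ b) (hle : X ≤ pairStab a b) {g : PG} (hgX : g ∈ X) (hg1 : g ≠ 1) (ga : g • a = a) (gb : g • b = b)
    (hexc : ¬ ((∃ k, Odd k ∧ Nat.card F = 2 ^ k) ∧ Nat.card X = 3)) : Tri L X := by
  classical
  have hPE : P1Like p PG PE := p1Like_ext
  have hgood : GoodPair a b := goodPair_of_fixed hg1 hab ga gb
  obtain ⟨r₀, w₀, hr₀, hw₀, r₀a, r₀b, w₀a, w₀b, hord, hgen⟩ := torus_data hq hgood
  by_cases hrot : ∃ r ∈ X, r • a = a ∧ r • b = b ∧ r * r ≠ 1
  swap
  · push Not at hrot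
    have ho : Odd (Nat.card F) := (Nat.even_or_odd _).resolve_left fun he =>
      hg1 (rot_sq_even he hab ga gb (hrot g hgX ga gb))
    exact four_case hq h5 ho hX hgood hle hrot hgX hg1 ga gb
  obtain ⟨r, hr, ra, rb, r2⟩ := hrot
  by_cases hsw : ∃ w ∈ L, w • a = b ∧ w • b = a ∧ w ∉ X
  · obtain ⟨w, hw, wa, wb, hwX⟩ := hsw
    by_cases hsmall : Even (Nat.card F) ∧ ∀ s ∈ X, s • a = a → s • b = b → s ^ 3 = 1
    · obtain ⟨he, hcube⟩ := hsmall
      by_cases hrefl : ∃ u ∈ X, u • a = b ∧ u • b = a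
      · obtain ⟨u, hu, ua, ub⟩ := hrefl
        exact odd_case (p := p) hq hX hab hle (fun s _ sa sb s2 => rot_sq_even he hab sa sb s2) hu
          (fun h => hab (by rw [← ua, h, one_smul])) (hPE.swap_sq hab ua ub)
      · have hfix : ∀ s ∈ X, s • a = a ∧ s • b = b := fun s hs => (hle hs).resolve_right
          fun h => hrefl ⟨s, hs, h.1, h.2⟩
        have hXle : X ≤ Subgroup.zpowers r₀ := fun s hs => hgen s (hX hs) (hfix s hs).1 (hfix s hs).2
        haveI : IsCyclic X := isCyclic_of_injective (Subgroup.inclusion hXle) (Subgroup.inclusion_injective hXle)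
        obtain ⟨⟨s, hs⟩, hso⟩ := IsCyclic.exists_ofOrder_eq_natCard (α := X)
        have h3 : Nat.card X = 3 := by
          rw [← hso, Subgroup.orderOf_mk]
          refine orderOf_eq_prime (hp := ⟨Nat.prime_three⟩) (hcube s hs (hfix s hs).1 (hfix s hs).2) fun h => hg1 ?_
          rw [Subgroup.orderOf_mk, h, orderOf_one] at hso
          haveI := (Finite.card_le_one_iff_subsingleton (α := X)).1 hso.symm.le
          exact congrArg Subtype.val (Subsingleton.elim (⟨g, hgX⟩ : X) 1)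
        refine three_case (p := p) he ?_ hX hgood hle h3
        obtain ⟨k, hk0, hk⟩ := card_eq_charPow (F := F) (p := p)
        rw [(p_eq_two_iff (F := F) p).2 he] at hk
        rcases Nat.even_or_odd k with ⟨j, hj⟩ | hk'
        · rw [hk, hj, ← two_mul, pow_mul]
          simpa using Nat.sub_dvd_pow_sub_pow 4 1 j
        · exact absurd ⟨⟨k, hk', hk⟩, h3⟩ hexc
    · obtain ⟨s, hs, sa, sb, s2, s3⟩ : ∃ s ∈ X, s • a = a ∧ s • b = b ∧ s * s ≠ 1 ∧
          (Even (Nat.card F) → s ^ 3 ≠ 1) := by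
        by_cases he : Even (Nat.card F)
        · push Not at hsmall
          obtain ⟨s, hs, sa, sb, s3⟩ := hsmall he
          refine ⟨s, hs, sa, sb, fun h => s3 ?_, fun _ => s3⟩
          rw [rot_sq_even he hab sa sb h, one_pow]
        · exact ⟨r, hr, ra, rb, r2, fun h => absurd h he⟩
      exact rot_case hq hX hgood hle hs sa sb s2 s3 hw wa wb hwX
  push Not at hsw
  have hw₀X : w₀ ∈ X := hsw w₀ hw₀ w₀a w₀b
  have hfull : X = pairStab a b ⊓ L := by
    refine le_antisymm (le_inf hle hX) fun u hu => ?_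
    rcases hu.1 with ⟨ua, ub⟩ | ⟨ua, ub⟩
    · have h := hsw (w₀ * u) ((L).mul_mem hw₀ hu.2) (by rw [mul_smul, ua, w₀a]) (by rw [mul_smul, ub, w₀b])
      simpa using X.mul_mem (X.inv_mem hw₀X) h
    · exact hsw u hu.2 ua ub
  by_cases hinv : ∃ z ∈ X, z • a = a ∧ z • b = b ∧ z ≠ 1 ∧ z * z = 1
  swap
  · refine odd_case (p := p) hq hX hab hle (fun s hs sa sb s2 => ?_) hw₀X
      (fun h => hab (by rw [← w₀a, h, one_smul])) (hPE.swap_sq hab w₀a w₀b)
    by_contra h
    exact hinv ⟨s, hs, sa, sb, h, s2⟩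
  obtain ⟨z, hz, za, zb, z1, z2⟩ := hinv
  have ho : Odd (Nat.card F) := (Nat.even_or_odd _).resolve_left fun he => z1 (rot_sq_even he hab za zb z2)
  by_cases h4 : ∃ s ∈ X, s • a = a ∧ s • b = b ∧ s ^ 4 ≠ 1
  · obtain ⟨s, hs, sa, sb, s4⟩ := h4
    exact normalizer_case hq ho hgood hfull hz z1 z2 za zb hs sa sb s4
  push Not at h4
  have hr₀X : r₀ ∈ X := by rw [hfull]; exact ⟨.inl ⟨r₀a, r₀b⟩, hr₀⟩
  have r04 := h4 r₀ hr₀X r₀a r₀b
  have r02 : r₀ * r₀ ≠ 1 := by
    intro h
    obtain ⟨j, hj⟩ := hgen r (hX hr) ra rb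
    refine r2 ?_
    rw [← hj, ← (Commute.refl r₀).mul_zpow, h, _root_.one_zpow]
  have ho4 : orderOf r₀ = 4 := orderOf_eq_prime_pow (p := 2) (n := 1)
    (by rw [pow_one, pow_two]; exact r02) (by norm_num; exact r04)
  refine order_eight_case hq ho hX hgood hle hr₀X r₀a r₀b r02 r04 ?_
  obtain ⟨k, hk⟩ := ho
  rw [ho4, gcd_two_card_sub_one_of_odd ⟨k, hk⟩, torusCard] at hord
  split_ifs at hord <;> omega

end CfsgLib.CharsMore.BinaryPSL2
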