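import Cfsg.Agent.Lib.CharsMore.BinaryPSL2.Axis
import Cfsg.Agent.Lib.CharsMore.BinaryPSL2.MatTools
import Cfsg.Agent.Lib.PSL2.Four

/-!
# Rotations, swaps and involutions of `PSL₂(F)`
-/

set_option autoImplicit false
set_option linter.unusedSectionVars false

namespace CfsgLib.CharsMore.BinaryPSL2

open Matrix MulAction CfsgLib.PSL2 CfsgLib.Classical
open scoped LinearAlgebra.Projectivization

variable {F : Type*} [Field F] [Finite F] {p : ℕ} [Fact p.Prime] [CharP F p]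

local notation "SL2F" => Matrix.SpecialLinearGroup (Fin 2) F
local notation "M2" => Matrix (Fin 2) (Fin 2) F
local notation "PG" => Matrix.ProjGenLinGroup (Fin 2) F
local notation "PE" => ℙ (Ext2 F p) (Fin 2 → Ext2 F p)
local notation "L" => pslRange F

variable (p) in
theorem p_eq_two_iff : p = 2 ↔ Even (Nat.card F) := by
  obtain ⟨k, hk0, hk⟩ := card_eq_charPow (F := F) (p := p)
  rw [hk, Nat.even_pow' hk0.ne']
  exact ⟨fun h => by rw [h]; exact even_two, fun h => (Fact.out : p.Prime).even_iff.1 h⟩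

theorem two_ne_zero_of_odd (h : Odd (Nat.card F)) : (2 : F) ≠ 0 := two_ne_zero_of_odd_card h

theorem two_eq_zero_of_even (h : Even (Nat.card F)) : (2 : F) = 0 := by
  obtain ⟨p, hp⟩ := CharP.exists F
  haveI : Fact p.Prime := ⟨CharP.char_is_prime F p⟩
  have := (p_eq_two_iff (F := F) p).2 h
  subst this
  exact_mod_cast CharP.cast_eq_zero F 2

/-- A lift of an element with two fixed points and non-trivial square. -/
theorem rot_trace {a b : PE} (hab : a ≠ b) {s : SL2F} (ha : slToPG s • a = a) (hb : slToPG s • b = b)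
    (h2 : slToPG s * slToPG s ≠ 1) : s.1.trace ≠ 0 ∧ s.1.trace ^ 2 ≠ 4 := by
  have hPE : P1Like p PG PE := p1Like_ext
  have h0 := lift_sq h2
  refine ⟨h0, fun h4 => ?_⟩
  have hne : slToPG s ≠ 1 := fun h => h2 (by rw [h, one_mul])
  by_cases hd : (2 : F) = 0
  · exact h0 (pow_eq_zero_iff two_ne_zero |>.1 (by rw [h4, show (4 : F) = 2 * 2 by norm_num, hd, mul_zero]))
  set c : F := s.1.trace / 2 with hc
  have hc2 : c * c = 1 := by
    rw [hc]; field_simp; linear_combination h4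
  set N : M2 := s.1 - c • 1 with hN
  have hN2 : N * N = 0 := by
    have ht : s.1.trace = 2 * c := by rw [hc]; field_simp
    rw [hN, sub_mul, mul_sub, mul_sub, smul_mul_assoc, one_mul, mul_smul_comm, mul_one, smul_mul_assoc, one_mul,
      CfsgLib.GLTwo.sq_eq, s.2, ht, one_smul, smul_smul, hc2, one_smul, two_mul, add_smul]
    abel
  haveI : CharP M2 p := inferInstance
  have hp : s.1 ^ p = c ^ p • (1 : M2) := by
    have h := sub_pow_char_of_commute p (x := s.1) (y := c • (1 : M2)) ((Commute.one_right _).smul_right c)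
    rw [← hN, smul_pow, one_pow, show N ^ p = 0 by
      obtain ⟨j, hj⟩ := Nat.le.dest (Fact.out : p.Prime).two_le
      rw [← hj, pow_add, pow_two, hN2, zero_mul]] at h
    exact sub_eq_zero.1 h.symm
  refine hab (hPE.unique_fix hne ?_ ha hb)
  rw [← map_pow, slToPG_eq_one_iff, Matrix.SpecialLinearGroup.coe_pow, hp]
  rcases mul_self_eq_one_iff.1 (show c ^ p * c ^ p = 1 by rw [← mul_pow, hc2, one_pow]) with h | h
  · exact .inl (by rw [h, one_smul])
  · exact .inr (by rw [h, neg_one_smul])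

/-- A generator of the pointwise stabiliser in `PSL₂` and a swap. -/
theorem torus_data (hq : 3 < Nat.card F) {a b : PE} (hg : GoodPair a b) :
    ∃ r w : PG, r ∈ L ∧ w ∈ L ∧ r • a = a ∧ r • b = b ∧ w • a = b ∧ w • b = a ∧
      orderOf r = torusCard a / Nat.gcd 2 (Nat.card F - 1) ∧
      ∀ g ∈ L, g • a = a → g • b = b → g ∈ Subgroup.zpowers r := by
  obtain ⟨r, w, hr, hw, ra, rb, wa, wb, ho, hz, -, -⟩ := torus_psl hg (fun _ => by omega)
  refine ⟨r, w, hr, hw, ra, rb, wa, wb, ho, fun g hgL ga gb => ?_⟩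
  rw [← hz]
  exact ⟨⟨ga, gb⟩, hgL⟩

theorem torusCard_odd (hodd : Odd (Nat.card F)) (a : PE) : 2 ∣ torusCard a := by
  obtain ⟨k, hk⟩ := hodd
  rw [torusCard]; split_ifs <;> omega

theorem torus_ge (hodd : Odd (Nat.card F)) (a : PE) :
    (Nat.card F - 1) / 2 ≤ torusCard a / Nat.gcd 2 (Nat.card F - 1) := by
  rw [gcd_two_card_sub_one_of_odd hodd, torusCard]
  split_ifs <;> omega

/-- All involutions of `PSL₂(F)` are conjugate in it, for odd `q`. -/
theorem invol_conj_odd (hodd : Odd (Nat.card F)) {u v : PG} (hu : u ∈ L) (hv : v ∈ L) (u1 : u ≠ 1) (v1 : v ≠ 1)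
    (u2 : u * u = 1) (v2 : v * v = 1) : ∃ y ∈ L, v = y * u * y⁻¹ := by
  have h2 := two_ne_zero_of_odd hodd
  have key : ∀ {g : PG}, g ∈ L → g ≠ 1 → g * g = 1 → ∃ s : SL2F, slToPG s = g ∧ s.1.trace = 0 := by
    intro g hg g1 g2
    obtain ⟨s, rfl⟩ := exists_lift hg
    refine ⟨s, rfl, ?_⟩
    rw [← map_mul, slToPG_eq_one_iff, Matrix.SpecialLinearGroup.coe_mul, CfsgLib.GLTwo.sq_eq, s.2, one_smul] at g2
    by_contra h0
    refine g1 (slToPG_eq_one_iff.2 ?_)
    obtain ⟨c, hc⟩ : ∃ c : F, s.1.trace • s.1 = c • (1 : M2) := by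
      rcases g2 with h | h
      · exact ⟨2, by rw [sub_eq_iff_eq_add] at h; rw [h, two_smul]⟩
      · exact ⟨0, by rw [zero_smul]; exact sub_eq_neg_self.1 h⟩
    have hs : s.1 = (s.1.trace⁻¹ * c) • (1 : M2) := by
      rw [← smul_smul, ← hc, smul_smul, inv_mul_cancel₀ h0, one_smul]
    exact scalar_cases hs
  obtain ⟨s, rfl, hs⟩ := key hu u1 u2
  obtain ⟨t, rfl, ht⟩ := key hv v1 v2
  refine exists_conj_slToPG (hs.trans ht.symm) ?_
  rw [hs, zero_pow two_ne_zero]
  exact fun h => h2 (pow_eq_zero_iff two_ne_zero |>.1 (show (2 : F) ^ 2 = 0 by rw [h]; norm_num))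

/-- All involutions are conjugate to a translation, for even `q`. -/
theorem invol_conj_even (he : Even (Nat.card F)) {u : PG} (u1 : u ≠ 1) (u2 : u * u = 1) {t : F} (ht : t ≠ 0) :
    ∃ y ∈ L, affP 1 t = y * u * y⁻¹ := by
  obtain ⟨p, hp⟩ := CharP.exists F
  haveI : Fact p.Prime := ⟨CharP.char_is_prime F p⟩
  have := (p_eq_two_iff (F := F) p).2 he
  subst this
  have hup : u ^ 2 = 1 := by rw [pow_two, u2]
  obtain ⟨x, hx⟩ := exists_rational_fix 2 hup
  obtain ⟨k, hk⟩ := exists_to_inf x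
  obtain ⟨c, s, hcs⟩ := exists_affP_of_fix (g := k⁻¹ * u * k) (conj_smul_eq hk hx)
  have hc : c = 1 := (affP_pow_eq_one_iff 2 c s).1 (by rw [← hcs, conj_pow_eq_one_iff, hup])
  subst hc
  have hs : s ≠ 0 := fun h => u1 (by
    rw [h, affP_one] at hcs
    calc u = k * (k⁻¹ * u * k) * k⁻¹ := by group
      _ = 1 := by rw [hcs]; group)
  refine ⟨affP (Units.mk0 (t / s) (div_ne_zero ht hs)) 0 * k⁻¹, by rw [pslRange_eq_top_of_even he]; trivial, ?_⟩
  rw [show affP (Units.mk0 (t / s) (div_ne_zero ht hs)) 0 * k⁻¹ * u * (affP (Units.mk0 (t / s) (div_ne_zero ht hs)) 0 * k⁻¹)⁻¹ =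
    affP (Units.mk0 (t / s) (div_ne_zero ht hs)) 0 * (k⁻¹ * u * k) * (affP (Units.mk0 (t / s) (div_ne_zero ht hs)) 0)⁻¹ by group,
    hcs, affP_inv, affP_mul, affP_mul]
  simp [hs]

/-- Two lifted factors conjugate to a given element. -/
theorem split_conj {A B : SL2F} (h4 : A.1.trace ^ 2 ≠ 4) (hB : B.1.trace = A.1.trace)
    (hC : (B⁻¹ * A : SL2F).1.trace = A.1.trace) :
    ∃ y z : PG, y ∈ L ∧ z ∈ L ∧ slToPG B = y * slToPG A * y⁻¹ ∧
      slToPG A = y * slToPG A * y⁻¹ * (z * slToPG A * z⁻¹) := by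
  obtain ⟨y, hy, hyB⟩ := exists_conj_slToPG hB.symm h4
  obtain ⟨z, hz, hzC⟩ := exists_conj_slToPG hC.symm h4
  exact ⟨y, z, hy, hz, hyB, by rw [← hyB, ← hzC, map_mul, map_inv, mul_inv_cancel_left]⟩

/-- A third root of `-1` type element has order three in characteristic two. -/
theorem cube_of_trace_one (h2 : (2 : F) = 0) {s : SL2F} (h : s.1.trace = 1) : slToPG s ^ 3 = 1 := by
  rw [← map_pow, slToPG_eq_one_iff, Matrix.SpecialLinearGroup.coe_pow]
  refine .inr ?_
  have e := CfsgLib.GLTwo.sq_eq s.1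
  rw [h, one_smul, s.2, one_smul] at e
  rw [pow_succ, pow_two, e, sub_mul, one_mul, e]
  abel

end CfsgLib.CharsMore.BinaryPSL2
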