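import Cfsg.Agent.Lib.CharsMore.BinaryPSL2.Criterion

/-!
# Finite facts about `A₄`, `S₄` and `A₅`
-/

set_option autoImplicit false
set_option maxRecDepth 20000
set_option maxHeartbeats 1000000
set_option synthInstance.maxSize 2000
set_option synthInstance.maxHeartbeats 200000

namespace CfsgLib.CharsMore.BinaryPSL2

open Equiv

namespace Small

/-- Membership in the subgroup generated by an element of order three. -/
def InThree {W : Type*} [Group W] (a w : W) : Prop := w = 1 ∨ w = a ∨ w = a * a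

/-- Membership in the subgroup generated by an element of order five. -/
def InFive {W : Type*} [Group W] (a w : W) : Prop :=
  w = 1 ∨ w = a ∨ w = a * a ∨ w = a * a * a ∨ w = a * a * a * a

section General

variable {W : Type*} [Group W]

theorem inThree_iff {a w : W} (ha : a * a * a = 1) : InThree a w ↔ w ∈ Subgroup.zpowers a := by
  constructor
  · rintro (rfl | rfl | rfl)
    exacts [one_mem _, Subgroup.mem_zpowers _, mul_mem (Subgroup.mem_zpowers _) (Subgroup.mem_zpowers _)]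
  · rintro ⟨j, rfl⟩
    have h3 : a ^ (3 : ℤ) = 1 := by rw [show (3 : ℤ) = ((3 : ℕ) : ℤ) from rfl, zpow_natCast, pow_succ, pow_two, ha]
    have hj : a ^ j = a ^ (j % 3) := by
      conv_lhs => rw [← Int.emod_add_mul_ediv j 3]
      rw [zpow_add, zpow_mul, h3, one_zpow, mul_one]
    show InThree a (a ^ j)
    rw [hj]
    rcases (by omega : j % 3 = 0 ∨ j % 3 = 1 ∨ j % 3 = 2) with e | e | e <;> rw [e]
    · exact .inl (zpow_zero a)
    · exact .inr (.inl (zpow_one a))
    · exact .inr (.inr (zpow_two a))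

theorem inFive_iff {a w : W} (ha : a * a * a * a * a = 1) : InFive a w ↔ w ∈ Subgroup.zpowers a := by
  have h := Subgroup.mem_zpowers a
  constructor
  · rintro (rfl | rfl | rfl | rfl | rfl)
    exacts [one_mem _, h, mul_mem h h, mul_mem (mul_mem h h) h, mul_mem (mul_mem (mul_mem h h) h) h]
  · rintro ⟨j, rfl⟩
    have h5 : a ^ (5 : ℤ) = 1 := by
      rw [show (5 : ℤ) = ((5 : ℕ) : ℤ) from rfl, zpow_natCast, pow_succ, pow_succ, pow_succ, pow_two, ha]
    have hj : a ^ j = a ^ (j % 5) := by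
      conv_lhs => rw [← Int.emod_add_mul_ediv j 5]
      rw [zpow_add, zpow_mul, h5, one_zpow, mul_one]
    show InFive a (a ^ j)
    rw [hj]
    rcases (by omega : j % 5 = 0 ∨ j % 5 = 1 ∨ j % 5 = 2 ∨ j % 5 = 3 ∨ j % 5 = 4) with e | e | e | e | e <;> rw [e]
    · exact .inl (zpow_zero a)
    · exact .inr (.inl (zpow_one a))
    · exact .inr (.inr (.inl (zpow_two a)))
    · exact .inr (.inr (.inr (.inl (by rw [show (3 : ℤ) = 2 + 1 from rfl, zpow_add_one, zpow_two]))))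
    · exact .inr (.inr (.inr (.inr (by rw [show (4 : ℤ) = 2 + 1 + 1 from rfl, zpow_add_one, zpow_add_one, zpow_two]))))

/-- A triple for a subgroup given by a membership predicate, transported by conjugation. -/
theorem tri_of_pred {P : W → W → Prop} {D : Subgroup W} {a₀ a h : W} (hD : ∀ w, w ∈ D ↔ P a w)
    (hconj : ∀ w, P a w ↔ P a₀ (h⁻¹ * w * h)) (y z u c : W)
    (hw : P a₀ u ∧ P a₀ (z⁻¹ * c * z) ∧ P a₀ (y⁻¹ * (u * c⁻¹) * y) ∧
      ∀ k, P a₀ k → P a₀ (y⁻¹ * k * y) → P a₀ (z⁻¹ * (k⁻¹ * u) * z) → False) : Tri ⊤ D := by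
  obtain ⟨hu, hc, hb, hk⟩ := hw
  refine Tri.of_conj h⁻¹ ?_
  have mem : ∀ w, w ∈ D.map (MulAut.conj h⁻¹).toMonoidHom ↔ P a₀ w := by
    intro w
    rw [Subgroup.mem_map_equiv, MulAut.conj_symm_apply, inv_inv, hD, hconj]
    simp [mul_assoc]
  exact ⟨y, z, u, c, trivial, trivial, (mem _).2 hu, (mem _).2 hc, (mem _).2 hb,
    fun k h1 h2 h3 => hk k ((mem _).1 h1) ((mem _).1 h2) ((mem _).1 h3)⟩

theorem inThree_conj {a a₀ h : W} (he : a = h * a₀ * h⁻¹ ∨ a = h * (a₀ * a₀) * h⁻¹) (ha : a₀ * a₀ * a₀ = 1) (w : W) :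
    InThree a w ↔ InThree a₀ (h⁻¹ * w * h) := by
  have hz : Subgroup.zpowers a = (Subgroup.zpowers a₀).map (MulAut.conj h).toMonoidHom := by
    rw [MonoidHom.map_zpowers]
    rcases he with rfl | rfl
    · rfl
    · have e : a₀ * a₀ = a₀⁻¹ := eq_inv_of_mul_eq_one_left ha
      show Subgroup.zpowers (h * (a₀ * a₀) * h⁻¹) = Subgroup.zpowers (h * a₀ * h⁻¹)
      rw [e, show h * a₀⁻¹ * h⁻¹ = (h * a₀ * h⁻¹)⁻¹ by group, Subgroup.zpowers_inv]
  have haa : a * a * a = 1 := by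
    rcases he with rfl | rfl
    · rw [show h * a₀ * h⁻¹ * (h * a₀ * h⁻¹) * (h * a₀ * h⁻¹) = h * (a₀ * a₀ * a₀) * h⁻¹ by group, ha]; group
    · rw [show h * (a₀ * a₀) * h⁻¹ * (h * (a₀ * a₀) * h⁻¹) * (h * (a₀ * a₀) * h⁻¹) =
        h * (a₀ * a₀ * a₀ * (a₀ * a₀ * a₀)) * h⁻¹ by group, ha]; group
  rw [inThree_iff ha, inThree_iff haa, hz, Subgroup.mem_map_equiv, MulAut.conj_symm_apply]

theorem inFive_conj {a a₀ h : W} (hz : Subgroup.zpowers a = (Subgroup.zpowers a₀).map (MulAut.conj h).toMonoidHom)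
    (ha : a * a * a * a * a = 1) (ha₀ : a₀ * a₀ * a₀ * a₀ * a₀ = 1) (w : W) :
    InFive a w ↔ InFive a₀ (h⁻¹ * w * h) := by
  rw [inFive_iff ha, inFive_iff ha₀, hz, Subgroup.mem_map_equiv, MulAut.conj_symm_apply]

/-- `v` is an involution whose conjugate under `a` is a different commuting involution. -/
def IsV (a v : W) : Prop :=
  v * v = 1 ∧ v ≠ 1 ∧ a * v * a⁻¹ ≠ v ∧ a * v * a⁻¹ * v = v * (a * v * a⁻¹)

/-- `v` inverts `a`. -/
def Inverts (a v : W) : Prop := v * a * v⁻¹ = a⁻¹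

end General

/-- Membership in the normaliser of a subgroup of order three. -/
def InNormThree {W : Type*} [Group W] (a w : W) : Prop := w * a * w⁻¹ = a ∨ w * a * w⁻¹ = a⁻¹

instance {W : Type*} [Group W] [DecidableEq W] (a w : W) : Decidable (InThree a w) := by
  unfold InThree; infer_instance
instance {W : Type*} [Group W] [DecidableEq W] (a w : W) : Decidable (InFive a w) := by
  unfold InFive; infer_instance
instance {W : Type*} [Group W] [DecidableEq W] (a w : W) : Decidable (IsV a w) := by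
  unfold IsV; infer_instance
instance {W : Type*} [Group W] [DecidableEq W] (a w : W) : Decidable (Inverts a w) := by
  unfold Inverts; infer_instance
instance {W : Type*} [Group W] [DecidableEq W] (a w : W) : Decidable (InNormThree a w) := by
  unfold InNormThree; infer_instance

/-- An even permutation. -/
def ev {n : ℕ} (f : Equiv.Perm (Fin n)) (h : Equiv.Perm.sign f = 1) : alternatingGroup (Fin n) :=
  ⟨f, Equiv.Perm.mem_alternatingGroup.mpr h⟩

def a012 : alternatingGroup (Fin 4) := ev (c[0, 1, 2]) (by decide)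
def a013 : alternatingGroup (Fin 4) := ev (c[0, 1, 3]) (by decide)
def a123 : alternatingGroup (Fin 4) := ev (c[1, 2, 3]) (by decide)
def a132 : alternatingGroup (Fin 4) := ev (c[1, 3, 2]) (by decide)

theorem conj_A4 : ∀ a : alternatingGroup (Fin 4), a * a * a = 1 → a ≠ 1 →
    ∃ h, a = h * a012 * h⁻¹ ∨ a = h * (a012 * a012) * h⁻¹ := by decide +kernel

theorem wit_A4 : InThree a012 a012 ∧ InThree a012 (a132⁻¹ * a013 * a132) ∧
    InThree a012 (a123⁻¹ * (a012 * a013⁻¹) * a123) ∧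
    ∀ k, InThree a012 k → InThree a012 (a123⁻¹ * k * a123) → InThree a012 (a132⁻¹ * (k⁻¹ * a012) * a132) →
      False := by decide +kernel

theorem tri_A4 {a : alternatingGroup (Fin 4)} (ha : a * a * a = 1) (h1 : a ≠ 1) : Tri ⊤ (Subgroup.zpowers a) := by
  obtain ⟨h, he⟩ := conj_A4 a ha h1
  exact tri_of_pred (P := InThree) (fun w => (inThree_iff ha).symm) (inThree_conj he (by decide +kernel)) _ _ _ _ wit_A4

theorem word_A4 : ∀ a d : alternatingGroup (Fin 4), a * a * a = 1 → a ≠ 1 → ¬ InThree a d →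
    IsV a (a * d * a⁻¹ * d⁻¹) := by decide +kernel

theorem unique_A4 : ∀ a x y : alternatingGroup (Fin 4), IsV a x → y * y = 1 → y ≠ 1 →
    y = x ∨ y = a * x * a⁻¹ ∨ y = a⁻¹ * x * a := by decide +kernel

theorem involution_A4 : ∀ a x : alternatingGroup (Fin 4), a * a * a = 1 → a ≠ 1 → x * x = 1 → x ≠ 1 → IsV a x := by
  decide +kernel

theorem exists_A4 : ∃ a x : alternatingGroup (Fin 4), a * a * a = 1 ∧ a ≠ 1 ∧ x * x = 1 ∧ x ≠ 1 := by decide +kernel

theorem dichotomy_A4 : ∀ x k : alternatingGroup (Fin 4), x * x = 1 → k * k * k ≠ 1 →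
    k * k = 1 ∧ k * x = x * k := by decide +kernel

def s23 : Equiv.Perm (Fin 4) := c[2, 3]
def s123 : Equiv.Perm (Fin 4) := c[1, 2, 3]
def s021 : Equiv.Perm (Fin 4) := c[0, 2, 1]
def s023 : Equiv.Perm (Fin 4) := c[0, 2, 3]
def s012 : Equiv.Perm (Fin 4) := c[0, 1, 2]

theorem conj_S4 : ∀ a : Equiv.Perm (Fin 4), a * a * a = 1 → a ≠ 1 →
    ∃ h, a = h * s012 * h⁻¹ ∨ a = h * (s012 * s012) * h⁻¹ := by decide +kernel

theorem wit_S4 : InThree s012 s021 ∧ InThree s012 (s123⁻¹ * s023 * s123) ∧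
    InThree s012 (s23⁻¹ * (s021 * s023⁻¹) * s23) ∧
    ∀ k, InThree s012 k → InThree s012 (s23⁻¹ * k * s23) → InThree s012 (s123⁻¹ * (k⁻¹ * s021) * s123) →
      False := by decide +kernel

theorem tri_S4 {a : Equiv.Perm (Fin 4)} (ha : a * a * a = 1) (h1 : a ≠ 1) : Tri ⊤ (Subgroup.zpowers a) := by
  obtain ⟨h, he⟩ := conj_S4 a ha h1
  exact tri_of_pred (P := InThree) (fun w => (inThree_iff ha).symm) (inThree_conj he (by decide +kernel)) _ _ _ _ wit_S4

theorem word_S4 : ∀ a d : Equiv.Perm (Fin 4), a * a * a = 1 → a ≠ 1 → ¬ InThree a d →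
    IsV a (d * a * d⁻¹ * a⁻¹ * d⁻¹ * d⁻¹ * d⁻¹) ∨ Inverts a (d * a * d⁻¹ * a⁻¹ * d⁻¹ * d⁻¹ * d⁻¹) := by
  decide +kernel

theorem unique_S4 : ∀ a x y : Equiv.Perm (Fin 4), a * a * a = 1 → a ≠ 1 → IsV a x → IsV a y →
    y = x ∨ y = a * x * a⁻¹ ∨ y = a⁻¹ * x * a := by decide +kernel

theorem exists_S4 : ∃ a x : Equiv.Perm (Fin 4), a * a * a = 1 ∧ a ≠ 1 ∧ IsV a x := by decide +kernel

end Small

end CfsgLib.CharsMore.BinaryPSL2
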