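import Cfsg.Agent.Lib.CharsMore.BinaryPSL2.Borel
import Cfsg.Agent.Lib.PSL2.SubfieldCase

/-!
# Subfield groups
-/

set_option autoImplicit false
set_option linter.unusedSectionVars false

namespace CfsgLib.CharsMore.BinaryPSL2

open Matrix MulAction CfsgLib.PSL2 CfsgLib.Classical
open scoped LinearAlgebra.Projectivization

variable {F : Type*} [Field F] [Finite F]

local notation "SL2F" => Matrix.SpecialLinearGroup (Fin 2) F
local notation "M2" => Matrix (Fin 2) (Fin 2) F
local notation "PG" => Matrix.ProjGenLinGroup (Fin 2) F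
local notation "P1" => ℙ F (Fin 2 → F)
local notation "L" => pslRange F

/-- Two field elements suitable for three dilated copies of a subfield. -/
theorem exists_dilations {K : Subfield F} (hK : K ≠ ⊤) (h9 : ¬ (Nat.card F = 9 ∧ Nat.card K = 3)) :
    ∃ r t : Fˣ, (r : F) ∉ K ∧ (t : F) ∉ K ∧ IsSquare (r : F) ∧ IsSquare (t : F) ∧
      ∃ x ∈ K, 1 - (r : F) = (t : F) * x := by
  classical
  haveI := Fintype.ofFinite F
  haveI := Fintype.ofFinite K
  obtain ⟨a, ha⟩ : ∃ a : F, a ∉ K := by
    by_contra! h
    exact hK (eq_top_iff.2 fun x _ => h x)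
  have ne0 : ∀ {x : F}, x ∉ K → x ≠ 0 := fun hx h => hx (h ▸ K.zero_mem)
  have one_sub : ∀ {x : F}, x ∉ K → 1 - x ∉ K := fun hx h => hx (by simpa using K.sub_mem K.one_mem h)
  by_cases h2 : (2 : F) = 0
  · haveI : CharP F 2 := CharTwo.of_one_ne_zero_of_two_eq_zero one_ne_zero h2
    exact ⟨Units.mk0 a (ne0 ha), Units.mk0 (1 - a) (ne0 (one_sub ha)), ha, one_sub ha,
      FiniteField.isSquare_of_char_two (ringChar.eq F 2) _, FiniteField.isSquare_of_char_two (ringChar.eq F 2) _,
      1, K.one_mem, (mul_one _).symm⟩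
  have hodd : Odd (Nat.card F) := (Nat.even_or_odd _).resolve_left fun he => h2 (by
    obtain ⟨p, hp⟩ := CharP.exists F
    haveI : Fact p.Prime := ⟨CharP.char_is_prime F p⟩
    obtain ⟨k, hk0, hk⟩ := card_eq_charPow (F := F) (p := p)
    rw [hk, Nat.even_pow' hk0.ne'] at he
    have := (Fact.out : p.Prime).even_iff.1 he
    subst this
    exact_mod_cast CharP.cast_eq_zero F 2)
  have hF2 : ringChar F ≠ 2 := fun h => h2 (by
    have := ringChar.Nat.cast_ringChar (R := F)
    rw [h] at this
    exact_mod_cast this)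
  set Q := Nat.card K with hQ
  set q := Nat.card F with hq
  have hQQ : Q * Q ≤ q := by
    rw [hQ, hq, Module.natCard_eq_pow_finrank (K := K) (V := F), ← pow_two]
    exact Nat.pow_le_pow_right Nat.card_pos (two_le_finrank hK)
  have hQ3 : 3 ≤ Q := by
    rw [hQ, Nat.card_eq_fintype_card]
    have h2K : (2 : K) ≠ 0 := fun h => h2 (by
      have h' := congrArg Subtype.val h
      rwa [show ((2 : K) : F) = 2 from map_ofNat K.subtype 2, ZeroMemClass.coe_zero] at h')
    exact Fintype.two_lt_card_iff.2 ⟨0, 1, -1, zero_ne_one, by simp,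
      fun h => h2K (by linear_combination h)⟩
  by_cases hns : ∃ n : F, n ∈ K ∧ ¬ IsSquare n
  · obtain ⟨n, hnK, hn⟩ := hns
    have hn0 : n ≠ 0 := fun h => hn (h ▸ IsSquare.zero)
    obtain ⟨r, hrs, hr⟩ : ∃ r : F, IsSquare r ∧ r ∉ K := by
      by_contra! h
      have h1 : Fintype.card F ≤ 2 * Fintype.card K := by
        have hh := Finset.card_le_mul_card_image (Finset.univ : Finset F)
          (f := fun x : F => (⟨x * x, h _ ⟨x, rfl⟩⟩ : K)) 2 (fun y _ => by
            obtain ⟨y, hy⟩ := y
            by_cases hex : ∃ x : F, x * x = y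
            · obtain ⟨x, rfl⟩ := hex
              refine (Finset.card_le_card (t := {x, -x}) fun z hz => ?_).trans Finset.card_le_two
              simp only [Finset.mem_filter, Finset.mem_univ, true_and, Subtype.mk.injEq] at hz
              simpa using mul_self_eq_mul_self_iff.1 hz
            · rw [Finset.card_eq_zero.2 (Finset.filter_eq_empty_iff.2 fun z _ hz =>
                hex ⟨z, congrArg Subtype.val hz⟩)]
              omega)
        rw [Finset.card_univ] at hh
        exact hh.trans (Nat.mul_le_mul_left _ (Finset.card_le_univ _))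
      rw [← Nat.card_eq_fintype_card, ← Nat.card_eq_fintype_card, ← hq, ← hQ] at h1
      have := Nat.mul_le_mul_right Q hQ3
      omega
    by_cases hsq : IsSquare (1 - r)
    · exact ⟨Units.mk0 r (ne0 hr), Units.mk0 (1 - r) (ne0 (one_sub hr)), hr, one_sub hr, hrs, hsq, 1, K.one_mem,
        (mul_one _).symm⟩
    · have htK : (1 - r) / n ∉ K := fun h => one_sub hr (by simpa [hn0] using K.mul_mem h hnK)
      refine ⟨Units.mk0 r (ne0 hr), Units.mk0 ((1 - r) / n) (ne0 htK), hr, htK, hrs, ?_, n, hnK,
        (div_mul_cancel₀ _ hn0).symm⟩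
      show IsSquare ((1 - r) / n)
      have hd := div_ne_zero (ne0 (one_sub hr)) hn0
      rw [FiniteField.isSquare_iff hF2 hd, div_pow]
      rw [(FiniteField.pow_dichotomy hF2 (ne0 (one_sub hr))).resolve_left fun h => hsq
          ((FiniteField.isSquare_iff hF2 (ne0 (one_sub hr))).2 h),
        (FiniteField.pow_dichotomy hF2 hn0).resolve_left fun h => hn ((FiniteField.isSquare_iff hF2 hn0).2 h)]
      norm_num
  push Not at hns
  obtain ⟨u, hu1, huK⟩ : ∃ u : F, u * u + 1 ≠ 0 ∧ (2 * u / (1 + u * u)) * (2 * u / (1 + u * u)) ∉ K := by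
    by_contra! hbad
    let P : K → Polynomial F := fun x =>
      Polynomial.C (x : F) * (Polynomial.X ^ 2 + 1) ^ 2 - Polynomial.C 4 * Polynomial.X ^ 2
    have h4 : (4 : F) ≠ 0 := by rw [show (4 : F) = 2 * 2 by norm_num]; exact mul_ne_zero h2 h2
    have hP0 : ∀ x, P x ≠ 0 := by
      intro x h
      have e0 := congrArg (Polynomial.eval 0) h
      simp [P] at e0
      have e1 := congrArg (Polynomial.eval 1) h
      simp [P, e0] at e1
      exact h4 e1
    have hPd : ∀ x, (P x).natDegree ≤ 4 := fun x => by simp only [P]; compute_degree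
    let S : Finset F := (Finset.univ.filter fun u : F => u * u + 1 = 0) ∪
      Finset.univ.biUnion fun x : K => (P x).roots.toFinset
    have hall : (Finset.univ : Finset F) ⊆ S := by
      intro u _
      simp only [S, Finset.mem_union, Finset.mem_filter, Finset.mem_univ, true_and, Finset.mem_biUnion,
        Multiset.mem_toFinset]
      by_cases h : u * u + 1 = 0
      · exact .inl h
      · refine .inr ⟨⟨_, hbad u h⟩, (Polynomial.mem_roots (hP0 _)).2 ?_⟩
        have h' : 1 + u * u ≠ 0 := by rwa [add_comm]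
        have e : (2 * u / (1 + u * u)) * (2 * u / (1 + u * u)) * ((1 + u * u) * (1 + u * u)) = 4 * u * u := by
          rw [div_mul_div_comm, div_mul_cancel₀ _ (mul_ne_zero h' h')]; ring
        simp [P]
        linear_combination e
    have hc := (Finset.card_le_card hall).trans (Finset.card_union_le _ _)
    have hm : (Finset.univ.filter fun u : F => u * u + 1 = 0).card ≤ 2 := by
      by_cases hex : ∃ i : F, i * i + 1 = 0
      · obtain ⟨i, hi⟩ := hex
        refine (Finset.card_le_card (t := {i, -i}) fun z hz => ?_).trans Finset.card_le_two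
        simp only [Finset.mem_filter, Finset.mem_univ, true_and] at hz
        simpa using mul_self_eq_mul_self_iff.1 (show z * z = i * i by linear_combination hz - hi)
      · rw [Finset.card_eq_zero.2 (Finset.filter_eq_empty_iff.2 fun z _ hz => hex ⟨z, hz⟩)]
        omega
    have hb : (Finset.univ.biUnion fun x : K => (P x).roots.toFinset).card ≤ Fintype.card K * 4 :=
      Finset.card_biUnion_le_card_mul _ _ _ fun x _ =>
        (Multiset.toFinset_card_le _).trans ((Polynomial.card_roots' _).trans (hPd x))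
    rw [Finset.card_univ] at hc
    rw [← Nat.card_eq_fintype_card, ← hQ] at hb
    rw [← Nat.card_eq_fintype_card, ← hq] at hc
    rcases Nat.lt_or_ge Q 5 with h5 | h5
    · -- `Q = 3`, and `q ≥ 27`
      obtain ⟨p, hp⟩ := CharP.exists F
      haveI : Fact p.Prime := ⟨CharP.char_is_prime F p⟩
      haveI : CharP K p := (RingHom.charP_iff_charP K.subtype p).2 inferInstance
      obtain ⟨k, hk0, hk⟩ := card_eq_charPow (F := F) (p := p)
      obtain ⟨j, hj0, hj⟩ := card_eq_charPow (F := K) (p := p)
      rw [← hQ] at hj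
      rw [← hq] at hk
      have hp2 : p ≠ 2 := fun h => h2 (by subst h; exact_mod_cast CharP.cast_eq_zero F 2)
      have hp3 : 3 ≤ p := by have := (Fact.out : p.Prime).two_le; omega
      have hj1 : j = 1 := by
        by_contra hne
        have := Nat.pow_le_pow_right (show 0 < p by omega) (show 2 ≤ j by omega)
        have := Nat.pow_le_pow_left hp3 2
        omega
      subst hj1
      rw [pow_one] at hj
      have hp34 : p = 3 := by
        have : p < 5 := hj ▸ h5
        interval_cases p
        · rfl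
        · exact absurd (Fact.out : Nat.Prime 4) (by norm_num)
      subst hp34
      rw [hj] at hQQ hb
      rcases Nat.lt_or_ge k 3 with hk3 | hk3
      · interval_cases k
        · omega
        · exact h9 ⟨hk, hj⟩
      · have := Nat.pow_le_pow_right (show 0 < 3 by omega) hk3
        omega
    · have := Nat.mul_le_mul_right Q h5
      omega
  have h' : 1 + u * u ≠ 0 := by rwa [add_comm]
  have h1r : 1 - (2 * u / (1 + u * u)) * (2 * u / (1 + u * u)) =
      ((1 - u * u) / (1 + u * u)) * ((1 - u * u) / (1 + u * u)) := by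
    rw [div_mul_div_comm, div_mul_div_comm, eq_div_iff (mul_ne_zero h' h'), sub_mul,
      div_mul_cancel₀ _ (mul_ne_zero h' h')]
    ring
  exact ⟨Units.mk0 _ (ne0 huK), Units.mk0 _ (ne0 (one_sub huK)), huK, one_sub huK, ⟨_, rfl⟩, ⟨_, h1r⟩, 1, K.one_mem,
    (mul_one _).symm⟩

/-- The projective line over a subfield, inside the projective line. -/
def InSub (K : Subfield F) (y : P1) : Prop := y = pInf F ∨ ∃ x ∈ K, y = ptP x

theorem inSub_map {K : Subfield F} (x : Matrix.ProjGenLinGroup (Fin 2) K) :
    InSub K (ProjGenLinGroup.map K.subtype x • pInf F) ∧ InSub K (ProjGenLinGroup.map K.subtype x • pZero F) := by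
  induction x using Matrix.ProjGenLinGroup.induction_on with | mk g => ?_
  rw [ProjGenLinGroup.map_mk]
  set M : GL (Fin 2) F := GeneralLinearGroup.map K.subtype g
  have hM : ∀ i j, M.1 i j ∈ K := fun i j => by simp [M]
  have col : ∀ j : Fin 2, ∀ hv : (fun i => M.1 i j) ≠ 0,
      InSub K (Projectivization.mk F (fun i => M.1 i j) hv) := by
    intro j hv
    by_cases h1 : M.1 1 j = 0
    · refine .inl ((Projectivization.mk_eq_mk_iff' F _ _ _ _).2 ⟨M.1 0 j, ?_⟩)
      ext i; fin_cases i <;> simp [h1]
    · refine .inr ⟨M.1 0 j / M.1 1 j, K.div_mem (hM 0 j) (hM 1 j),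
        (Projectivization.mk_eq_mk_iff' F _ _ _ _).2 ⟨M.1 1 j, ?_⟩⟩
      ext i; fin_cases i <;> simp [mul_div_cancel₀, h1]
  constructor
  · rw [pInf, gl_smul_mk]
    convert col 0 (fun h => M.det_ne_zero (by
      rw [Matrix.det_fin_two, show M.1 0 0 = 0 from congrFun h 0, show M.1 1 0 = 0 from congrFun h 1]; ring)) using 2
    ext i; fin_cases i <;> simp [mulVec, dotProduct]
  · rw [pZero, gl_smul_mk]
    convert col 1 (fun h => M.det_ne_zero (by
      rw [Matrix.det_fin_two, show M.1 0 1 = 0 from congrFun h 0, show M.1 1 1 = 0 from congrFun h 1]; ring)) using 2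
    ext i; fin_cases i <;> simp [mulVec, dotProduct]

/-- Three dilated copies. -/
theorem subfield_dilation_case {K : Subfield F} {X : Subgroup PG}
    (hXK : X ≤ (ProjGenLinGroup.map (n := Fin 2) K.subtype).range) (htr : ∀ x ∈ K, affP (1 : Fˣ) x ∈ X)
    {r t : Fˣ} (hr : (r : F) ∉ K) (ht : (t : F) ∉ K) (hrs : IsSquare (r : F)) (hts : IsSquare (t : F))
    {x : F} (hx : x ∈ K) (he : 1 - (r : F) = (t : F) * x) : Tri L X := by
  have hO : ∀ {g : PG}, g ∈ X → InSub K (g • pInf F) ∧ InSub K (g • pZero F) := fun {g} hg => by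
    obtain ⟨y, rfl⟩ := hXK hg
    exact inSub_map y
  have hset : ∀ {g : PG} {d : Fˣ}, (d : F) ∉ K → g ∈ X → (affP d 0)⁻¹ * g * affP d 0 ∈ X →
      (g • pInf F = pInf F ∨ g • pInf F = pZero F) ∧ (g • pZero F = pInf F ∨ g • pZero F = pZero F) := by
    intro g d hd hg hg'
    have one : ∀ y : P1, affP d 0 • y = y → InSub K (g • y) → InSub K (((affP d 0)⁻¹ * g * affP d 0) • y) →
        g • y = pInf F ∨ g • y = pZero F := by
      intro y hy h1 h2
      rw [mul_smul, mul_smul, hy] at h2
      rcases h2 with h2 | ⟨z, hz, h2⟩ <;> rw [inv_smul_eq_iff] at h2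
      · exact .inl (by rw [h2, affP_smul_inf])
      · rw [affP_smul_pt, add_zero] at h2
        rcases h1 with h1 | ⟨z', hz', h1⟩
        · exact .inl h1
        · rw [h1] at h2
          have e := ptP_injective h2
          by_cases hz0 : z = 0
          · exact .inr (by rw [h1, e, hz0, mul_zero, ptP_zero])
          · exact absurd (by
              have := K.div_mem hz' hz
              rwa [e, mul_div_cancel_right₀ _ hz0] at this) hd
    exact ⟨one _ (affP_smul_inf _ _) (hO hg).1 (hO hg').1,
      one _ (by rw [← ptP_zero, affP_smul_pt, mul_zero, zero_add]) (hO hg).2 (hO hg').2⟩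
  have cj : ∀ (d : Fˣ) (y : F), (affP d 0)⁻¹ * affP 1 ((d : F) * y) * affP d 0 = affP 1 y := fun d y => by
    rw [affP_inv, affP_mul, affP_mul]
    congr 1 <;> simp
  refine Tri.mk' (x := 1) (y := affP r 0) (z := affP t 0) (a := affP 1 1) (b := affP 1 ((r : F) * 1))
    (c := affP 1 ((t : F) * x)) (one_mem L) ((affP_mem_iff _ _).2 hrs) ((affP_mem_iff _ _).2 hts) ?_
    (by simpa using htr 1 K.one_mem) (by rw [cj]; exact htr 1 K.one_mem) (by rw [cj]; exact htr x hx)
    (fun k hA hB hC => ?_)
  · rw [affP_mul]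
    refine congrArg₂ affP (one_mul 1).symm ?_
    rw [← he]
    simp
  rw [inv_one, one_mul, mul_one] at hA
  have hl : k⁻¹ * affP 1 1 ∈ X := X.mul_mem (X.inv_mem hA) (htr 1 K.one_mem)
  obtain ⟨k1, k2⟩ := hset hr hA hB
  obtain ⟨l1, l2⟩ := hset ht hl hC
  have hne : (affP (1 : Fˣ) (1 : F)) • pZero F = ptP 1 := by rw [← ptP_zero, affP_smul_pt]; simp
  have h01 : ptP (1 : F) ≠ pZero F := fun h => one_ne_zero (ptP_injective (h.trans ptP_zero.symm))
  rw [mul_smul, hne, inv_smul_eq_iff, inv_smul_eq_iff] at l2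
  rcases l2 with h | h
  · rcases k1 with h' | h'
    · exact ptP_ne_inf 1 (h.trans h')
    · exact h01 (h.trans h')
  · rcases k2 with h' | h'
    · exact ptP_ne_inf 1 (h.trans h')
    · exact h01 (h.trans h')

end CfsgLib.CharsMore.BinaryPSL2
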