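import Cfsg.Agent.Lib.CharsMore.BinaryPSL2.PairMain
import Cfsg.Agent.Lib.CharsMore.BinaryPSL2.Small

/-!
# Tetrahedral subgroups
-/

set_option autoImplicit false
set_option linter.unusedSectionVars false

namespace CfsgLib.CharsMore.BinaryPSL2

open Matrix MulAction CfsgLib.PSL2 CfsgLib.Classical
open scoped LinearAlgebra.Projectivization

section General

variable {G : Type*} [Group G]

/-- The part of `X` inside the conjugate `g X g⁻¹`, in an abstract copy of `X`. -/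
def dsub {W : Type*} [Group W] (X : Subgroup G) (e : W ≃* X) (g : G) : Subgroup W :=
  X.comap ((MulAut.conj g⁻¹).toMonoidHom.comp (X.subtype.comp e.toMonoidHom))

theorem mem_dsub {W : Type*} [Group W] {X : Subgroup G} {e : W ≃* X} {g : G} {w : W} :
    w ∈ dsub X e g ↔ g⁻¹ * (e w : G) * g ∈ X := by
  rw [dsub, Subgroup.mem_comap]
  simp [MulAut.conj_apply]

/-- A variant of the four-group witness with a weaker commutation hypothesis. -/
theorem tri_four_weak {L H : Subgroup G} {z y n : G} (hn : n ∈ L)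
    (hcz : ∀ k ∈ H, n⁻¹ * k * n ∈ H → Commute k z ∧ Commute k y) (hzH : z ∈ H) (hyH : y ∉ H) (hcy : Commute z y)
    (z2 : z * z = 1)
    (hfour : ∀ k, Commute k z → Commute k y → k = 1 ∨ k = z ∨ k = y ∨ k = z * y)
    (e1 : n * z * n⁻¹ = y) (e2 : n * y * n⁻¹ = z * y) (e3 : n * (z * y) * n⁻¹ = z) : Tri L H := by
  have zy : z * y ∉ H := fun h => hyH (by simpa [← mul_assoc] using H.mul_mem (H.inv_mem hzH) h)
  have back : ∀ {u v : G}, n * u * n⁻¹ = v → n⁻¹ * v * n = u := fun h => by rw [← h]; group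
  have f1 : n⁻¹ * z * n = z * y := back e3
  have f2 : n⁻¹ * (z * y) * n = y := back e2
  have f3 : n⁻¹ * y * n = z := back e1
  refine Tri.mk' (x := 1) (y := n) (z := n * n) (a := z) (b := y) (c := z * y) (one_mem L) hn (L.mul_mem hn hn)
    (by
      have y2 : y * y = 1 := by
        rw [← e1, show n * z * n⁻¹ * (n * z * n⁻¹) = n * (z * z) * n⁻¹ by group, z2, mul_one, mul_inv_cancel]
      rw [hcy.eq, ← mul_assoc, y2, one_mul])
    (by simpa using hzH) (by rwa [f3]) ?_ (fun k hk h1 h2 => ?_)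
  · rw [show (n * n)⁻¹ * (z * y) * (n * n) = n⁻¹ * (n⁻¹ * (z * y) * n) * n by group, f2, f3]
    exact hzH
  rw [inv_one, one_mul, mul_one] at hk
  obtain ⟨hkz, hky⟩ := hcz k hk h1
  rcases hfour k hkz hky with rfl | rfl | rfl | rfl
  · rw [inv_one, one_mul, show (n * n)⁻¹ * z * (n * n) = n⁻¹ * (n⁻¹ * z * n) * n by group, f1, f2] at h2
    exact hyH h2
  · rw [f1] at h1; exact zy h1
  · exact hyH hk
  · exact zy hk

end General

variable {F : Type*} [Field F] [Finite F] {p : ℕ} [Fact p.Prime] [CharP F p]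

local notation "PG" => Matrix.ProjGenLinGroup (Fin 2) F
local notation "PE" => ℙ (Ext2 F p) (Fin 2 → Ext2 F p)
local notation "L" => pslRange F

variable (p) in
include p in
open Small in
/-- A tetrahedral group. -/
theorem tetra_case (hq : 3 < Nat.card F) (h5 : Nat.card F ≠ 5) (ho : Odd (Nat.card F)) {X : Subgroup PG}
    (hX : X ≤ L) (e : alternatingGroup (Fin 4) ≃* X) : Tri L X ∨ Sub4 L X := by
  classical
  have coe_e : ∀ u v : alternatingGroup (Fin 4), (e (u * v) : PG) = e u * e v := fun u v => by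
    rw [map_mul, Subgroup.coe_mul]
  have inj : ∀ {u v : alternatingGroup (Fin 4)}, (e u : PG) = e v → u = v := fun h => e.injective (Subtype.ext h)
  have one_e : (e 1 : PG) = 1 := by rw [map_one, Subgroup.coe_one]
  by_cases hA : ∃ g ∈ L, ∃ a x : alternatingGroup (Fin 4), a * a * a = 1 ∧ a ≠ 1 ∧ a ∈ dsub X e g ∧
      x * x = 1 ∧ x ≠ 1 ∧ x ∉ dsub X e g
  · obtain ⟨g, hg, a, x, ha, ha1, had, hx, hx1, hxd⟩ := hA
    refine .inr (Sub4.of_equiv e hg (dsub X e g) (fun w => mem_dsub) ?_)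
    suffices h : dsub X e g = Subgroup.zpowers a by rw [h]; exact tri_A4 ha ha1
    refine le_antisymm (fun d hd => ?_) (Subgroup.zpowers_le.2 had)
    rw [← inThree_iff ha]
    by_contra hnd
    set v := a * d * a⁻¹ * d⁻¹ with hv
    have hvd : v ∈ dsub X e g := mul_mem (mul_mem (mul_mem had hd) (inv_mem had)) (inv_mem hd)
    rcases unique_A4 a v x (word_A4 a d ha ha1 hnd) hx hx1 with rfl | rfl | rfl
    · exact hxd hvd
    · exact hxd (mul_mem (mul_mem had hvd) (inv_mem had))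
    · exact hxd (mul_mem (mul_mem (inv_mem had) hvd) had)
  left
  push Not at hA
  obtain ⟨a₀, x₀, ha₀, ha₀1, hx₀, hx₀1⟩ := exists_A4
  set x : PG := (e x₀ : PG) with hxdef
  have hxX : x ∈ X := (e x₀).2
  have x2 : x * x = 1 := by rw [hxdef, ← coe_e, hx₀, one_e]
  have x1 : x ≠ 1 := fun h => hx₀1 (inj (h.trans one_e.symm))
  obtain ⟨c, d, hgood, xc, xd, -⟩ := invol_fix (p := p) ho (hX hxX) x1 x2
  have hPE : P1Like p PG PE := p1Like_ext
  obtain ⟨r, w, hr, hw, rc, rd, wc, wd, hord, -⟩ := torus_data hq hgood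
  have hm : 3 ≤ orderOf r := by
    have h := torus_ge (p := p) ho c
    obtain ⟨k, hk⟩ := ho
    rw [hord]; omega
  obtain ⟨y, hy, yc, yd, hyX⟩ : ∃ y ∈ L, y • c = d ∧ y • d = c ∧ y ∉ X := by
    by_contra! h
    have h0 := h w hw wc wd
    have h1 := h (w * r) ((L).mul_mem hw hr) (by rw [mul_smul, rc, wc]) (by rw [mul_smul, rd, wd])
    have h2 := h (w * r * r) ((L).mul_mem ((L).mul_mem hw hr) hr) (by rw [mul_smul, rc, mul_smul, rc, wc])
      (by rw [mul_smul, rd, mul_smul, rd, wd])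
    have key : ∀ u ∈ X, u • c = d → u • d = c → u = e (a₀ * x₀ * a₀⁻¹) ∨ u = e (a₀⁻¹ * x₀ * a₀) := by
      intro u hu uc ud
      obtain ⟨u₀, hu₀⟩ : ∃ u₀, (e u₀ : PG) = u := ⟨e.symm ⟨u, hu⟩, by rw [MulEquiv.apply_symm_apply]⟩
      have u2 : u₀ * u₀ = 1 := inj (by rw [coe_e, hu₀, one_e]; exact hPE.swap_sq hgood.1 uc ud)
      have u1 : u₀ ≠ 1 := fun h => hgood.1 (by rw [← uc, ← hu₀, h, one_e, one_smul])
      rcases unique_A4 a₀ x₀ u₀ (involution_A4 a₀ x₀ ha₀ ha₀1 hx₀ hx₀1) u2 u1 with rfl | rfl | rfl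
      · rw [← hu₀] at uc
        exact absurd (xc.symm.trans uc) hgood.1
      · exact .inl hu₀.symm
      · exact .inr hu₀.symm
    have k0 := key _ h0 wc wd
    have k1 := key _ h1 (by rw [mul_smul, rc, wc]) (by rw [mul_smul, rd, wd])
    have k2 := key _ h2 (by rw [mul_smul, rc, mul_smul, rc, wc]) (by rw [mul_smul, rd, mul_smul, rd, wd])
    have d01 : w ≠ w * r := fun h => by
      have : r = 1 := mul_eq_left.1 h.symm
      rw [this, orderOf_one] at hm; omega
    have d12 : w * r ≠ w * r * r := fun h => by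
      have : r = 1 := mul_eq_left.1 h.symm
      rw [this, orderOf_one] at hm; omega
    have d02 : w ≠ w * r * r := fun h => by
      have := orderOf_le_of_pow_eq_one (x := r) two_pos (by
        rw [pow_two]; rw [mul_assoc] at h; exact mul_eq_left.1 h.symm)
      omega
    rcases k0 with k0 | k0 <;> rcases k1 with k1 | k1 <;> rcases k2 with k2 | k2
    all_goals first
      | exact d01 (k0.trans k1.symm)
      | exact d12 (k1.trans k2.symm)
      | exact d02 (k0.trans k2.symm)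
  have y1 : y ≠ 1 := fun h => hgood.1 (by rw [← yc, h, one_smul])
  have hxy : Commute x y := (commute_of_swap_fix hPE hgood.1 yc yd xc xd x2).symm
  have hfp : FourPair x y := ⟨hX hxX, hy, x1, y1, fun h => hyX (h ▸ hxX), x2, hPE.swap_sq hgood.1 yc yd, hxy⟩
  obtain ⟨n, hn, e1, e2, e3⟩ := exists_cycle p ho hfp
  refine tri_four_weak hn (fun k hk hkn => ?_) hxX hyX hxy x2 (fun k h1 h2 => by
    simpa using hfp.centralizer p ho h1 h2) e1 e2 e3
  obtain ⟨k₀, rfl⟩ : ∃ k₀, (e k₀ : PG) = k := ⟨e.symm ⟨k, hk⟩, by rw [MulEquiv.apply_symm_apply]⟩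
  obtain ⟨l₀, hl₀⟩ : ∃ l₀, (e l₀ : PG) = n⁻¹ * e k₀ * n := ⟨e.symm ⟨_, hkn⟩, by rw [MulEquiv.apply_symm_apply]⟩
  by_cases hk1 : k₀ = 1
  · rw [hk1, one_e]; exact ⟨Commute.one_left _, Commute.one_left _⟩
  have hk3 : k₀ * k₀ * k₀ ≠ 1 := fun h3 => by
    have h := mem_dsub.1 (hA n hn k₀ x₀ h3 hk1 (mem_dsub.2 hkn) hx₀ hx₀1)
    rw [show n⁻¹ * x * n = x * y by
      calc n⁻¹ * x * n = n⁻¹ * (n * (x * y) * n⁻¹) * n := by rw [e3]
        _ = x * y := by group] at h
    exact hyX (by simpa [← mul_assoc] using X.mul_mem (X.inv_mem hxX) h)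
  have hl3 : l₀ * l₀ * l₀ ≠ 1 := fun h => hk3 (inj (by
    rw [coe_e, coe_e, one_e]
    calc (e k₀ : PG) * e k₀ * e k₀ = n * (n⁻¹ * e k₀ * n * (n⁻¹ * e k₀ * n) * (n⁻¹ * e k₀ * n)) * n⁻¹ := by group
      _ = 1 := by rw [← hl₀, ← coe_e, ← coe_e, h, one_e]; group))
  refine ⟨?_, ?_⟩
  · show _ * x = x * _
    rw [hxdef, ← coe_e, ← coe_e, (dichotomy_A4 x₀ k₀ hx₀ hk3).2]
  · have hc : Commute (n⁻¹ * e k₀ * n) x := by
      show _ * x = x * _
      rw [← hl₀, hxdef, ← coe_e, ← coe_e, (dichotomy_A4 x₀ l₀ hx₀ hl3).2]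
    have := hc.map (MulAut.conj n).toMonoidHom
    simp only [MulEquiv.coe_toMonoidHom, MulAut.conj_apply] at this
    rwa [e1, show n * (n⁻¹ * (e k₀ : PG) * n) * n⁻¹ = e k₀ by group] at this

end CfsgLib.CharsMore.BinaryPSL2
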